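import Cfsg.Agent.H921.SporWord
import Cfsg.Agent.J2.HundredGens
import Cfsg.Agent.S1619

/-!
# The Hall-Janko group: configurations
-/

set_option autoImplicit false
set_option maxRecDepth 100000

namespace Cfsg.Agent.H921.Spor.J2

open Cfsg.Agent.J2.HundredGens Cfsg.Agent.SporadicA.J2Hundred Cfsg.Agent.SporadicA.PermTab

/-- words in the five generators -/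
noncomputable def wd : Wd G where
  W := fun L => ⟨pw L, pw_mem L⟩
  nil := rfl
  app := fun u v => Subtype.ext (pw_append u v)
  eq := chk
  eq_sound := fun h => Subtype.ext (pw_eq h)
  ne := fun u => (List.range 100).any fun i => !Nat.beq (run u i) i
  ne_sound := by
    intro u h h1
    rw [List.any_eq_true] at h
    obtain ⟨i, hi, h2⟩ := h
    have h3 : pw u = 1 := congrArg Subtype.val h1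
    have h4 := pw_val u ⟨i, List.mem_range.1 hi⟩
    rw [h3] at h4
    have h5 : i = run u i := h4
    rw [← h5] at h2
    simp at h2

/-- the isomorphism of `J2` with the group on 100 points -/
theorem exists_iso : Nonempty (Cfsg.Spor.J2 ≃* G) := J2_iso Cfsg.Agent.S1619.result.2.2.2

theorem J2_seven : Orb 7 6 Cfsg.Spor.J2 :=
  (wd.orb (r := 7) (d := 1) (M := 6) (m := 6)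
    (X := [[1, 0, 3, 2, 3, 4, 3, 0, 1, 2, 3, 0, 2, 1, 2, 0, 1, 3, 0, 1, 2, 3, 1, 0, 2, 1, 0, 1, 2, 3, 2]])
    (S := [[], [1, 0, 1, 3, 0, 1, 2, 4, 3, 2, 1, 2, 3, 4, 2, 1, 0, 3, 1, 0, 2, 1, 3], [2, 4, 2, 3, 2, 3, 1, 2, 4, 0, 1,
    0, 3, 2, 3, 4, 1, 0, 2, 1, 3, 2, 3, 2, 4, 2, 3, 2, 1, 0, 1, 2, 0, 1, 3, 2, 1, 0, 3, 1, 0, 2, 1, 3], [3, 1, 2,
    1, 4, 3, 2, 3, 2, 1, 4, 3, 2, 3, 1, 4, 0, 1, 0, 1, 2, 3, 4, 3, 1, 2, 0, 1, 3, 0, 1, 2, 3, 1, 0, 2, 1, 0, 1,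
    2, 3, 2], [0, 1, 0, 4, 2, 1, 0, 3, 4, 3, 2, 1, 2, 3, 4, 2, 3, 2, 1, 0, 1, 2, 0, 1, 3, 2, 1, 0, 3, 1, 0, 2, 1,
    3], [3, 2, 1, 0, 3, 0, 2, 1, 2, 0, 1, 3, 0, 1, 2, 3, 1, 0, 2, 1, 0, 1, 2, 3, 2]])
    (Al := [[[1]], [[2]], [[3]], [[4]], [[5]], [[6]]])
    (c₀ := [1]) (by norm_num) (by decide +kernel)).of_equiv' exists_iso.some

theorem J2_five : Orb 5 6 Cfsg.Spor.J2 :=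
  (wd.orb (r := 5) (d := 2) (M := 10) (m := 6)
    (X := [[0, 3, 4, 2, 3, 2, 1, 0, 3, 4, 3, 1, 2, 3, 2, 1, 4, 3, 1, 2, 0, 1, 3, 0, 1, 2], [4, 3, 0, 1, 2, 0, 3, 2, 3,
    2, 1, 0, 2, 3, 2, 4, 1, 3, 2, 1, 0, 3, 4, 1, 3, 4, 2, 3, 0, 1, 2, 0, 1, 3, 2, 3, 2, 4, 1, 0, 3, 1, 2, 3, 4]])
    (S := [[], [4, 3, 0, 1, 2, 3, 2, 0, 1, 2, 3, 2, 4, 3, 2, 1, 2, 3, 4, 2, 3, 0, 1, 0, 1, 0, 2, 1, 0, 3, 2, 1, 0, 3,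
    1, 0, 2, 1, 3], [3, 2, 3, 4, 3, 2, 3, 2, 1, 0, 4, 3, 2, 1, 2, 3, 4, 3, 1, 2, 0, 1, 3, 0, 1, 2], [1, 0, 3, 4,
    2, 0, 1, 0, 2, 4, 3, 2, 1, 2, 3, 4, 1, 2, 1, 3, 2, 0, 1, 0, 2], [0, 3, 0, 1, 2, 3, 0, 1, 2, 3, 4, 3, 1, 2, 3,
    2, 1, 4, 3, 0, 1, 0, 1, 0, 2, 3, 4, 3, 2, 3, 1, 2, 3, 2, 3, 4, 3, 1, 0, 1, 2, 3, 0, 1, 0, 1, 0, 2, 1, 0, 3,
    2, 1, 0, 3, 1, 0, 2, 1, 3], [1, 3, 2, 3, 2, 4, 1, 0, 1, 2, 3, 2, 1, 0, 4, 3, 1, 2, 3, 2, 4, 3, 0, 1, 3, 4, 3,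
    2, 3, 2, 1, 3, 2, 3, 4, 3, 2, 0, 1, 0, 1, 2, 3, 2, 3, 0, 1, 0, 1, 0, 2, 1, 0, 3, 2, 1, 0, 3, 1, 0, 2, 1, 3],
    [3, 1, 0, 2, 1, 3, 0, 2, 4, 1, 3, 2, 3, 2, 4, 1, 2, 1, 0, 3, 1, 0, 2, 1, 3], [1, 0, 3, 2, 3, 4, 1, 0, 1, 2,
    1, 0, 3, 4, 1, 2, 3, 2, 1, 3, 4, 3, 1, 2, 1, 3, 2, 0, 1, 0, 2, 3, 1, 2, 0, 1, 3, 0, 1, 2, 3, 0, 1, 2, 0, 1,
    0, 1, 0, 3, 2], [1, 3, 2, 3, 2, 4, 2, 1, 0, 3, 2, 1, 0, 3, 2, 1, 0, 3, 4, 3, 2, 1, 2, 3, 4, 2, 0, 1, 0, 1, 2,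
    3], [4, 3, 2, 3, 0, 1, 3, 0, 1, 2]])
    (Al := [[[1, 0], [0, 1]], [[1, 0], [0, 4]], [[2, 1], [2, 3]], [[2, 4], [2, 2]], [[2, 1], [3, 2]], [[2, 4], [3, 3]],
    [[3, 1], [2, 2]], [[3, 4], [2, 3]], [[3, 1], [3, 3]], [[3, 4], [3, 2]]])
    (c₀ := [0, 1]) (by norm_num) (by decide +kernel)).of_equiv' exists_iso.some

theorem J2_two : Orb 2 12 Cfsg.Spor.J2 :=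
  (wd.orb (r := 2) (d := 4) (M := 12) (m := 12)
    (X := [[1, 3, 2, 0, 1, 0, 1, 0, 3, 2, 1, 0, 3, 1, 0, 2, 1, 3], [4, 3, 4, 3, 1, 2, 3, 2, 4, 3, 1], [3, 4, 3, 2, 3,
    4, 3, 1, 0, 1, 3, 4, 2, 3, 2, 0, 1, 4, 3, 2, 3, 2, 4, 1, 0, 1, 0, 3, 2, 3, 4, 2, 3, 2, 1, 0, 1, 2, 0, 1, 3,
    2, 1, 0, 3, 1, 0, 2, 1, 3], [1, 2, 0, 1, 0, 1, 0, 3, 1, 2, 1, 3, 2, 0, 1, 2, 3, 2, 3]])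
    (S := [[0, 1, 0, 2, 3, 4, 3, 4, 3, 1, 2, 3, 2, 4, 3, 2, 1, 2, 1, 0, 3, 2, 1, 0, 4, 3, 2, 3, 1, 2, 3, 2, 3, 4, 3, 1,
    0, 1, 2, 3, 2, 1, 0, 1, 2, 0, 1, 3, 2, 1, 0, 3, 1, 0, 2, 1, 3], [0, 1, 2, 1, 0, 3, 4, 2, 0, 1, 0, 2, 4, 3, 2,
    1, 3, 2, 1, 2, 0, 1, 2, 4, 2, 3, 0, 2, 1, 0, 3, 4, 2, 1, 3, 2, 3, 2, 4, 0], [2, 3, 4, 3, 4, 3, 1, 2, 3, 2, 1,
    4, 1, 0, 1, 3, 0, 2, 4, 1, 3, 2, 4, 1, 3, 4, 2, 0, 1, 0, 1, 2, 3], [0, 2, 1, 0, 2, 3, 2, 1, 0, 2, 3, 1, 2,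
    1], [1, 4, 3, 2, 3, 2, 4, 3, 0, 1, 2, 4, 3, 2, 1, 2, 3, 4, 2, 0, 1, 0, 2, 3, 1, 2, 1, 3, 1, 2, 0, 1, 3, 0, 1,
    2, 3, 1, 0, 2, 1, 0, 1, 2, 3, 2], [0, 3, 4, 3, 2, 1, 0, 3, 4, 2, 3, 2, 0, 1, 0, 1, 0, 2, 3, 2, 4, 1, 0, 1, 2,
    1, 2, 3], [4, 3, 0, 4, 3, 1, 2, 3, 2, 4, 3, 1, 3, 0, 2, 1, 2, 0, 1, 3, 0, 1, 2, 3, 1, 0, 2, 1, 0, 1, 2, 3,
    2], [3, 2, 3, 2, 4, 2, 3, 2, 1, 0, 4, 3, 1, 0, 2, 1, 2, 1, 0, 1, 0, 4, 3, 2, 3, 4, 1, 3, 2, 3, 2, 4, 3, 1, 2,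
    0, 1, 3, 0, 1, 2, 3, 1, 0, 2, 1, 0, 1, 2, 3, 2], [0, 2, 4, 1, 0, 1, 4, 2, 3, 2, 0, 1, 0, 1, 0, 2, 3, 2, 4, 3,
    1, 2, 0, 1, 3, 0, 1, 2, 3, 1, 2, 0, 1, 3, 0, 1, 2, 3, 1, 0, 2, 1, 0, 1, 2, 3, 2], [3, 2, 1, 0, 3, 2, 3, 4, 3,
    4, 3, 1, 2, 3, 2, 4, 3, 2, 1, 2, 1, 0, 3, 4, 2, 3, 2, 0, 1, 0, 1, 0, 2, 3, 2, 4, 1, 0, 1, 2, 1, 2, 1, 2, 0,
    1, 3, 0, 1, 2, 3, 1, 0, 2, 1, 0, 1, 2, 3, 2], [1, 2, 4, 3, 2, 3, 4, 2, 3, 2, 1, 0, 3, 4, 3, 1, 2, 3, 2, 1, 4,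
    3, 1, 2, 0, 1, 3, 0, 1, 3, 2, 1, 0, 1, 2, 0, 1, 3, 2, 1, 0, 3, 1, 0, 2, 1, 3], [0, 1, 0, 4, 1, 0, 1, 2, 1, 0,
    3, 4, 1, 2, 3, 2, 1, 3, 4, 3, 2, 3, 2, 1, 0, 1, 2, 0, 1, 3, 2, 1, 0, 3, 1, 0, 2, 1, 3]])
    (Al := [[[0, 0, 0, 1], [0, 0, 1, 0], [0, 1, 1, 0], [1, 0, 0, 1]], [[0, 0, 0, 1], [0, 0, 1, 1], [1, 1, 1, 0], [1, 0,
    0, 1]], [[0, 0, 0, 1], [1, 0, 1, 0], [1, 1, 1, 1], [1, 0, 0, 1]], [[0, 0, 0, 1], [1, 0, 1, 1], [0, 1, 1, 1],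
    [1, 0, 0, 1]], [[1, 0, 0, 0], [0, 0, 1, 0], [0, 1, 1, 1], [0, 0, 0, 1]], [[1, 0, 0, 0], [0, 0, 1, 1], [1, 1,
    1, 1], [0, 0, 0, 1]], [[1, 0, 0, 0], [1, 0, 1, 0], [1, 1, 1, 0], [0, 0, 0, 1]], [[1, 0, 0, 0], [1, 0, 1, 1],
    [0, 1, 1, 0], [0, 0, 0, 1]], [[1, 0, 0, 1], [0, 0, 1, 0], [1, 1, 1, 1], [1, 0, 0, 0]], [[1, 0, 0, 1], [0, 0,
    1, 1], [0, 1, 1, 1], [1, 0, 0, 0]], [[1, 0, 0, 1], [1, 0, 1, 0], [0, 1, 1, 0], [1, 0, 0, 0]], [[1, 0, 0, 1],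
    [1, 0, 1, 1], [1, 1, 1, 0], [1, 0, 0, 0]]])
    (c₀ := [0, 0, 0, 1]) (by norm_num) (by decide +kernel)).of_equiv' exists_iso.some

end Cfsg.Agent.H921.Spor.J2
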