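import Cfsg.Agent.H921.SporWord

/-!
# Linear configurations from generators of the normaliser
-/

set_option autoImplicit false

namespace Cfsg.Agent.H921.Spor

universe v w

variable {T : Type v} [Group T] {r : ℕ}

/-- sum of vectors modulo `r` -/
def vadd (r : ℕ) : List ℕ → List ℕ → List ℕ
  | a :: l, b :: m => (a + b) % r :: vadd r l m
  | _, _ => []

/-- multiple of a vector modulo `r` -/
def vsmul (r c : ℕ) (l : List ℕ) : List ℕ := l.map fun a => c * a % r

/-- linear combination of rows -/
def lincomb (r d : ℕ) : List ℕ → List (List ℕ) → List ℕ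
  | a :: l, b :: m => vadd r (vsmul r a b) (lincomb r d l m)
  | _, _ => List.replicate d 0

/-- product of matrices given by rows: the matrix of `g s` from that of `g` (`B`) and of `s` (`A`) -/
def mmul (r d : ℕ) (B A : List (List ℕ)) : List (List ℕ) := A.map fun row => lincomb r d row B

/-- identity matrix -/
def mone (d : ℕ) : List (List ℕ) := (List.range d).map fun i => (List.range d).map fun j => bif Nat.beq i j then 1 else 0

/-- matrix of a word -/
def mword (r d : ℕ) (B : List (List (List ℕ))) : List ℕ → List (List ℕ)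
  | [] => mone d
  | k :: w => mmul r d (B.getD k []) (mword r d B w)

/-- product of a word -/
def gword (g : ℕ → T) : List ℕ → T
  | [] => 1
  | k :: w => g k * gword g w

section

variable {x : ℕ → T} (hx : ∀ i, x i ^ r = 1) (hc : ∀ i j, x i * x j = x j * x i)

include hx in
theorem pow_mod_eq (i a : ℕ) : x i ^ (a % r) = x i ^ a := by
  conv_rhs => rw [← Nat.mod_add_div a r, pow_add, pow_mul, hx, one_pow, mul_one]

include hc in
theorem pv_comm_x (i j : ℕ) (l : List ℕ) : x i * pv x j l = pv x j l * x i := by
  induction l generalizing j with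
  | nil => simp [pv]
  | cons a l ih =>
    have h1 : x i * x j ^ a = x j ^ a * x i := (Commute.pow_right (hc i j) a).eq
    calc x i * (x j ^ a * pv x (j + 1) l) = x i * x j ^ a * pv x (j + 1) l := by rw [mul_assoc]
      _ = x j ^ a * (x i * pv x (j + 1) l) := by rw [h1, mul_assoc]
      _ = x j ^ a * pv x (j + 1) l * x i := by rw [ih, mul_assoc]

include hc in
theorem pv_comm_pow (i a j : ℕ) (l : List ℕ) : x i ^ a * pv x j l = pv x j l * x i ^ a :=
  (Commute.pow_left (pv_comm_x hc i j l) a).eq

include hx hc in
theorem pv_vadd : ∀ {l m : List ℕ} (i : ℕ), l.length = m.length → pv x i (vadd r l m) = pv x i l * pv x i m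
  | [], [], _, _ => (mul_one 1).symm
  | a :: l, b :: m, i, h => by
    change x i ^ ((a + b) % r) * pv x (i + 1) (vadd r l m) = x i ^ a * pv x (i + 1) l * (x i ^ b * pv x (i + 1) m)
    rw [pow_mod_eq hx, pv_vadd (l := l) (m := m) (i + 1) (by simpa using h), pow_add]
    have h1 := pv_comm_pow hc i b (i + 1) l
    calc x i ^ a * x i ^ b * (pv x (i + 1) l * pv x (i + 1) m)
        = x i ^ a * (x i ^ b * pv x (i + 1) l) * pv x (i + 1) m := by simp only [mul_assoc]
      _ = x i ^ a * (pv x (i + 1) l * x i ^ b) * pv x (i + 1) m := by rw [h1]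
      _ = _ := by simp only [mul_assoc]

include hx hc in
theorem pv_vsmul (c : ℕ) : ∀ (l : List ℕ) (i : ℕ), pv x i (vsmul r c l) = pv x i l ^ c
  | [], _ => (one_pow c).symm
  | a :: l, i => by
    change x i ^ (c * a % r) * pv x (i + 1) (vsmul r c l) = (x i ^ a * pv x (i + 1) l) ^ c
    rw [pow_mod_eq hx, pv_vsmul c l (i + 1), (show Commute (x i ^ a) (pv x (i + 1) l) from pv_comm_pow hc i a _ l).mul_pow,
      ← pow_mul, mul_comm c a]

theorem pv_zero (d i : ℕ) : pv x i (List.replicate d 0) = 1 := by
  induction d generalizing i with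
  | zero => rfl
  | succ d ih =>
    change x i ^ 0 * pv x (i + 1) (List.replicate d 0) = 1
    rw [pow_zero, one_mul, ih]

theorem length_vadd {l m : List ℕ} (h : l.length = m.length) : (vadd r l m).length = l.length := by
  induction l generalizing m with
  | nil => cases m <;> simp_all [vadd]
  | cons a l ih =>
    cases m with
    | nil => simp at h
    | cons b m => simp [vadd, ih (m := m) (by simpa using h)]

theorem length_vsmul (c : ℕ) (l : List ℕ) : (vsmul r c l).length = l.length := by simp [vsmul]

theorem length_lincomb (d : ℕ) : ∀ (l : List ℕ) (B : List (List ℕ)), (∀ b ∈ B, b.length = d) → (lincomb r d l B).length = d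
  | a :: l, b :: m, h => by
    have h1 := length_lincomb d l m (fun b hb => h b (List.mem_cons_of_mem _ hb))
    have h2 := h b List.mem_cons_self
    unfold lincomb
    rw [length_vadd (by rw [length_vsmul, h1, h2]), length_vsmul, h2]
  | [], _, _ => by simp [lincomb]
  | _ :: _, [], _ => by simp [lincomb]

include hx hc in
theorem pv_lincomb (d : ℕ) : ∀ (l : List ℕ) (B : List (List ℕ)) (_ : ∀ b ∈ B, b.length = d) (_ : l.length = B.length)
    (y : ℕ → T) (i : ℕ) (_ : ∀ j < B.length, y (i + j) = pv x 0 (B.getD j [])), pv x 0 (lincomb r d l B) = pv y i l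
  | [], [], _, _, _, _, _ => by
    change pv x 0 (List.replicate d 0) = 1
    exact pv_zero d 0
  | a :: l, b :: B, hB, hl, y, i, hy => by
    have hB' : ∀ b ∈ B, b.length = d := fun b hb => hB b (List.mem_cons_of_mem _ hb)
    change pv x 0 (vadd r (vsmul r a b) (lincomb r d l B)) = y i ^ a * pv y (i + 1) l
    rw [pv_vadd hx hc 0 (by rw [length_vsmul, length_lincomb d l B hB', hB b List.mem_cons_self]), pv_vsmul hx hc,
      pv_lincomb d l B hB' (by simpa using hl) y (i + 1)]
    · have h1 := hy 0 (by simp)
      rw [add_zero, List.getD_cons_zero] at h1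
      rw [h1]
    · intro j hj
      have h1 := hy (j + 1) (by simpa using hj)
      rw [List.getD_cons_succ] at h1
      rw [show i + 1 + j = i + (j + 1) by omega]
      exact h1

theorem conj_pv (g : T) (y : ℕ → T) (l : List ℕ) (i : ℕ) : g * pv y i l * g⁻¹ = pv (fun j => g * y j * g⁻¹) i l := by
  induction l generalizing i with
  | nil => simp [pv]
  | cons a l ih =>
    change g * (y i ^ a * pv y (i + 1) l) * g⁻¹ = (g * y i * g⁻¹) ^ a * pv (fun j => g * y j * g⁻¹) (i + 1) l
    rw [← ih, conj_pow]
    group

/-- `pv` only depends on the values in the range -/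
theorem pv_congr {y z : ℕ → T} : ∀ (l : List ℕ) (i : ℕ), (∀ j < l.length, y (i + j) = z (i + j)) → pv y i l = pv z i l
  | [], _, _ => rfl
  | a :: l, i, h => by
    change y i ^ a * pv y (i + 1) l = z i ^ a * pv z (i + 1) l
    have h1 := h 0 (by simp)
    rw [add_zero] at h1
    rw [h1, pv_congr l (i + 1)]
    intro j hj
    have h2 := h (j + 1) (by simpa using hj)
    rw [show i + 1 + j = i + (j + 1) by omega]
    exact h2

/-- shapes of matrices -/
def Shape (d : ℕ) (B : List (List ℕ)) : Prop := B.length = d ∧ ∀ b ∈ B, b.length = d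

theorem shape_mone (d : ℕ) : Shape d (mone d) := by
  refine ⟨by simp [mone], ?_⟩
  intro b hb
  unfold mone at hb
  rw [List.mem_map] at hb
  obtain ⟨i, _, rfl⟩ := hb
  simp

theorem shape_mword {d : ℕ} {B : List (List (List ℕ))} (hB : ∀ b ∈ B, Shape d b) (hd : 0 < d) (w : List ℕ)
    (hw : ∀ k ∈ w, k < B.length) : Shape d (mword r d B w) := by
  induction w with
  | nil => exact shape_mone d
  | cons k w ih =>
    have ih := ih (fun j hj => hw j (List.mem_cons_of_mem _ hj))
    have hk := hw k List.mem_cons_self
    have hBk : Shape d (B.getD k []) := by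
      rw [List.getD_eq_getElem _ _ hk]
      exact hB _ (List.getElem_mem hk)
    refine ⟨by simp [mword, mmul, ih.1], ?_⟩
    intro b hb
    unfold mword mmul at hb
    rw [List.mem_map] at hb
    obtain ⟨row, _, rfl⟩ := hb
    exact length_lincomb d row _ hBk.2

include hx hc in
theorem conj_gword {d : ℕ} {B : List (List (List ℕ))} {g : ℕ → T} (hB : ∀ b ∈ B, Shape d b) (hd : 0 < d)
    (hg : ∀ k < B.length, ∀ i < d, g k * x i * (g k)⁻¹ = pv x 0 ((B.getD k []).getD i []))
    (w : List ℕ) (hw : ∀ k ∈ w, k < B.length) (i : ℕ) (hi : i < d) :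
    gword g w * x i * (gword g w)⁻¹ = pv x 0 ((mword r d B w).getD i []) := by
  induction w with
  | nil =>
    change 1 * x i * 1⁻¹ = _
    rw [one_mul, inv_one, mul_one]
    change _ = pv x 0 ((mone d).getD i [])
    unfold mone
    rw [List.getD_eq_getElem _ _ (by simpa using hi)]
    simp only [List.getElem_map, List.getElem_range]
    -- `pv x 0 (e_i) = x i`
    have key : ∀ (n j : ℕ), pv x j ((List.range' j n).map fun k => bif Nat.beq i k then 1 else 0) =
        if j ≤ i ∧ i < j + n then x i else 1 := by
      intro n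
      induction n with
      | zero =>
        intro j
        rw [if_neg (by omega)]
        rfl
      | succ n ih =>
        intro j
        rw [List.range'_succ, List.map_cons]
        change x j ^ (bif Nat.beq i j then 1 else 0) * pv x (j + 1) _ = _
        rw [ih]
        by_cases h : i = j
        · subst h
          rw [if_neg (by omega), if_pos (by omega)]
          simp
        · have h1 : Nat.beq i j = false := by
            rw [← Bool.not_eq_true]
            intro h2
            exact h (Nat.eq_of_beq_eq_true h2)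
          rw [h1, cond_false, pow_zero, one_mul]
          by_cases h2 : j + 1 ≤ i ∧ i < j + 1 + n
          · rw [if_pos h2, if_pos (by omega)]
          · rw [if_neg h2, if_neg (by omega)]
    have h1 := key d 0
    rw [if_pos (by omega)] at h1
    rw [List.range_eq_range']
    exact h1.symm
  | cons k w ih =>
    have ih := ih (fun j hj => hw j (List.mem_cons_of_mem _ hj))
    have hk := hw k List.mem_cons_self
    have hBk : Shape d (B.getD k []) := by
      rw [List.getD_eq_getElem _ _ hk]
      exact hB _ (List.getElem_mem hk)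
    have hwS : Shape d (mword r d B w) := shape_mword hB hd w (fun j hj => hw j (List.mem_cons_of_mem _ hj))
    change g k * gword g w * x i * (g k * gword g w)⁻¹ = _
    have h1 : g k * gword g w * x i * (g k * gword g w)⁻¹ = g k * (gword g w * x i * (gword g w)⁻¹) * (g k)⁻¹ := by
      group
    rw [h1, ih, conj_pv]
    have h2 : (mword r d B (k :: w)).getD i [] = lincomb r d ((mword r d B w).getD i []) (B.getD k []) := by
      change ((mword r d B w).map fun row => lincomb r d row (B.getD k [])).getD i [] = _
      have hlen : i < (mword r d B w).length := lt_of_lt_of_eq hi hwS.1.symm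
      rw [List.getD_eq_getElem (mword r d B w) [] hlen, List.getD_eq_getElem _ [] (by rw [List.length_map]; exact hlen),
        List.getElem_map]
    rw [h2]
    have hlen : ((mword r d B w).getD i []).length = d := by
      have hlen : i < (mword r d B w).length := lt_of_lt_of_eq hi hwS.1.symm
      rw [List.getD_eq_getElem (mword r d B w) [] hlen]
      exact hwS.2 _ (List.getElem_mem _)
    symm
    refine pv_lincomb hx hc d _ _ hBk.2 (by rw [hlen, hBk.1]) _ 0 ?_
    intro j hj
    rw [zero_add]
    exact hg k hk j (by rw [← hBk.1]; exact hj)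

end

/-- `Orb.of_lin` with the conjugating elements given as words in generators. -/
theorem Orb.of_gen (hr : r.Prime) (d m : ℕ) (hd0 : 0 < d) (x g : ℕ → T) (hx : ∀ i, x i ^ r = 1)
    (hxd : ∀ i, d ≤ i → x i = 1) (hc : ∀ i j, x i * x j = x j * x i) (c₀ : List ℕ) (h₀ : pv x 0 c₀ ≠ 1)
    (B : List (List (List ℕ))) (hB : ∀ b ∈ B, Shape d b)
    (hg : ∀ k < B.length, ∀ i < d, g k * x i * (g k)⁻¹ = pv x 0 ((B.getD k []).getD i []))
    (S : List (List ℕ)) (hS : ∀ w ∈ S, ∀ k ∈ w, k < B.length)
    (hd : (vecs r d).all (fun χ => Nat.beq (dot χ c₀ % r) 0 ||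
      Nat.ble m (cnt (S.map fun w => enc r χ (mword r d B w)))) = true) : Orb r m T := by
  have hS' : ∀ j < S.length, ∀ k ∈ S.getD j [], k < B.length := by
    intro j hj
    rw [List.getD_eq_getElem _ _ hj]
    exact hS _ (List.getElem_mem hj)
  refine Orb.of_lin hr d S.length m x (fun j => gword g (S.getD j [])) hx hxd hc c₀ h₀
    (fun j => mword r d B (S.getD j [])) ?_ ?_ ?_
  · intro j hj
    exact (shape_mword hB hd0 _ (hS' j hj)).1
  · intro j hj i hi
    exact conj_gword hx hc hB hd0 hg _ (hS' j hj) i hi
  · have h1 : ∀ χ, (List.range S.length).map (fun j => enc r χ (mword r d B (S.getD j []))) =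
        S.map fun w => enc r χ (mword r d B w) := by
      intro χ
      apply List.ext_getElem
      · simp
      · intro n h1 h2
        have h3 : n < S.length := by simpa using h2
        simp only [List.getElem_map, List.getElem_range]
        rw [List.getD_eq_getElem _ _ h3]
    simp only [h1]
    exact hd

namespace Wd

variable (w : Wd T)

/-- The conditions of `Orb.of_gen`, closed form. -/
def _root_.Cfsg.Agent.H921.Spor.chkG0 (eq : List ℕ → List ℕ → Bool) (ne : List ℕ → Bool) (r d m : ℕ)
    (X G : List (List ℕ)) (B : List (List (List ℕ))) (S : List (List ℕ)) (c₀ : List ℕ) : Bool :=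
  Nat.beq X.length d && Nat.blt 0 d &&
  (X.all fun P => eq (rep P r) []) &&
  (X.all fun P => X.all fun Q => eq (P ++ Q) (Q ++ P)) &&
  ne (pvW X 0 c₀) &&
  (B.all fun b => Nat.beq b.length d && b.all fun row => Nat.beq row.length d) &&
  ((List.range B.length).all fun k =>
    (List.range d).all fun i => eq (G.getD k [] ++ X.getD i [])
      (pvW X 0 ((B.getD k []).getD i []) ++ G.getD k [])) &&
  (S.all fun v => v.all fun k => Nat.blt k B.length) &&
  ((vecs r d).all (fun χ => Nat.beq (dot χ c₀ % r) 0 ||
      Nat.ble m (cnt (S.map fun v => enc r χ (mword r d B v)))))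

/-- The conditions of `Orb.of_gen`. -/
def chkG (r d m : ℕ) (X G : List (List ℕ)) (B : List (List (List ℕ))) (S : List (List ℕ)) (c₀ : List ℕ) : Bool :=
  chkG0 w.eq w.ne r d m X G B S c₀

/-- The checks for an element of prime order, closed form. -/
def _root_.Cfsg.Agent.H921.Spor.chkP0 (eq : List ℕ → List ℕ → Bool) (ne : List ℕ → Bool) (r k : ℕ)
    (u v : List ℕ) : Bool :=
  eq (rep u r) [] && ne u && eq (v ++ u) (rep u k ++ v)

theorem conf_prime0 {r k : ℕ} {u v : List ℕ} {m : ℕ} (hr : r.Prime) (h : chkP0 w.eq w.ne r k u v = true)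
    (hk : ∀ i < m, 0 < i → k ^ i % r ≠ 1 % r) : Conf r m T :=
  w.conf_prime u v m hr h hk

theorem orb_gen {r d m : ℕ} {X G S : List (List ℕ)} {B : List (List (List ℕ))} {c₀ : List ℕ} (hr : r.Prime)
    (h : w.chkG r d m X G B S c₀ = true) : Orb r m T := by
  unfold chkG chkG0 at h
  simp only [Bool.and_eq_true] at h
  obtain ⟨⟨⟨⟨⟨⟨⟨⟨hXd, hd0⟩, hXr⟩, hXc⟩, hc₀⟩, hB⟩, hA⟩, hS⟩, hd⟩ := h
  have hXd' := Nat.eq_of_beq_eq_true hXd
  refine Orb.of_gen hr d m (by simpa [Nat.blt_eq] using hd0) (fun i => w.W (X.getD i []))
    (fun j => w.W (G.getD j [])) ?_ ?_ ?_ c₀ ?_ B ?_ ?_ S ?_ hd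
  · intro i
    rcases mem_or_getD (X := X) i with h1 | h1
    · rw [← W_rep, w.eq_sound (List.all_eq_true.1 hXr _ h1), w.nil]
    · rw [h1, w.nil, one_pow]
  · intro i hi
    rw [List.getD_eq_default _ _ (by omega), w.nil]
  · intro i j
    rcases mem_or_getD (X := X) i with h1 | h1
    · rcases mem_or_getD (X := X) j with h2 | h2
      · rw [← w.app, w.eq_sound (List.all_eq_true.1 (List.all_eq_true.1 hXc _ h1) _ h2), w.app]
      · rw [h2, w.nil, mul_one, one_mul]
    · rw [h1, w.nil, mul_one, one_mul]
  · rw [← w.W_pvW]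
    exact w.ne_sound hc₀
  · intro b hb
    have h1 := List.all_eq_true.1 hB b hb
    rw [Bool.and_eq_true] at h1
    refine ⟨Nat.eq_of_beq_eq_true h1.1, fun row hrow => Nat.eq_of_beq_eq_true (List.all_eq_true.1 h1.2 row hrow)⟩
  · intro k hk i hi
    have h1 := List.all_eq_true.1 hA k (List.mem_range.2 hk)
    have h2 := w.eq_sound (List.all_eq_true.1 h1 i (List.mem_range.2 hi))
    rw [mul_inv_eq_iff_eq_mul, ← w.W_pvW, ← w.app, h2, w.app]
  · intro v hv k hk
    have h1 := List.all_eq_true.1 (List.all_eq_true.1 hS v hv) k hk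
    simpa [Nat.blt_eq] using h1

end Wd

end Cfsg.Agent.H921.Spor
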