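import Cfsg.Agent.H921.SporGen
import Cfsg.Agent.J3.Nineteen

/-!
# The third Janko group: configurations
-/

set_option autoImplicit false
set_option maxRecDepth 100000

namespace Cfsg.Agent.H921.Spor.J3

open Cfsg.Spor Cfsg.Agent.J3.Core Cfsg.Agent.J3.Tab Cfsg.Agent.J3.Mono Cfsg.Agent.J3.Elts Cfsg.Agent.J3.Nineteen

/-- tables of the letters: seven generators and their inverses -/
def ltab : ℕ → List ℕ
  | 0 => tA (1, 0)
  | 1 => powT (tA (1, 0)) 2
  | 2 => tA (0, 1)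
  | 3 => powT (tA (0, 1)) 2
  | 4 => tE
  | 5 => powT tE 2
  | 6 => tD (1, 0)
  | 7 => powT (tD (1, 0)) 8
  | 8 => tD (0, 1)
  | 9 => powT (tD (0, 1)) 8
  | 10 => tB (1, 1)
  | 11 => powT (tB (1, 1)) 7
  | _ => tC

/-- table of a word -/
def tab : List ℕ → List ℕ
  | [] => tS 0
  | l :: w => compT (ltab l) (tab w)

/-- equality up to scalars -/
def eqs (u v : List ℕ) : Bool :=
  beqL (cols (tab u)) (cols (tab v)) || (beqL (cols (tab u)) (cols (compT (tS 1) (tab v))) ||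
    beqL (cols (tab u)) (cols (compT (tS 2) (tab v))))

/-- no scalar -/
def nes (u : List ℕ) : Bool :=
  (List.range 3).all fun s => (List.range 9).any fun i => !Nat.beq ((cols (tab u)).getD i 0) ((cols (tS s)).getD i 0)

section

variable {F : Type} [Field F] {ω : F}

/-- the letters -/
def ltr (G : Gens F ω) : ℕ → threeJ3 F ω
  | 0 => G.a (1, 0)
  | 1 => G.a (1, 0) ^ 2
  | 2 => G.a (0, 1)
  | 3 => G.a (0, 1) ^ 2
  | 4 => G.e
  | 5 => G.e ^ 2
  | 6 => G.d (1, 0)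
  | 7 => G.d (1, 0) ^ 8
  | 8 => G.d (0, 1)
  | 9 => G.d (0, 1) ^ 8
  | 10 => G.b (1, 1)
  | 11 => G.b (1, 1) ^ 7
  | _ => G.c

theorem rep_ltr (H : Good ω) (G : Gens F ω) (l : ℕ) : RepG ω (ltab l) (ltr G l) := by
  have hA : ∀ Z, RepG ω (tA Z) (G.a Z) := fun Z => by
    unfold RepG; rw [G.ha]; exact repA H Z
  have hD : ∀ Z, RepG ω (tD Z) (G.d Z) := fun Z => by
    unfold RepG; rw [G.hd]; exact repD H Z
  have hB : ∀ Z, Z ≠ 0 → RepG ω (tB Z) (G.b Z) := fun Z hZ => by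
    unfold RepG; rw [G.hb Z hZ]; exact repB H Z hZ
  have hE : RepG ω tE G.e := by
    unfold RepG; rw [G.he]; exact repE H
  have hC : RepG ω tC G.c := by
    unfold RepG; rw [G.hc]; exact repC H
  have h11 : ((1, 1) : F9) ≠ 0 := by decide
  unfold ltab ltr
  split
  · exact hA _
  · exact (hA _).pow H 2
  · exact hA _
  · exact (hA _).pow H 2
  · exact hE
  · exact hE.pow H 2
  · exact hD _
  · exact (hD _).pow H 8
  · exact hD _
  · exact (hD _).pow H 8
  · exact hB _ h11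
  · exact (hB _ h11).pow H 7
  · exact hC

/-- value of a word -/
def val3 (G : Gens F ω) : List ℕ → threeJ3 F ω
  | [] => 1
  | l :: w => ltr G l * val3 G w

theorem val3_append (G : Gens F ω) (u v : List ℕ) : val3 G (u ++ v) = val3 G u * val3 G v := by
  induction u with
  | nil => exact (one_mul _).symm
  | cons l u ih =>
    change ltr G l * val3 G (u ++ v) = ltr G l * val3 G u * val3 G v
    rw [ih, mul_assoc]

theorem rep_val3 (H : Good ω) (G : Gens F ω) (w : List ℕ) : RepG ω (tab w) (val3 G w) := by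
  induction w with
  | nil => exact repG_one H
  | cons l w ih => exact (rep_ltr H G l).mul ih

variable [Fintype F]

/-- words in the quotient -/
noncomputable def wd (hF : Fintype.card F = 4) (H : Good ω) (G : Gens F ω) : Wd (Cfsg.Spor.J3 F ω) where
  W := fun u => QuotientGroup.mk' (Subgroup.center (threeJ3 F ω)) (val3 G u)
  nil := map_one _
  app := fun u v => by rw [val3_append, map_mul]
  eq := eqs
  eq_sound := by
    intro u v h
    obtain ⟨s, hs⟩ := exists_scalar H G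
    have hcen := center_eq hF H hs
    have hsc : ∀ k : ℕ, QuotientGroup.mk' (Subgroup.center (threeJ3 F ω)) (s ^ k) = 1 := by
      intro k
      rw [← MonoidHom.mem_ker, QuotientGroup.ker_mk', hcen]
      exact Subgroup.npow_mem_zpowers s k
    have hrs : ∀ k < 3, RepG ω (tS k) (s ^ k) := by
      intro k hk
      unfold RepG
      have h1 := repS H k hk
      rwa [map_pow, hs, smul_pow, one_pow]
    have key : ∀ k < 3, beqL (cols (tab u)) (cols (compT (tS k) (tab v))) = true →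
        QuotientGroup.mk' (Subgroup.center (threeJ3 F ω)) (val3 G u) =
          QuotientGroup.mk' (Subgroup.center (threeJ3 F ω)) (val3 G v) := by
      intro k hk h1
      have h2 := RepG.ext (rep_val3 H G u) ((hrs k hk).mul (rep_val3 H G v)) (beqL_eq h1)
      rw [h2, map_mul, hsc, one_mul]
    unfold eqs at h
    rw [Bool.or_eq_true, Bool.or_eq_true] at h
    rcases h with h | h | h
    · have h2 := RepG.ext (rep_val3 H G u) (rep_val3 H G v) (beqL_eq h)
      rw [h2]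
    · exact key 1 (by norm_num) h
    · exact key 2 (by norm_num) h
  ne := nes
  ne_sound := by
    intro u h h1
    obtain ⟨s, hs⟩ := exists_scalar H G
    have hcen := center_eq hF H hs
    rw [← MonoidHom.mem_ker, QuotientGroup.ker_mk', hcen] at h1
    -- `s ^ 3 = 1`
    have hs3 : s ^ 3 = 1 := by
      apply mat_injective
      rw [map_pow, hs, smul_pow, one_pow, H.cube, one_smul, map_one]
    obtain ⟨k, hk, hk3⟩ : ∃ k : ℕ, s ^ k = val3 G u ∧ k < 3 := by
      obtain ⟨z, hz⟩ := h1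
      have hz' : s ^ z = val3 G u := hz
      refine ⟨(z % 3).toNat, ?_, ?_⟩
      · have h3 : ((z % 3).toNat : ℤ) = z % 3 := Int.toNat_of_nonneg (Int.emod_nonneg _ (by norm_num))
        rw [← zpow_natCast, h3, ← hz']
        conv_rhs => rw [← Int.emod_add_mul_ediv z 3, zpow_add, zpow_mul]
        rw [show (s ^ (3 : ℤ)) = 1 by exact_mod_cast hs3, one_zpow, mul_one]
      · have := Int.emod_lt_of_pos z (show (0 : ℤ) < 3 by norm_num)
        omega
    have hrs : RepG ω (tS k) (s ^ k) := by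
      unfold RepG
      have h1 := repS H k hk3
      rwa [map_pow, hs, smul_pow, one_pow]
    rw [hk] at hrs
    unfold nes at h
    have h2 := List.all_eq_true.1 h k (List.mem_range.2 hk3)
    rw [List.any_eq_true] at h2
    obtain ⟨i, hi, h2⟩ := h2
    have hi9 := List.mem_range.1 hi
    obtain ⟨z, hz⟩ : ∃ z : F9, idx z = i := by
      have : ∀ i < 9, ∃ z : F9, idx z = i := by decide
      exact this i hi9
    have h3 := RepG.cols_eq H (rep_val3 H G u) hrs z
    rw [hz] at h3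
    rw [h3] at h2
    simp at h2

end

theorem J3_nineteen {F : Type} [Field F] [Fintype F] {ω : F} (hF : Fintype.card F = 4) (H : Good ω) :
    Conf 19 9 (Cfsg.Spor.J3 F ω) := by
  obtain ⟨G⟩ := exists_gens hF H
  have h : chkP0 eqs nes 19 4 [4, 8, 12] [9, 6, 2, 4, 12, 8, 12, 2, 6, 0, 12, 7, 0, 3, 1, 12, 4] = true := by
    decide +kernel
  exact (wd hF H G).conf_prime0 (by norm_num) h (by decide)

theorem J3_seventeen {F : Type} [Field F] [Fintype F] {ω : F} (hF : Fintype.card F = 4) (H : Good ω) :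
    Conf 17 8 (Cfsg.Spor.J3 F ω) := by
  obtain ⟨G⟩ := exists_gens hF H
  have h : chkP0 eqs nes 17 9 [8, 12]
      [12, 6, 10, 9, 12, 6, 1, 3, 8, 12, 1, 6, 12, 10, 3, 10, 1, 12, 0, 3, 12, 7, 12, 6, 0, 12, 7, 3, 12] = true := by
    decide +kernel
  exact (wd hF H G).conf_prime0 (by norm_num) h (by decide)

theorem J3_two {F : Type} [Field F] [Fintype F] {ω : F} (hF : Fintype.card F = 4) (H : Good ω) :
    Orb 2 15 (Cfsg.Spor.J3 F ω) := by
  obtain ⟨G⟩ := exists_gens hF H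
  have h : chkG0 eqs nes 2 4 15
      ([[4, 8, 12, 10, 9, 5], [12, 6, 8, 12, 6, 9, 12, 10, 10], [9, 12, 9, 12, 8, 0, 5, 12, 1, 12, 4],
      [12, 10, 6, 10, 12, 3, 7, 11, 1, 12, 4]])
      ([[1, 12, 3, 10, 7, 12, 9, 4, 12, 11]])
      ([[[1, 1, 1, 0], [1, 1, 0, 0], [1, 0, 1, 1], [1, 1, 0, 1]]])
      ([[], [0], [0, 0], [0, 0, 0], [0, 0, 0, 0], [0, 0, 0, 0, 0], [0, 0, 0, 0, 0, 0], [0, 0, 0, 0, 0, 0,
      0], [0, 0, 0, 0, 0, 0, 0, 0], [0, 0, 0, 0, 0, 0, 0, 0, 0], [0, 0, 0, 0, 0, 0, 0, 0, 0, 0], [0, 0,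
      0, 0, 0, 0, 0, 0, 0, 0, 0], [0, 0, 0, 0, 0, 0, 0, 0, 0, 0, 0, 0], [0, 0, 0, 0, 0, 0, 0, 0, 0, 0, 0,
      0, 0], [0, 0, 0, 0, 0, 0, 0, 0, 0, 0, 0, 0, 0, 0]])
      [0, 0, 0, 1] = true := by decide +kernel
  exact (wd hF H G).orb_gen (by norm_num) h

theorem J3_three {F : Type} [Field F] [Fintype F] {ω : F} (hF : Fintype.card F = 4) (H : Good ω) :
    Orb 3 24 (Cfsg.Spor.J3 F ω) := by
  obtain ⟨G⟩ := exists_gens hF H
  have h : chkG0 eqs nes 3 3 24
      ([[9, 6, 12, 8, 12, 6, 11, 12, 3, 1, 12], [9, 12, 0, 10, 1, 12, 7, 8, 12, 10, 6], [11, 2, 12, 10, 9,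
      12, 6, 2, 12, 1, 12, 7, 12]])
      ([[10, 8, 12, 9, 12, 11], [12, 3, 11, 6, 12, 9, 2, 5]])
      ([[[2, 0, 0], [2, 1, 1], [0, 0, 2]], [[1, 0, 2], [1, 2, 1], [2, 0, 0]]])
      ([[], [0], [1], [1, 0], [1, 1], [1, 1, 0], [1, 1, 1], [1, 1, 1, 0], [1, 1, 0, 1], [1, 1, 1, 1], [1,
      1, 0, 1, 0], [1, 1, 1, 1, 0], [0, 1, 1, 1, 1], [0, 1, 1, 1, 1, 0], [1, 1, 1, 1, 0, 1], [0, 1, 1, 1,
      1, 1], [1, 1, 1, 1, 0, 1, 0], [0, 1, 1, 1, 1, 1, 0], [1, 1, 1, 1, 0, 1, 1], [0, 1, 1, 1, 1, 1, 1],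
      [1, 1, 1, 1, 0, 1, 1, 0], [0, 1, 1, 1, 1, 1, 1, 0], [0, 1, 1, 1, 1, 1, 1, 1], [0, 1, 1, 1, 1, 1, 1,
      1, 0]])
      [0, 0, 1] = true := by decide +kernel
  exact (wd hF H G).orb_gen (by norm_num) h

end Cfsg.Agent.H921.Spor.J3
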