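import Cfsg.Agent.H921.SporHe
import Cfsg.Agent.H868.HeFi24

/-!
# `Fi₂₄'`: bounds from the Held group
-/

set_option autoImplicit false

namespace Cfsg.Agent.H921.Spor.Fi24

open Cfsg.Spor
open scoped commutatorElement

theorem _root_.Cfsg.Agent.H921.Spor.Conf.nc {r m : ℕ} {T : Type*} [Group T] (h : Conf r m T) (hm : 2 ≤ m) :
    ¬ ∀ a b : T, a * b = b * a := by
  obtain ⟨E, e₀, S, hfin, hE, hEr, he₀, he₁, hS', hS, hd⟩ := h
  intro hc
  obtain ⟨s, hs, t, ht, hst⟩ := Finset.one_lt_card.1 (by omega : 1 < S.card)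
  obtain ⟨e, he, h1⟩ := hd s hs t ht hst
  apply he₁
  rw [← h1, hc s e, hc t e, mul_inv_cancel_right, mul_inv_cancel_right, mul_inv_cancel]

theorem exists_He : ∃ ψ : Cfsg.Spor.He →* Cfsg.Spor.Fi24', Function.Injective ψ := by
  obtain ⟨ψ, hψ⟩ := Cfsg.Agent.H868.HeFi24.exists_embedding
  have hs : IsSimpleGroup Cfsg.Spor.He := Cfsg.Agent.S1695.result.1
  have hnc : ¬ ∀ a b : Cfsg.Spor.He, a * b = b * a := He.He_seventeen.nc (by norm_num)
  have hperf : commutator Cfsg.Spor.He = ⊤ := by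
    rcases (inferInstance : (commutator Cfsg.Spor.He).Normal).eq_bot_or_eq_top with h | h
    · exfalso
      apply hnc
      intro a b
      have h1 : ⁅a, b⁆ ∈ commutator Cfsg.Spor.He := Subgroup.commutator_mem_commutator (Subgroup.mem_top a) (Subgroup.mem_top b)
      rw [h, Subgroup.mem_bot, commutatorElement_eq_one_iff_mul_comm] at h1
      exact h1
    · exact h
  have hmem : ∀ x, ψ x ∈ commutator Cfsg.Spor.Fi24 := by
    intro x
    have h1 : x ∈ commutator Cfsg.Spor.He := by rw [hperf]; trivial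
    have h2 : (commutator Cfsg.Spor.He).map ψ ≤ commutator Cfsg.Spor.Fi24 := by
      rw [commutator_def, Subgroup.map_commutator, commutator_def]
      exact Subgroup.commutator_mono le_top le_top
    exact h2 ⟨x, h1, rfl⟩
  exact ⟨ψ.codRestrict _ hmem, fun a b h => hψ (congrArg Subtype.val h)⟩

theorem Fi24_seven : Orb 7 42 Cfsg.Spor.Fi24' := by
  obtain ⟨f, hf⟩ := exists_He
  exact He.He_seven.of_inj f hf

theorem Fi24_five : Orb 5 24 Cfsg.Spor.Fi24' := by
  obtain ⟨f, hf⟩ := exists_He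
  exact He.He_five.of_inj f hf

theorem Fi24_seventeen : Conf 17 8 Cfsg.Spor.Fi24' := by
  obtain ⟨f, hf⟩ := exists_He
  exact He.He_seventeen.of_inj f hf

end Cfsg.Agent.H921.Spor.Fi24
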