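import Cfsg.Agent.H921.SporBase
import Cfsg.Agent.J4.Rep112

/-!
# `J₄` contains `23 : 22`
-/

set_option autoImplicit false

namespace Cfsg.Agent.H921.Spor.J4

open Cfsg.Agent.Lib.F2MatGroup Cfsg.Agent.Lib Cfsg.Agent.J4.RepData Cfsg.Agent.J4.Rep112

/-- program: `q`, `q⁻¹`, `y t^q`, `z` (an involution of `2¹¹`), `v`, `p = x y` -/
def slp23 : List (List ℕ) := [
  [1, 0, 1, 0, 1, 0, 1, 0, 2, 0],
  [1, 2, 1, 3, 1, 3, 1, 3, 1, 3],
  [3, 0, 5, 1],
  [0, 0, 0],
  [5, 4, 6, 4, 6, 4, 6, 4, 6, 4, 5, 4, 5, 4, 6, 4, 5, 4, 6, 4, 6, 4, 0, 4, 5, 4, 5, 4, 6, 4, 5, 4, 6, 4, 6, 4, 6, 4,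
    6, 4, 6, 4, 6, 4, 6, 4, 5, 4, 6, 4, 5, 4, 6, 4, 6, 4, 6, 4, 6, 4, 5, 4, 6, 4, 5, 4, 7, 5, 7, 6, 4, 5, 7, 6, 7, 6,
    7, 5, 4, 7, 6, 7, 6, 7, 4, 5, 7, 5, 7],
  [5, 6]]

theorem check23 : check 112 codes slp23 [(List.replicate 23 0, []), ([1, 0], List.replicate 19 0 ++ [1])]
    [([0], [])] = true := by decide +kernel

theorem map_evG {G H : Type*} [Group G] [Group H] (f : G →* H) (L : List G) (w : List ℕ) :
    f (evG L w) = evG (L.map f) w := by
  induction w with
  | nil => rw [evG_nil, evG_nil, map_one]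
  | cons i w ih =>
    rw [evG_cons, evG_cons, map_mul, ih]
    congr 1
    unfold getG
    rw [← map_one f, List.getD_map]

theorem map_runG {G H : Type*} [Group G] [Group H] (f : G →* H) (ws : List (List ℕ)) :
    ∀ L : List G, (runG ws L).map f = runG ws (L.map f) := by
  induction ws with
  | nil => intro L; rfl
  | cons w ws ih => intro L; rw [runG_cons, runG_cons, ih, List.map_cons, map_evG]

theorem evG_replicate {G : Type*} [Group G] (L : List G) (i k : ℕ) :
    evG L (List.replicate k i) = getG L i ^ k := by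
  induction k with
  | zero => rw [List.replicate_zero, evG_nil, pow_zero]
  | succ k ih => rw [List.replicate_succ, evG_cons, ih, pow_succ']

theorem evG_append {G : Type*} [Group G] (L : List G) (a b : List ℕ) :
    evG L (a ++ b) = evG L a * evG L b := by
  induction a with
  | nil => rw [List.nil_append, evG_nil, one_mul]
  | cons i a ih => rw [List.cons_append, evG_cons, evG_cons, ih, mul_assoc]

theorem rho_injective (hs : IsSimpleGroup Cfsg.Spor.J4) : Function.Injective rho := by
  rw [← MonoidHom.ker_eq_bot_iff]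
  rcases (MonoidHom.normal_ker rho).eq_bot_or_eq_top with h | h
  · exact h
  · exfalso
    obtain ⟨-, h2⟩ := check_sound (by norm_num) codes_gens check23
    have h3 := h2 ([0], []) (by simp)
    apply h3
    rw [← map_runG, ← map_evG, ← map_evG]
    have h4 : ∀ g, rho g = 1 := fun g => by
      have : g ∈ rho.ker := by rw [h]; trivial
      exact this
    rw [h4, h4]

theorem J4_twentythree' (hs : IsSimpleGroup Cfsg.Spor.J4) : Conf 23 22 Cfsg.Spor.J4 := by
  have hinj := rho_injective hs
  obtain ⟨h1, h2⟩ := check_sound (by norm_num) codes_gens check23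
  have e1 := h1 (List.replicate 23 0, []) (by simp)
  have e2 := h1 ([1, 0], List.replicate 19 0 ++ [1]) (by simp)
  have e3 := h2 ([0], []) (by simp)
  rw [← map_runG, ← map_evG, ← map_evG] at e1 e2
  replace e1 := hinj e1
  replace e2 := hinj e2
  have e4 : evG (runG slp23 gens) [0] ≠ evG (runG slp23 gens) [] := by
    intro h
    apply e3
    rw [← map_runG, ← map_evG, ← map_evG]
    exact congrArg rho h
  simp only [evG_append, evG_replicate, evG_cons, evG_nil, mul_one] at e1 e2 e4
  refine Conf.of_prime (by norm_num) e1 e4 (y := getG (runG slp23 gens) 1) (k := 19) ?_ 22 (by decide)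
  rw [e2]
  group

end Cfsg.Agent.H921.Spor.J4
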