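import Cfsg.Agent.H921.SporM24
import Cfsg.Agent.J4.Lower
import Cfsg.Agent.J4.Pres
import Cfsg.Agent.S0365

/-!
# `M12`, `M23`, `M24`, `J4`: configurations by inclusion
-/

set_option autoImplicit false

namespace Cfsg.Agent.H921.Spor

open Cfsg.Agent.H921.Spor.M24

theorem Conf.of_le {r m : ℕ} {G : Type*} [Group G] {H K : Subgroup G} (h : Conf r m H) (hle : H ≤ K) : Conf r m K :=
  h.of_inj (Subgroup.inclusion hle) (Subgroup.inclusion_injective hle)

theorem Orb.of_le {r m : ℕ} {G : Type*} [Group G] {H K : Subgroup G} (h : Orb r m H) (hle : H ≤ K) : Orb r m K :=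
  h.of_inj (Subgroup.inclusion hle) (Subgroup.inclusion_injective hle)

namespace M24

theorem M11_le : Cfsg.Spor.M11 ≤ Cfsg.Spor.M12 := inf_le_left
theorem M22_le : Cfsg.Spor.M22 ≤ Cfsg.Spor.M23 := inf_le_left
theorem M23_le : Cfsg.Spor.M23 ≤ M24 := inf_le_left

theorem M12_three : Conf 3 8 Spor.M12 := M11_three.of_le M11_le
theorem M12_eleven : Conf 11 5 Spor.M12 := M11_eleven.of_le M11_le
theorem M23_three : Orb 3 8 Spor.M23 := M22_three.of_le M22_le
theorem M23_eleven : Conf 11 5 Spor.M23 := M22_eleven.of_le M22_le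
theorem M24_three : Orb 3 8 M24 := M23_three.of_le M23_le
theorem M24_two : Conf 2 15 M24 := M23_two.of_le M23_le
theorem M24_twentythree : Conf 23 11 M24 := M23_twentythree.of_le M23_le

end M24

namespace J4

open Cfsg.Agent.J4.Rep112 Cfsg.Agent.J4.Lower Cfsg.Agent.J4.Pres Cfsg.Agent.J4.M24Hom

theorem phi_injective : Function.Injective phi := by
  have hsimple : IsSimpleGroup Cfsg.M24 := Cfsg.Agent.S0365.result
  rw [← MonoidHom.ker_eq_bot_iff]
  refine (hsimple.eq_bot_or_eq_top_of_normal phi.ker inferInstance).resolve_right fun h => ?_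
  have h1 : XM ∈ phi.ker := by rw [h]; exact Subgroup.mem_top _
  rw [MonoidHom.mem_ker, phi_X] at h1
  exact xg_ne (by rw [h1, map_one])

theorem J4_three : Orb 3 8 Cfsg.Spor.J4 := M24_three.of_inj phi phi_injective
theorem J4_two : Conf 2 15 Cfsg.Spor.J4 := M24_two.of_inj phi phi_injective
theorem J4_eleven : Conf 11 10 Cfsg.Spor.J4 := M24_eleven.of_inj phi phi_injective
theorem J4_twentythree : Conf 23 11 Cfsg.Spor.J4 := M24_twentythree.of_inj phi phi_injective

end J4

end Cfsg.Agent.H921.Spor
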