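import Cfsg.Agent.H921.SporMcL
import Cfsg.Agent.H921.SporJ4
import Cfsg.Agent.H921.SporFi24
import Cfsg.Agent.H921.SporMore
import Cfsg.Agent.S2042
import Cfsg.Agent.S2043
import Cfsg.Agent.S2044
import Cfsg.Agent.S2045
import Cfsg.Agent.S2055

/-!
# `Co₁`, `Co₂`, `Co₃`, `J₄`, `Fi₂₄'`: every projective representation of a cover has degree at least 15
(every characteristic, every cover)
-/

set_option autoImplicit false

universe u v

namespace Cfsg.Agent.H921.Spor.Le

open Cfsg Cfsg.Agent.H912.Bd Cfsg.Agent.H921.Spor Cfsg.Agent.H915.LD Cfsg.Agent.H489.Deg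
open Matrix (GeneralLinearGroup)

variable {p : ℕ} (hp : p.Prime) {F : Type u} [Field F] [Finite F] [CharP F p] {n : ℕ}
  {P : Subgroup (GL (Fin n) F)} (hC : Core P)

include hp hC

/-- **`Co₃`: degree at least 20.** -/
theorem co3_le (e : Soc P ≃* Cfsg.Spor.Co3) : 20 ≤ n := by
  by_cases h3 : p = 3
  · exact le_of_bd hC e Cfsg.Agent.S2045.result (r := 5) (by norm_num)
      (McL.Co3_five (F := F) (by exact_mod_cast cast_ne (F := F) hp (by norm_num : (5 : ℕ).Prime) (by omega)))
  · exact le_of_bd hC e Cfsg.Agent.S2045.result (r := 3) (by norm_num)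
      (McL.Co3_three.bd (F := F) (by norm_num) (cast_ne (F := F) hp Nat.prime_three h3))

/-- **`Co₂`: degree at least 20.** -/
theorem co2_le (e : Soc P ≃* Cfsg.Spor.Co2) : 20 ≤ n := by
  by_cases h3 : p = 3
  · exact le_of_bd hC e Cfsg.Agent.S2044.result (r := 5) (by norm_num)
      (McL.Co2_five (F := F) (by exact_mod_cast cast_ne (F := F) hp (by norm_num : (5 : ℕ).Prime) (by omega)))
  · exact le_of_bd hC e Cfsg.Agent.S2044.result (r := 3) (by norm_num)
      (McL.Co2_three.bd (F := F) (by norm_num) (cast_ne (F := F) hp Nat.prime_three h3))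

/-- **`Co₁`: degree at least 20.** -/
theorem co1_le (e : Soc P ≃* Cfsg.Spor.Co1) : 20 ≤ n := by
  by_cases h3 : p = 3
  · exact le_of_bd hC e Cfsg.Agent.S2043.result (r := 5) (by norm_num)
      (McL.Co1_five (F := F) (by exact_mod_cast cast_ne (F := F) hp (by norm_num : (5 : ℕ).Prime) (by omega)))
  · exact le_of_bd hC e Cfsg.Agent.S2043.result (r := 3) (by norm_num)
      (McL.Co1_three.bd (F := F) (by norm_num) (cast_ne (F := F) hp Nat.prime_three h3))

/-- **`J₄`: degree at least 15.** -/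
theorem j4_le (e : Soc P ≃* Cfsg.Spor.J4) : 15 ≤ n := by
  have hs : IsSimpleGroup Cfsg.Spor.J4 := (MulEquiv.isSimpleGroup_congr e).1 hC.simple
  by_cases h3 : p = 23
  · exact le_of_bd hC e Cfsg.Agent.S2042.result (r := 2) (by norm_num)
      (J4.J4_two.bd (F := F) (by norm_num) (cast_ne (F := F) hp Nat.prime_two (by omega)))
  · have h := le_of_bd hC e Cfsg.Agent.S2042.result (r := 23) (by norm_num)
      ((J4.J4_twentythree' hs).bd (F := F) (by norm_num) (cast_ne (F := F) hp (by norm_num) h3))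
    omega

/-- **`Fi₂₄'`: degree at least 24.** -/
theorem fi24_le (e : Soc P ≃* Cfsg.Spor.Fi24') : 24 ≤ n := by
  by_cases h7 : p = 7
  · exact le_of_bd hC e Cfsg.Agent.S2055.result (r := 5) (by norm_num)
      (Fi24.Fi24_five.bd (F := F) (by norm_num) (cast_ne (F := F) hp (by norm_num) (by omega)))
  · have h := le_of_bd hC e Cfsg.Agent.S2055.result (r := 7) (by norm_num)
      (Fi24.Fi24_seven.bd (F := F) (by norm_num) (cast_ne (F := F) hp (by norm_num) h7))
    omega

end Cfsg.Agent.H921.Spor.Le
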