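import Cfsg.Agent.H921.SporGen
import Cfsg.Agent.OddHalf.Table.OutSuz

/-!
# The sporadic Suzuki group: configurations
-/

set_option autoImplicit false
set_option maxRecDepth 100000

namespace Cfsg.Agent.H921.Spor.Suz

open Cfsg.Agent.OddHalf.Table

/-- the words of `SuzRep` -/
noncomputable def wd : Wd Cfsg.Spor.Suz where
  W := SuzRep.Wd
  nil := SuzRep.Wd_nil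
  app := SuzRep.Wd_append
  eq := fun u v => Cfsg.Agent.Lib.PermNet.checkEq 11 (u.map SuzRep.lnet) (v.map SuzRep.lnet)
  eq_sound := SuzRep.eqw
  ne := fun u => (List.range 8).any fun i => !(Nat.beq (SuzRep.ev u i) (SuzRep.ev [] i))
  ne_sound := by
    intro u h
    rw [List.any_eq_true] at h
    obtain ⟨i, _, h⟩ := h
    rw [← SuzRep.Wd_nil]
    exact SuzRep.ne_of_ev (p := i) (by simpa using h)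

theorem Suz_eleven : Conf 11 10 Cfsg.Spor.Suz :=
  wd.conf_prime (r := 11) (k := 2) [0] [2] 10 (by norm_num) (by decide +kernel) (by decide)

theorem Suz_five : Orb 5 12 Cfsg.Spor.Suz :=
  (wd.orb_gen (r := 5) (d := 2) (m := 12)
    (X := [[5, 4, 5, 2, 4, 2, 5, 2, 5, 3, 5, 3, 0, 5, 4, 2, 5, 1, 3, 4, 1, 5, 1, 1, 5, 1, 5, 0, 5, 3, 3, 5, 4, 1, 5, 0,
    4, 1, 2, 2, 5, 2, 0, 5, 0, 3, 0, 5, 1, 2, 1], [1, 1, 5, 4, 1, 5, 1, 4, 3, 0, 2, 0, 4, 5, 1, 3, 5, 4, 3, 3, 3,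
    0, 5, 2, 4, 1, 1, 4, 5, 0, 3, 4, 0, 5, 2, 4, 2, 1, 5, 0, 5, 3, 1, 1, 5, 4, 5, 2, 2, 5, 1, 4, 5, 3]])
    (G := [[0, 2, 5, 2, 0, 4, 1, 4, 0, 5, 4, 3, 5, 2, 0, 4, 2, 2, 1, 5, 3, 0, 5, 4, 5, 1, 1, 3, 3, 5, 4, 1, 5, 0, 4, 1,
    2, 2, 5, 2, 0, 5, 0, 3, 0, 5, 1, 2, 1]])
    (B := [[[3, 2], [3, 0]]])
    (S := [[], [0], [0, 0], [0, 0, 0], [0, 0, 0, 0], [0, 0, 0, 0, 0], [0, 0, 0, 0, 0, 0], [0, 0, 0, 0, 0, 0, 0], [0, 0,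
    0, 0, 0, 0, 0, 0], [0, 0, 0, 0, 0, 0, 0, 0, 0], [0, 0, 0, 0, 0, 0, 0, 0, 0, 0], [0, 0, 0, 0, 0, 0, 0, 0, 0,
    0, 0]])
    (c₀ := [0, 1]) (by norm_num) (by decide +kernel))

theorem Suz_three : Orb 3 36 Cfsg.Spor.Suz :=
  (wd.orb_gen (r := 3) (d := 4) (m := 36)
    (X := [[2, 5, 4, 1, 3, 1, 1, 5, 3, 0, 2, 5, 2, 5, 2, 5, 4, 1, 2, 5, 3, 4, 1, 4, 0, 5, 4, 0, 5, 1, 5], [5, 4, 2, 2,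
    2, 1, 2, 4, 1, 5, 4, 1, 2, 2, 1, 2, 4, 1, 1, 5, 4, 5, 2, 1, 5, 0, 4, 1, 1, 3, 5, 1, 3, 0, 4, 0, 2, 5, 2, 0,
    0, 4], [4, 2, 1, 1, 5, 2, 1, 4, 5, 2, 0, 2, 5, 4, 3, 0, 5, 1, 4, 2, 5, 0, 0, 3, 4, 5, 0, 5, 2, 2, 2, 0, 4, 5,
    1, 5, 2, 5, 2, 2, 5, 3, 5, 2, 1, 5, 2, 4, 0, 0], [4, 1, 5, 0, 4, 5, 1, 5, 1, 5, 4, 0, 0, 0, 0, 0, 4, 5, 0, 4,
    0, 3, 5, 2, 2, 0, 5, 4, 0, 5, 2, 1, 5, 0, 5, 0, 2, 5, 4, 2, 1, 2, 0, 2, 5, 4, 0, 4, 0, 5, 3, 0]])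
    (G := [[5, 0, 3, 5, 0, 0, 2, 2, 5, 0, 5, 1, 2, 5, 0, 3, 5, 3, 5, 3, 5, 2, 5, 1, 3, 1], [4, 3, 5, 4, 1, 1, 4, 0, 4,
    0, 5, 3, 3, 5, 0, 3, 4, 5, 0, 5, 2, 0, 4, 0, 5, 0, 4, 1, 3, 0, 3, 5]])
    (B := [[[2, 2, 2, 1], [2, 1, 2, 0], [0, 2, 1, 1], [1, 0, 0, 0]], [[0, 1, 0, 1], [1, 0, 0, 2], [1, 0, 0, 0], [1, 1,
    1, 2]]])
    (S := [[], [0], [1], [1, 0], [0, 1], [0, 1, 0, 0, 0], [0, 0, 1, 0, 0], [0, 0, 0, 1, 0], [1, 1, 1, 0, 1], [1, 1, 0,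
    1, 1], [1, 0, 1, 1, 1], [0, 0, 1, 0, 0, 0], [0, 0, 0, 1, 0, 0], [1, 1, 1, 0, 1, 1], [1, 1, 0, 1, 1, 1], [1,
    1, 1, 0, 1, 0, 0, 0], [1, 1, 0, 1, 1, 0, 0, 0], [1, 0, 1, 1, 1, 0, 0, 0], [1, 1, 1, 0, 0, 1, 0, 0], [0, 1, 1,
    1, 0, 1, 0, 0], [1, 1, 0, 0, 1, 1, 0, 0], [0, 1, 1, 1, 0, 0, 1, 0], [1, 0, 1, 1, 0, 0, 0, 1], [1, 1, 1, 0, 0,
    1, 0, 0, 0], [0, 1, 1, 1, 0, 1, 0, 0, 0], [1, 1, 0, 0, 1, 1, 0, 0, 0], [1, 1, 1, 0, 1, 1, 0, 0, 0], [1, 1, 0,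
    1, 1, 1, 0, 0, 0], [0, 1, 1, 1, 0, 0, 1, 0, 0], [1, 1, 1, 0, 0, 1, 1, 0, 0], [0, 1, 1, 1, 0, 1, 1, 0, 0], [1,
    0, 1, 1, 0, 0, 0, 1, 0], [1, 1, 0, 1, 1, 0, 0, 0, 1], [1, 1, 1, 0, 0, 1, 1, 0, 0, 0], [0, 1, 1, 1, 0, 1, 1,
    0, 0, 0], [1, 1, 0, 1, 1, 0, 0, 0, 1, 0]])
    (c₀ := [0, 1, 2, 1]) (by norm_num) (by decide +kernel))

theorem Suz_two : Orb 2 15 Cfsg.Spor.Suz :=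
  (wd.orb_gen (r := 2) (d := 4) (m := 15)
    (X := [[0, 3, 5, 0, 5, 3, 5, 4, 0, 4, 2, 5, 2, 2, 4, 1, 4, 0, 2, 2, 5, 1, 3, 5, 0, 2, 5, 0, 5, 1, 1, 5, 0, 4, 0, 0,
    5, 1, 4, 5, 0, 3, 5, 3, 3, 5, 1, 3, 5, 3, 1, 2], [1, 4, 1, 5, 3, 0, 0, 4, 0, 0, 0, 5, 2, 0, 2, 5, 2, 5, 3, 5,
    2, 5, 2, 5, 2, 1, 2, 5, 4, 5, 2, 0, 2, 2, 0, 4, 5, 1, 5, 2, 5, 2, 2, 5, 3, 5, 2, 1, 5, 2, 4, 0, 0], [5, 0, 2,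
    1, 5, 4, 0, 5, 4, 5, 3, 0, 4, 1, 5, 3, 1, 4, 1, 4, 5, 1, 5, 2, 0, 4, 5, 2, 4, 2, 5, 4, 5, 0, 5, 4, 1, 5, 3,
    1, 4, 3, 5, 1, 4, 1, 5, 3, 0, 5, 0, 4, 0, 0, 0, 0, 4, 5, 0, 5, 1, 3, 4, 0, 5, 0, 5, 1, 5, 3, 3], [2, 2, 5, 3,
    3, 0, 4, 5, 1, 1, 1, 5, 1, 2, 1, 5, 1, 2, 5, 1, 4, 1, 5, 3, 5, 1, 3, 1, 5, 1, 5, 0, 4, 0, 0, 5, 1, 4, 5, 0,
    3, 5, 3, 3, 5, 1, 3, 5, 3, 1, 2, 2, 2, 5, 0, 5, 1, 5, 1, 4, 2, 0, 5, 1, 5, 4, 1, 1, 1, 1, 4, 1]])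
    (G := [[3, 3, 4, 0, 5, 2, 4, 5, 2, 4, 5, 0, 0, 4, 1, 3, 1, 5, 2, 2, 4, 5, 4, 5], [4, 0, 3, 4, 5, 2, 5, 3, 1, 4, 5,
    0, 5, 1, 5, 2, 5, 2, 5, 1, 1, 4, 0, 4, 1, 3, 4]])
    (B := [[[1, 1, 0, 0], [1, 0, 0, 0], [0, 1, 1, 1], [1, 0, 1, 0]], [[0, 0, 0, 1], [1, 0, 0, 1], [1, 0, 1, 0], [0, 1,
    1, 0]]])
    (S := [[], [0], [1], [1, 1, 0], [1, 1, 1], [1, 1, 1, 0], [1, 1, 0, 1], [1, 0, 0, 1, 1], [1, 0, 1, 0, 0, 1], [1, 0,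
    0, 1, 0, 1], [1, 0, 0, 1, 0, 1, 0], [1, 1], [1, 1, 0, 0, 1, 0, 1, 0], [0, 0], [0, 1, 1, 0], [1, 0, 0, 1, 0,
    1, 0, 0], [1, 0, 1, 0, 0], [1, 1, 0, 1, 0, 0], [1, 0, 0, 1, 1, 0, 0], [0, 1, 0, 1, 0, 0]])
    (c₀ := [0, 0, 0, 1]) (by norm_num) (by decide +kernel))

end Cfsg.Agent.H921.Spor.Suz
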