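import Cfsg.Agent.H921.UnitBase
import Cfsg.Agent.H924.Adj
import Cfsg.Agent.H914.Uni
import Cfsg.Agent.H912.Core4

/-!
An adjoint-closed field subalgebra for a unitary form over the field with `q²` elements has odd degree (H921).
-/

set_option autoImplicit false
set_option linter.unusedSectionVars false
open Cfsg Cfsg.Geo Matrix

namespace Cfsg.Agent.H921

open Cfsg.Agent.H919 (HermForm)
open Cfsg.Agent.H914 (mem_subfield_iff_pow fixedBy mem_fixedBy card_eq_card_fixedBy_sq)
open Cfsg.Agent.H924 (adjM adjM_mul adjM_add adjM_one adjM_adjM adjM_smul adjM_mem)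

variable {ι : Type} [Fintype ι] [DecidableEq ι] {F : Type*} [Field F]
variable {σ : F ≃+* F} {ε : F} {f : (ι → F) → (ι → F) → F}

/-- For `σ ≠ 1` there is no adjoint-closed field subalgebra of degree two. -/
theorem not_adjointClosed_two [Finite F] [Nonempty ι] (hf : HermForm σ ε f) (hσ : σ ≠ RingEquiv.refl F)
    {K : Subalgebra F (Matrix ι ι F)} (hK : IsFieldSubalgebra 2 K) (hadj : IsAdjointClosedFor f K) : False := by
  classical
  let _ : Field K := (H912.isField_of_fieldSub hK).toField
  have hfin : Finite K := inferInstance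
  let τ : K ≃+* K :=
    { toFun := fun x => ⟨adjM σ f x, adjM_mem hf hadj x.2⟩
      invFun := fun x => ⟨adjM σ f x, adjM_mem hf hadj x.2⟩
      left_inv := fun x => Subtype.ext (adjM_adjM hf _)
      right_inv := fun x => Subtype.ext (adjM_adjM hf _)
      map_mul' := fun x y => by
        apply Subtype.ext
        change adjM σ f ((x : Matrix ι ι F) * y) = adjM σ f x * adjM σ f y
        rw [adjM_mul hf, hK.comm _ (adjM_mem hf hadj y.2) _ (adjM_mem hf hadj x.2)]
      map_add' := fun x y => Subtype.ext (adjM_add hf _ _) }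
  have hτF : ∀ c : F, τ (algebraMap F K c) = algebraMap F K (σ c) := by
    intro c
    apply Subtype.ext
    change adjM σ f (algebraMap F (Matrix ι ι F) c) = algebraMap F (Matrix ι ι F) (σ c)
    rw [Algebra.algebraMap_eq_smul_one, Algebra.algebraMap_eq_smul_one, adjM_smul hf, adjM_one hf]
  have hinj : Function.Injective (algebraMap F K) := (algebraMap F K).injective
  have hτ1 : τ ≠ RingEquiv.refl K := by
    intro h
    apply hσ
    ext c
    have h1 := hτF c
    rw [h] at h1
    exact (hinj h1).symm
  have hτ2 : ∀ a, τ (τ a) = a := fun a => Subtype.ext (adjM_adjM hf _)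
  have hcard := card_eq_card_fixedBy_sq hτ1 hτ2
  have hcardK : Nat.card K = Nat.card F ^ 2 := by
    rw [← hK.finrank_eq]
    exact Module.natCard_eq_pow_finrank
  rw [hcardK] at hcard
  have hc : Nat.card F = Nat.card (fixedBy τ) := Nat.pow_left_injective (n := 2) (by norm_num) hcard
  apply hσ
  ext c
  have h1 : algebraMap F K c ∈ fixedBy τ := by
    rw [mem_subfield_iff_pow, ← hc, ← map_pow]
    congr 1
    have : Fintype F := Fintype.ofFinite F
    rw [Nat.card_eq_fintype_card]
    exact FiniteField.pow_card c
  rw [mem_fixedBy, hτF] at h1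
  exact hinj h1

/-- An adjoint-closed field subalgebra of prime degree has odd degree, for `σ ≠ 1`. -/
theorem odd_of_adjointClosed [Finite F] [Nonempty ι] (hf : HermForm σ ε f) (hσ : σ ≠ RingEquiv.refl F)
    {r : ℕ} (hr : r.Prime) {K : Subalgebra F (Matrix ι ι F)} (hK : IsFieldSubalgebra r K)
    (hadj : IsAdjointClosedFor f K) : Odd r := by
  rcases hr.eq_two_or_odd' with rfl | h
  · exact (not_adjointClosed_two hf hσ hK hadj).elim
  · exact h

end Cfsg.Agent.H921
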