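import Cfsg.Agent.H921.UnitThree
import Cfsg.Agent.H921.UnitField
import Cfsg.Agent.H924.FormFine
import Cfsg.Agent.H920.SympD
import Cfsg.Agent.H919.AschWreathForm2
import Cfsg.Agent.H912.TensForm3
import Cfsg.Agent.H918.UWrap
import Cfsg.Agent.H918.URed

/-!
The structure theorem for subgroups of the unitary group (H921): wrapper of the common form of Aschbacher's theorem.
-/

set_option autoImplicit false
set_option linter.unusedSectionVars false

namespace Cfsg.Agent.H921

open Cfsg Cfsg.Geo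
open scoped MatrixGroups Matrix Kronecker
open Cfsg.Agent.H919 (HermForm WreathData CoreNS sesq sesq_single sesq_eq_sum pureMat pureMat_apply)
open Cfsg.Agent.LieClassical.HermBasic

variable {F : Type*} [Field F] [Fintype F] {n q : ℕ} (hF : Fintype.card F = q ^ 2)
include hF

/-- The tensor-wreath case: a group of isometries in a tensor-wreath subgroup carrying a tensor power form. -/
theorem wreath_class (hn : 2 ≤ n) {H : Subgroup (GL (Fin n) F)} (hH : H ≤ GU n F q)
    (hirr : ActsIrreducibly (matrixSet H)) {k t : ℕ} (hk : 2 ≤ k) (ht : 2 ≤ t) {e : Fin n ≃ (Fin t → Fin k)}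
    {P : GL (Fin n) F} {f₁ : (Fin k → F) → (Fin k → F) → F} (hf₁ : HermForm (conj hF) 1 f₁)
    (hP : IsTensorPowerFormStructure (conj hF) (hermForm n F q) f₁ e P) (hle : H ≤ tensorWreathSubgroup k t e P) :
    ∃ M : Subgroup (GL (Fin n) F), InUnitaryClass n F q M ∧ H ≤ M := by
  have hHf : ∀ h ∈ H, ∀ u v, hermForm n F q ((h : Matrix (Fin n) (Fin n) F) *ᵥ u)
      ((h : Matrix (Fin n) (Fin n) F) *ᵥ v) = hermForm n F q u v := fun h hh => hH hh
  by_cases hk2 : k = 2
  · subst hk2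
    obtain ⟨F₀, ζ, P', hζ, hcard, hrat, hle'⟩ := wreath_two_subfield hF hf₁ hP hle hHf
    obtain ⟨M, hM, hHM⟩ := exists_subfield_class hF hn hH hirr Nat.prime_two hcard hζ hrat hle'
    exact ⟨M, Or.inl hM, hHM⟩
  by_cases hq3 : q = 2 ∧ k = 3
  · obtain ⟨hq, rfl⟩ := hq3
    obtain ⟨R, hR1, hR2, hR3, hR4, hR5, hR6⟩ :=
      exists_symplectic_of_wreath_three hF hq (by omega) hf₁ hP hle hHf
    refine ⟨subgroupNormalizer R ⊓ GU n F q, Or.inl ?_, le_inf hR6 hH⟩
    have hF4 : Fintype.card F = 2 ^ 2 := by rw [hF, hq]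
    refine Or.inr (Or.inr (Or.inr (Or.inr (Or.inr (Or.inr (Or.inr ?_))))))
    refine ⟨3, R, 2, 2, t, hR1, hR2, hR3, by norm_num, ?_, Or.inl ⟨by decide, hR4, by omega, hR5⟩, rfl⟩
    rw [hR4]
    refine ⟨Nat.prime_two, ?_, hF4, by norm_num, ?_⟩
    · obtain ⟨p, hp, m, hpp, hpm⟩ := FiniteField.card' F
      rw [hF4] at hpm
      have h2 : p ∣ 2 ^ 2 := by rw [hpm]; exact dvd_pow_self _ m.ne_zero
      have h3 : p = 2 := (Nat.prime_dvd_prime_iff_eq hpp Nat.prime_two).1 (hpp.dvd_of_dvd_pow h2)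
      rw [← h3]
      exact hp
    · intro d hd1 hd2
      interval_cases d
      norm_num
  · refine ⟨tensorWreathSubgroup k t e P ⊓ GU n F q, Or.inr (Or.inr (Or.inr ?_)), le_inf hle hH⟩
    exact ⟨k, t, e, P, f₁, by omega, ht, hq3, (isUnitaryFormPow_iff hF).2 hf₁, hP, rfl⟩

/-- The tensor product case. -/
theorem tensor_class (hn : 2 ≤ n) {H : Subgroup (GL (Fin n) F)} (hH : H ≤ GU n F q)
    (hirr : ActsIrreducibly (matrixSet H)) {n₁ n₂ : ℕ} {e : Fin n ≃ Fin n₁ × Fin n₂} {P : GL (Fin n) F}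
    {ε₁ ε₂ : F} {f₁ : (Fin n₁ → F) → (Fin n₁ → F) → F} {f₂ : (Fin n₂ → F) → (Fin n₂ → F) → F}
    (h1 : 2 ≤ n₁) (h2 : 2 ≤ n₂) (hf1 : HermForm (conj hF) ε₁ f₁) (hf2 : HermForm (conj hF) ε₂ f₂)
    (hstr : IsTensorFormStructure (conj hF) (hermForm n F q) f₁ f₂ e P) (hle : H ≤ tensorProductSubgroup n₁ n₂ e P) :
    ∃ M : Subgroup (GL (Fin n) F), InUnitaryClass n F q M ∧ H ≤ M := by
  obtain ⟨c₁, hc₁, hg1⟩ := exists_scale hf1 (conj_ne_refl hF)
  obtain ⟨c₂, hc₂, hg2⟩ := exists_scale hf2 (conj_ne_refl hF)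
  set g₁ : (Fin n₁ → F) → (Fin n₁ → F) → F := fun u v => c₁ * f₁ u v with hg₁
  set g₂ : (Fin n₂ → F) → (Fin n₂ → F) → F := fun u v => c₂ * f₂ u v with hg₂
  have hstr' : IsTensorFormStructure (conj hF) (hermForm n F q) g₁ g₂ e P := by
    obtain ⟨c, hc, h⟩ := hstr
    refine ⟨c / (c₁ * c₂), div_ne_zero hc (mul_ne_zero hc₁ hc₂), fun x y => ?_⟩
    rw [h]
    have hgr : gramMatrix g₁ ⊗ₖ gramMatrix g₂ = (c₁ * c₂) • (gramMatrix f₁ ⊗ₖ gramMatrix f₂) := by
      ext ⟨a, b⟩ ⟨a', b'⟩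
      simp only [Matrix.kroneckerMap_apply, Matrix.smul_apply, smul_eq_mul, gramMatrix, hg₁, hg₂]
      ring
    rw [hgr]
    simp only [formOfGram, Matrix.smul_apply, smul_eq_mul, Finset.mul_sum]
    refine Finset.sum_congr rfl fun a _ => Finset.sum_congr rfl fun b _ => ?_
    field_simp
  rcases lt_trichotomy n₁ n₂ with hlt | heq | hgt
  · refine ⟨tensorProductSubgroup n₁ n₂ e P ⊓ GU n F q, Or.inr (Or.inr (Or.inl ?_)), le_inf hle hH⟩
    exact ⟨n₁, n₂, e, P, g₁, g₂, h1, hlt, (isUnitaryFormPow_iff hF).2 hg1, (isUnitaryFormPow_iff hF).2 hg2,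
      hstr', rfl⟩
  · subst heq
    obtain ⟨B, hB⟩ := exists_isometry_two hF hg2 hg1
    have hB' := gram_of_isometry hF hg2 hB
    have hstr2 : IsTensorFormStructure (conj hF) (hermForm n F q) g₁ g₁ e (H912.chBasis e P 1 B) :=
      H912.isTensorFormStructure_chBasis hstr' 1 B (by
        have : ((1 : Matrix (Fin n₁) (Fin n₁) F)).map (conj hF) = 1 := by
          rw [Matrix.map_one _ (map_zero _) (map_one _)]
        rw [Units.val_one, Matrix.transpose_one, one_mul, this, mul_one]) hB'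
    rw [← H912.tensorProductSubgroup_chBasis e P 1 B] at hle
    exact wreath_class hF hn hH hirr h1 le_rfl hg1 (H912.isTensorPowerFormStructure_two hstr2)
      (hle.trans (H912.tensorProductSubgroup_le_tensorWreathSubgroup _ _))
  · refine ⟨tensorProductSubgroup n₂ n₁ (e.trans (Equiv.prodComm (Fin n₁) (Fin n₂))) P ⊓ GU n F q,
      Or.inr (Or.inr (Or.inl ?_)), le_inf (by rw [H912.tensorProductSubgroup_swap]; exact hle) hH⟩
    exact ⟨n₂, n₁, _, P, g₂, g₁, h2, hgt, (isUnitaryFormPow_iff hF).2 hg2, (isUnitaryFormPow_iff hF).2 hg1,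
      H912.isTensorFormStructure_swap hstr', rfl⟩

/-- The structure theorem for irreducible subgroups of the unitary group. -/
theorem unitary_irreducible (hn : 2 ≤ n) {H : Subgroup (GL (Fin n) F)} (hH : H ≤ GU n F q)
    (hirr : ActsIrreducibly (matrixSet H)) :
    (∃ M : Subgroup (GL (Fin n) F), InUnitaryClass n F q M ∧ H ≤ M) ∨ InUnitaryResidualClass H := by
  classical
  have hne : Nonempty (Fin n) := ⟨⟨0, by omega⟩⟩
  have hf := herm_hermForm (n := n) hF
  have hHf : ∀ h ∈ H, ∀ u v, hermForm n F q ((h : Matrix (Fin n) (Fin n) F) *ᵥ u)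
      ((h : Matrix (Fin n) (Fin n) F) *ᵥ v) = hermForm n F q u v := fun h hh => hH hh
  rcases H924.top_split hf hirr hHf with ⟨t, m, D, hD, hle, -⟩ | ⟨m, D, hD, hts, hle⟩ |
    ⟨r, K, hr, hK, hadj, hle⟩ | ⟨n₁, n₂, e, P, ε₁, ε₂, f₁, f₂, h1, h2, -, hf1, hf2, -, hstr, hle⟩ | hspan
  · left
    exact ⟨decompositionStabilizer D ⊓ GU n F q, Or.inl (Or.inr (Or.inr (Or.inl ⟨t, m, D, hD, rfl⟩))),
      le_inf hle hH⟩
  · left
    have hm : 2 * m = n := by
      have := H918.decomp_card hD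
      rwa [Fintype.card_fin] at this
    exact ⟨decompositionStabilizer D ⊓ GU n F q, Or.inl (Or.inr (Or.inr (Or.inr (Or.inl
      ⟨m, D, hm, hD, hts, rfl⟩)))), le_inf hle hH⟩
  · left
    exact ⟨subalgebraNormalizer K ⊓ GU n F q, Or.inr (Or.inl ⟨r, K, hr,
      odd_of_adjointClosed hf (conj_ne_refl hF) hr hK hadj, hK, hadj, rfl⟩), le_inf hle hH⟩
  · left
    exact tensor_class hF hn hH hirr h1 h2 hf1 hf2 hstr hle
  · -- class 5
    have hC5 : ∀ P : Subgroup (GL (Fin n) F), P ≤ H → (∀ h ∈ H, ∀ x ∈ P, h * x * h⁻¹ ∈ P) →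
        ActsAbsolutelyIrreducibly (matrixSet P) → ∀ F₀ : Subfield F, F₀ ≠ ⊤ → RealisableOver F₀ (matrixSet P) →
        (∃ M : Subgroup (GL (Fin n) F), InUnitaryClass n F q M ∧ H ≤ M) := by
      intro P hPH hP habs F₀ hF₀ hreal
      have hfP : FixesForm (matrixSet P) (hermForm n F q) := by
        rintro _ ⟨g, hg, rfl⟩
        exact hHf g (hPH hg)
      obtain ⟨F₁, r, B, ζ, _, _, hr, hc, hζ, hrat, _, hle⟩ :=
        H914.exists_le_subfieldSubgroup_form hP habs hF₀ hreal (H914.IsSesq.of_herm hf) hf.nondegenerate hfP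
      rw [Nat.card_eq_fintype_card] at hc
      obtain ⟨M, hM, hHM⟩ := exists_subfield_class hF hn hH hirr hr hc hζ hrat hle
      exact ⟨M, Or.inl hM, hHM⟩
    rcases H919.C_split H hirr (by rw [Fintype.card_fin]; exact hn) hspan with ⟨N, hNH, hN, hNs, hNc⟩ |
      ⟨m, t, e, P, E, W⟩ | ⟨P, hP⟩
    · left
      obtain ⟨r, m, R, hRN, hR, hHR, habs, htype, hchar, hm, hcardR, hcen, hord⟩ :=
        H920.exists_symplecticType hspan hNH hN hNs hNc
      obtain ⟨p, hp, e, hpp, hpe⟩ := FiniteField.card' F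
      rcases H920.realisable_or_minimal hpp hpe habs (fun x hx y hy => hNc x (hRN hx) y (hRN hy)) with
        ⟨F₀, hF₀, hreal⟩ | hmin
      · exact hC5 R (hRN.trans hNH) hR habs F₀ hF₀ hreal
      · have hpr : r ≠ p := by
          rintro rfl
          exact hchar (ringChar.eq F r)
        have hRf : R ≤ similarityGroup (hermForm n F q) := by
          intro g hg
          exact ⟨1, fun u v => by rw [Units.val_one, one_mul]; exact hHf g (hNH (hRN hg)) u v⟩
        have key : ((Odd r ∧ Nat.card (Subgroup.center R) = r ∧ 1 ≤ m ∧ Nat.card R = r ^ (1 + 2 * m)) ∨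
            (r = 2 ∧ (e : ℕ) = 2 ∧ Nat.card (Subgroup.center R) = 4 ∧ Nat.card R = 2 ^ (2 + 2 * m))) →
            (∃ M : Subgroup (GL (Fin n) F), InUnitaryClass n F q M ∧ H ≤ M) := by
          intro hkey
          refine ⟨subgroupNormalizer R ⊓ GU n F q, Or.inl ?_, le_inf hHR hH⟩
          refine Or.inr (Or.inr (Or.inr (Or.inr (Or.inr (Or.inr (Or.inr ?_))))))
          exact ⟨r, R, p, e, m, htype, habs, hRf, hpr, hmin, hkey, rfl⟩
        -- `e` is even
        obtain ⟨-, -, -, hdvd, hmin'⟩ := hmin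
        have heven : Even (e : ℕ) := by
          have h1 : p ^ (e : ℕ) = q ^ 2 := by rw [← hpe, hF]
          obtain ⟨b, -, hb⟩ := (Nat.dvd_prime_pow hpp).1 (show q ∣ p ^ (e : ℕ) by rw [h1]; exact dvd_pow_self _ two_ne_zero)
          rw [hb, ← pow_mul] at h1
          have := Nat.pow_right_injective hpp.two_le h1
          rw [this]
          exact even_two.mul_left _
        have he2 : 2 ≤ (e : ℕ) := by
          obtain ⟨b, hb⟩ := heven
          have := e.pos
          omega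
        rcases hord with ⟨h1, h2, h3⟩ | ⟨rfl, h2, h3⟩ | ⟨rfl, h2, h3⟩
        · exact key (Or.inl ⟨h1, h2, hm, h3⟩)
        · refine key (Or.inr ⟨rfl, ?_, h2, h3⟩)
          -- `4 ∣ p² - 1`
          by_contra hne2
          have hlt : 2 < (e : ℕ) := by omega
          apply hmin' 2 (by norm_num) hlt
          rw [h2]
          have hodd : Odd p := by
            rcases hpp.eq_two_or_odd' with rfl | h
            · exact absurd rfl hpr
            · exact h
          obtain ⟨a, rfl⟩ := hodd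
          refine ⟨a * (a + 1), ?_⟩
          have : (2 * a + 1) ^ 2 = 4 * (a * (a + 1)) + 1 := by ring
          omega
        · exfalso
          -- `2 ∣ p - 1`
          apply hmin' 1 (by norm_num) (by omega)
          rw [h2, pow_one]
          have hodd : Odd p := by
            rcases hpp.eq_two_or_odd' with rfl | h
            · exact absurd rfl hpr
            · exact h
          obtain ⟨a, rfl⟩ := hodd
          exact ⟨a, by omega⟩
    · left
      obtain ⟨P', ε₁, c, G, W', hG, hc, hstr, -, -⟩ := H919.C_wreath_form hf hHf W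
      obtain ⟨c₁, hc₁, hg⟩ := exists_scale hG (conj_ne_refl hF)
      refine wreath_class hF hn hH hirr W'.two_le_m W'.two_le_t hg ?_ W'.wreath
      refine ⟨c / c₁ ^ t, div_ne_zero hc (pow_ne_zero _ hc₁), fun x y => ?_⟩
      rw [hstr, sesq_eq_sum]
      have hgr : ∀ a b, gramMatrix (fun u v => c₁ * sesq (conj hF) G u v) a b = c₁ * G a b := by
        intro a b
        simp only [gramMatrix, sesq_single]
      simp only [hgr, Finset.prod_mul_distrib, Finset.prod_const, Finset.card_univ, Fintype.card_fin, pureMat_apply,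
        Finset.mul_sum]
      refine Finset.sum_congr rfl fun a _ => Finset.sum_congr rfl fun b _ => ?_
      have := pow_ne_zero t hc₁
      field_simp
    · by_cases hreal : ∃ F₀ : Subfield F, F₀ ≠ ⊤ ∧ RealisableOver F₀ (matrixSet P)
      · obtain ⟨F₀, hF₀, hreal⟩ := hreal
        exact Or.inl (hC5 P hP.le hP.normal hP.absIrred F₀ hF₀ hreal)
      · push Not at hreal
        right
        have hfP : FixesForm (matrixSet P) (hermForm n F q) := by
          rintro _ ⟨g, hg, rfl⟩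
          exact hHf g (hP.le hg)
        have hno := H914.not_fixes_bilinear_of_unitary hP.absIrred hreal (conj_ne_refl hF)
          (H914.IsSesq.of_herm hf) hf.nondegenerate hfP
        refine ⟨P, hP.isResidualCore hreal, ?_, ?_⟩
        · rintro ⟨Q, hQ, hQP⟩
          exact hno ⟨_, H914.IsSesq.of_bilinear hQ.polar_bilinear, hQ.nondegenerate, H914.fixesForm_polar hQP⟩
        · rintro ⟨f, hf', hfP'⟩
          exact hno ⟨_, H914.IsSesq.of_bilinear hf'.bilinear, hf'.nondegenerate, hfP'⟩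

/-- The structure theorem for subgroups of the unitary group `GU_n(q)`, `n ≥ 2`. -/
theorem unitary_structure (hn : 2 ≤ n) {H : Subgroup (GL (Fin n) F)} (hH : H ≤ GU n F q) :
    (∃ M : Subgroup (GL (Fin n) F), InUnitaryClass n F q M ∧ H ≤ M) ∨ InUnitaryResidualClass H := by
  by_cases hirr : ActsIrreducibly (matrixSet H)
  · exact unitary_irreducible hF hn hH hirr
  · left
    rcases H918.unitary_reducible hF hH hirr with ⟨W, hW0, hW, hle⟩ | ⟨W, hW0, hW, hd, hle⟩ | ⟨k, D, hk, hD, hle⟩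
    · exact ⟨subspaceStabilizer W ⊓ GU n F q, Or.inl (Or.inl ⟨W, hW0, hW, rfl⟩), le_inf hle hH⟩
    · exact ⟨subspaceStabilizer W ⊓ GU n F q, Or.inl (Or.inr (Or.inl ⟨W, hW0, hW, hd, rfl⟩)), le_inf hle hH⟩
    · exact ⟨decompositionStabilizer D ⊓ GU n F q, Or.inl (Or.inr (Or.inr (Or.inl ⟨2, k, D, hD, rfl⟩))),
        le_inf hle hH⟩

end Cfsg.Agent.H921
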