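import Cfsg.Agent.H921.SporGen
import Cfsg.Agent.ChevalleyStructure.Tits.Main

/-!
# The Tits group: configurations
-/

set_option autoImplicit false
set_option maxRecDepth 100000
set_option exponentiation.threshold 5000

namespace Cfsg.Agent.H921.Spor.Tits

open Cfsg.Agent.ChevalleyStructure.Tits.Pack Cfsg.Agent.ChevalleyStructure.Tits.Data
  Cfsg.Agent.ChevalleyStructure.Tits.Cert Cfsg.Agent.ChevalleyStructure.Tits.Rank2
  Cfsg.Agent.ChevalleyStructure.Tits.Sat Cfsg.Agent.ChevalleyStructure.Tits.Final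
  Cfsg.Agent.ChevalleyStructure.Tits.Mat Cfsg.Agent.ChevalleyStructure.Tits.Order
  Cfsg.Agent.ChevalleyStructure.Tits.Main

open scoped MatrixGroups

/-- the letters as words -/
def lt : ℕ → List ℕ
  | 0 => [0]
  | 1 => [8]
  | 2 => [9]
  | 3 => [7, 7]
  | 4 => [7, 0, 7, 7, 7]
  | 5 => [7, 8, 7, 7, 7]
  | _ => [7, 9, 7, 7, 7]

/-- expansion -/
def ex (u : List ℕ) : List ℕ := u.flatMap lt

theorem ex_append (u v : List ℕ) : ex (u ++ v) = ex u ++ ex v := List.flatMap_append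

/-- product of a word in `H0` -/
noncomputable def WH (u : List ℕ) : H0 := (u.map yH).prod

theorem WH_append (u v : List ℕ) : WH (u ++ v) = WH u * WH v := by
  unfold WH; rw [List.map_append, List.prod_append]

theorem yH_pow4 : yH 7 * yH 7 * yH 7 * yH 7 = 1 := by
  apply Subtype.ext
  apply Units.ext
  rw [Subgroup.coe_mul, Subgroup.coe_mul, Subgroup.coe_mul, coe_yH (by norm_num), Units.val_mul, Units.val_mul,
    Units.val_mul, coe_yG (by norm_num)]
  have h := LM_pow4 7 (by norm_num)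
  rw [pow_succ, pow_succ, pow_succ, pow_one] at h
  exact h

theorem mem_lt (l : ℕ) : WH (lt l) ∈ commutator H0 := by
  have h := comm_image Sat_yH (Abelianization.of (G := H0))
  obtain ⟨h0, h8, h9, h77⟩ := h
  have hmem : ∀ x : H0, Abelianization.of x = 1 → x ∈ commutator H0 := by
    intro x hx
    rw [← Abelianization.ker_of]
    exact hx
  apply hmem
  have key : ∀ u : List ℕ, Abelianization.of (WH u) = (u.map fun i => Abelianization.of (yH i)).prod := by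
    intro u
    unfold WH
    rw [map_list_prod, List.map_map]
    rfl
  rw [key]
  unfold lt
  split <;> simp only [List.map_cons, List.map_nil, List.prod_cons, List.prod_nil, mul_one]
  · exact h0
  · exact h8
  · exact h9
  · exact h77
  · rw [h0, one_mul, h77, mul_one, h77]
  · rw [h8, one_mul, h77, mul_one, h77]
  · rw [h9, one_mul, h77, mul_one, h77]

theorem mem_ex (u : List ℕ) : WH (ex u) ∈ commutator H0 := by
  induction u with
  | nil => exact one_mem _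
  | cons l u ih =>
    have h : ex (l :: u) = lt l ++ ex u := rfl
    rw [h, WH_append]
    exact mul_mem (mem_lt l) ih

theorem lt_ten (u : List ℕ) : ∀ i ∈ ex u, i < 10 := by
  induction u with
  | nil => intro i hi; exact absurd hi List.not_mem_nil
  | cons l u ih =>
    have h : ex (l :: u) = lt l ++ ex u := rfl
    intro i hi
    rw [h, List.mem_append] at hi
    rcases hi with hi | hi
    · revert hi
      unfold lt
      split <;> simp <;> omega
    · exact ih i hi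

theorem coe_WH (u : List ℕ) (h : ∀ i ∈ u, i < 10) : (((WH u : H0) : GL I52 (ZMod 2)) : Matrix I52 I52 (ZMod 2)) =
    toMat (evalW u) := by
  rw [toMat_evalW, ← coe_word u (fun i hi => lt_trans (h i hi) (by norm_num))]
  congr 1
  unfold WH
  induction u with
  | nil => rfl
  | cons a u ih =>
    rw [List.map_cons, List.prod_cons, List.map_cons, List.prod_cons, Subgroup.coe_mul,
      coe_yH (h a List.mem_cons_self), ih (fun i hi => h i (List.mem_cons_of_mem _ hi))]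

/-- comparison -/
def eqb (u v : List ℕ) : Bool := Nat.beq (evalW (ex u)) (evalW (ex v))

/-- difference from the identity -/
def neb (u : List ℕ) : Bool :=
  (List.range 4).any fun j => (List.range 4).any fun i =>
    (evalW (ex u)).testBit (52 * j + i) != Nat.beq i j

theorem inl_one (i j : Fin 4) : (1 : Matrix I52 I52 (ZMod 2)) (Sum.inl i) (Sum.inl j) = bz (Nat.beq i j) := by
  by_cases h : i = j
  · subst h
    rw [Matrix.one_apply_eq, Nat.beq_refl]; rfl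
  · rw [Matrix.one_apply_ne (fun h1 => h (Sum.inl_injective h1))]
    have h2 : Nat.beq i j = false := by
      rw [← Bool.not_eq_true]
      intro h3
      exact h (Fin.ext (Nat.eq_of_beq_eq_true h3))
    rw [h2]; rfl

/-- words in the Tits group -/
noncomputable def wd : Wd (commutator H0) where
  W := fun u => ⟨WH (ex u), mem_ex u⟩
  nil := rfl
  app := fun u v => Subtype.ext (by
    change WH (ex (u ++ v)) = WH (ex u) * WH (ex v)
    rw [ex_append, WH_append])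
  eq := eqb
  eq_sound := by
    intro u v h
    apply Subtype.ext
    apply Subtype.ext
    apply Units.ext
    change (((WH (ex u) : H0) : GL I52 (ZMod 2)) : Matrix I52 I52 (ZMod 2)) =
      (((WH (ex v) : H0) : GL I52 (ZMod 2)) : Matrix I52 I52 (ZMod 2))
    rw [coe_WH _ (lt_ten u), coe_WH _ (lt_ten v), Nat.eq_of_beq_eq_true h]
  ne := neb
  ne_sound := by
    intro u h h1
    have h2 : WH (ex u) = 1 := congrArg Subtype.val h1
    have h3 := coe_WH _ (lt_ten u)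
    rw [h2] at h3
    unfold neb at h
    rw [List.any_eq_true] at h
    obtain ⟨j, hj, h⟩ := h
    rw [List.any_eq_true] at h
    obtain ⟨i, hi, h⟩ := h
    have hj4 := List.mem_range.1 hj
    have hi4 := List.mem_range.1 hi
    have h4 := congrFun (congrFun h3 (Sum.inl ⟨i, hi4⟩)) (Sum.inl ⟨j, hj4⟩)
    rw [toMat_apply] at h4
    change (1 : Matrix I52 I52 (ZMod 2)) (Sum.inl ⟨i, hi4⟩) (Sum.inl ⟨j, hj4⟩) = _ at h4
    rw [inl_one, ix_inl, ix_inl] at h4
    change bz (Nat.beq i j) = bz ((evalW (ex u)).testBit (52 * j + i)) at h4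
    have h5 : ∀ a b : Bool, bz a = bz b → a = b := by decide
    rw [h5 _ _ h4] at h
    simp at h

/-- transport to the group of the definition -/
theorem conf_of {r m : ℕ} (h : Conf r m (commutator H0)) : Conf r m Cfsg.Lie.TitsGroup := by
  have key : ∀ K : Subgroup (GL I52 (ZMod 2)), K = H0 → Conf r m (commutator K) := by
    intro K hK; subst hK; exact h
  exact key _ T0_eq_H0

theorem orb_of {r m : ℕ} (h : Orb r m (commutator H0)) : Orb r m Cfsg.Lie.TitsGroup := by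
  have key : ∀ K : Subgroup (GL I52 (ZMod 2)), K = H0 → Orb r m (commutator K) := by
    intro K hK; subst hK; exact h
  exact key _ T0_eq_H0

theorem Tits_thirteen : Orb 13 6 Cfsg.Lie.TitsGroup :=
  orb_of (wd.orb_gen (r := 13) (d := 1) (m := 6)
    (X := [[0, 3, 6, 1, 6, 0, 4, 3, 5, 0, 4, 1]])
    (G := [[6, 1, 6, 5, 2, 1, 0, 1, 5, 0, 4, 1]])
    (B := [[[10]]])
    (S := [[], [0], [0, 0], [0, 0, 0], [0, 0, 0, 0], [0, 0, 0, 0, 0]])
    (c₀ := [1]) (by norm_num) (by decide +kernel))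

theorem Tits_five : Orb 5 24 Cfsg.Lie.TitsGroup :=
  orb_of (wd.orb_gen (r := 5) (d := 2) (m := 24)
    (X := [[6, 1, 2, 3, 1, 2, 5, 2, 1, 6, 1, 0, 6, 5], [6, 0, 1, 6, 1, 0, 6, 1, 3, 2, 1, 3, 1, 2, 1]])
    (G := [[3, 2, 3], [3, 6, 1, 0, 6, 0, 3, 4, 1, 3, 1]])
    (B := [[[4, 0], [1, 1]], [[4, 2], [4, 3]]])
    (S := [[], [1], [1, 1], [0, 1, 0], [1, 1, 1], [1, 0, 1, 0], [0, 1, 1, 0], [0, 1, 0, 1], [1, 1, 1, 1, 0], [1, 1, 1,
    0, 1], [0, 1, 0, 1, 1], [0, 1, 1, 0, 1, 0], [1, 1, 1, 1, 0, 1], [1, 1, 0, 1, 0, 1, 0], [1, 0, 1, 1, 0, 1, 0],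
    [1, 0, 1, 0, 1, 1, 0], [0, 1, 0, 1, 1, 0, 1], [1, 1, 1, 0, 1, 0, 1, 0], [1, 1, 0, 1, 0, 1, 1, 0], [1, 0, 1,
    0, 1, 1, 0, 1], [1, 1, 0, 1], [1, 0, 1, 1, 0], [1, 0, 1, 0, 1, 0], [1, 1, 1, 1, 0, 1, 0, 1, 0], [0], [1, 1,
    1, 0], [1, 0, 1, 0, 1], [0, 1, 1, 0, 1]])
    (c₀ := [0, 1]) (by norm_num) (by decide +kernel))

theorem Tits_three : Orb 3 8 Cfsg.Lie.TitsGroup :=
  orb_of (wd.orb_gen (r := 3) (d := 2) (m := 8)
    (X := [[4, 5, 2, 1, 6, 1, 6, 1, 3, 4, 0, 3], [3, 6, 5, 2, 0, 1, 6, 1, 0, 6, 3, 5, 2, 1]])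
    (G := [[6, 4, 6, 1, 6, 1, 6, 5, 2, 0, 1, 3, 0]])
    (B := [[[1, 1], [2, 1]]])
    (S := [[], [0], [0, 0], [0, 0, 0], [0, 0, 0, 0], [0, 0, 0, 0, 0], [0, 0, 0, 0, 0, 0], [0, 0, 0, 0, 0, 0, 0]])
    (c₀ := [0, 1]) (by norm_num) (by decide +kernel))

theorem Tits_two : Orb 2 16 Cfsg.Lie.TitsGroup :=
  orb_of (wd.orb_gen (r := 2) (d := 5) (m := 16)
    (X := [[1, 0, 6, 0, 1, 2, 1, 3, 1, 2], [2, 1, 6, 1, 3, 2, 1, 2, 1, 0, 1], [5, 3, 6, 5, 2, 5, 3, 6, 4, 3, 5], [0, 4,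
    1, 6, 1, 6, 5, 4, 2, 0, 5, 0, 1, 4], [5, 3, 6, 5, 2, 1, 2, 4, 3, 2, 1, 3, 1, 2, 1]])
    (G := [[1, 6, 5, 0, 3, 4], [4, 1, 6, 5, 2, 1, 2, 4, 1]])
    (B := [[[1, 0, 0, 0, 0], [1, 1, 0, 1, 1], [0, 0, 0, 0, 1], [0, 0, 1, 1, 1], [0, 0, 1, 0, 0]], [[1, 1, 1, 1, 1], [0,
    1, 1, 0, 0], [0, 0, 0, 1, 1], [0, 0, 0, 1, 0], [0, 0, 1, 0, 0]]])
    (S := [[], [1], [1, 1], [0, 1, 0], [1, 1, 1], [1, 0, 1, 0], [0, 1, 0, 1], [1, 1, 1, 1], [1, 1, 1, 1, 1], [1, 0, 1,
    0, 1, 0], [1, 1, 0, 1, 0, 1, 0], [1, 0, 1, 1, 0, 1, 0], [1, 0, 1, 0, 1, 1, 0], [1, 1, 1, 1, 0, 1, 1], [1, 1,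
    1, 0, 1, 0, 1, 0], [1, 1, 0, 1, 0, 1, 1, 0]])
    (c₀ := [0, 0, 0, 1, 0]) (by norm_num) (by decide +kernel))

end Cfsg.Agent.H921.Spor.Tits
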