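import Cfsg.Agent.H912.Bd4
import Cfsg.Agent.H921.SporOrb
import Cfsg.Agent.Co2Type.Quad

/-!
# Large extraspecial 2-subgroups: degree at least `2 ^ k`
-/

set_option autoImplicit false

universe u v

namespace Cfsg.Agent.H921.Spor

open Cfsg.Agent.H912.Bd Cfsg.Agent.Co2Type.Quad

theorem bd_of_large {T : Type v} [Group T] {Q : Subgroup T} {z : T} (h : Large Q z) {k : ℕ}
    (hQ : Nat.card Q = 2 ^ (2 * k + 1)) {F : Type u} [Field F] (h2 : (2 : F) ≠ 0) : Bd F 2 (2 ^ k) T := by
  have hz : orderOf z = 2 := orderOf_eq_prime (by rw [pow_two]; exact h.z_sq) h.z_ne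
  refine bd_of_extraspecial' Nat.prime_two (by exact_mod_cast h2) Q hQ hz h.z_mem h.comm_z ?_ ?_
  · intro x hx y hy
    rcases h.comm x hx y hy with h1 | h1
    · rw [h1, mul_inv_cancel_right, mul_inv_cancel]
      exact Subgroup.one_mem _
    · have h3 : x * y * x⁻¹ * y⁻¹ = z := by
        rw [h1]
        have hz1 := h.comm_z (x⁻¹) (Q.inv_mem hx)
        have hz2 := h.comm_z (y⁻¹) (Q.inv_mem hy)
        calc y * x * z * x⁻¹ * y⁻¹ = y * x * (z * x⁻¹) * y⁻¹ := by group
          _ = y * x * (x⁻¹ * z) * y⁻¹ := by rw [hz1]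
          _ = y * (z * y⁻¹) := by group
          _ = y * (y⁻¹ * z) := by rw [hz2]
          _ = z := by group
      rw [h3]
      exact Subgroup.mem_zpowers z
  · intro y hy hyz
    by_contra hc
    push Not at hc
    apply hyz
    rcases h.cent y hy (fun x hx => (hc x hx).symm) with h1 | h1
    · rw [h1]; exact Subgroup.one_mem _
    · rw [h1]; exact Subgroup.mem_zpowers z

end Cfsg.Agent.H921.Spor
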