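import Cfsg.Agent.H921.SporGen
import Cfsg.Agent.KFacts.He.Words
import Cfsg.Agent.FixBN.HeCent

/-!
# The Held group: configurations
-/

set_option autoImplicit false
set_option maxRecDepth 100000

namespace Cfsg.Agent.H921.Spor.He

open Cfsg.Spor Cfsg.Spor.He Cfsg.Agent.SporadicB.HePerm Cfsg.Agent.FixBN.HeCent

/-- the generators -/
def gn : ℕ → Cfsg.Spor.He.Gen
  | 0 => .a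
  | 1 => .b
  | 2 => .c
  | 3 => .d
  | 4 => .e
  | 5 => .f
  | _ => .g

/-- value of a word at a point -/
def ev (u : List ℕ) (i : ℕ) : ℕ := act (u.map gn) i

/-- comparison at the base points -/
def eqb (u v : List ℕ) : Bool :=
  Nat.beq (ev u 0) (ev v 0) && Nat.beq (ev u 1) (ev v 1) && Nat.beq (ev u 32) (ev v 32) && Nat.beq (ev u 8) (ev v 8)

/-- words in the generators -/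
noncomputable def wd : Wd Cfsg.Spor.He where
  W := fun u => Cfsg.Agent.SporadicB.HePerm.wd (u.map gn)
  nil := rfl
  app := fun u v => by rw [List.map_append, wd_append]
  eq := eqb
  eq_sound := by
    intro u v h
    unfold eqb at h
    simp only [Bool.and_eq_true] at h
    obtain ⟨⟨⟨h0, h1⟩, h2⟩, h3⟩ := h
    have key : ∀ i : Fin 2058, Nat.beq (ev u i) (ev v i) = true →
        phi (Cfsg.Agent.SporadicB.HePerm.wd (u.map gn)) i = phi (Cfsg.Agent.SporadicB.HePerm.wd (v.map gn)) i := by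
      intro i hi
      apply Fin.ext
      rw [phi_wd_apply, phi_wd_apply]
      exact Nat.eq_of_beq_eq_true hi
    exact Cfsg.Agent.KFacts.He.Words.eq_of_base (key 0 h0) (key 1 h1) (key 32 h2) (key 8 h3)
  ne := fun u => (List.range 8).any fun i => !Nat.beq (ev u i) i
  ne_sound := by
    intro u h h1
    rw [List.any_eq_true] at h
    obtain ⟨i, hi, h2⟩ := h
    have hi' : i < 2058 := lt_trans (List.mem_range.1 hi) (by norm_num)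
    have h4 := phi_wd_apply (u.map gn) ⟨i, hi'⟩
    rw [h1, map_one] at h4
    have h5 : i = ev u i := h4
    rw [← h5] at h2
    simp at h2

theorem He_seventeen : Conf 17 8 Cfsg.Spor.He :=
  wd.conf_prime (r := 17) (k := 9) [1, 2, 3, 5]
    [1, 0, 3, 5, 2, 3, 4, 3, 5, 1, 2, 5, 6, 3, 5, 0, 4, 3, 2, 5, 6, 1, 0, 3, 6, 2, 3, 2, 3, 2, 6, 3, 5, 1, 2, 3, 6, 2,
    3, 2, 6, 3, 2, 0, 2, 3, 1, 2, 3, 4, 1, 2, 1, 3, 2, 3, 4, 2, 0, 1, 2, 3, 2, 1, 0, 3, 2, 3]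
    8 (by norm_num) (by decide +kernel) (by decide)

theorem He_seven : Orb 7 42 Cfsg.Spor.He :=
  (wd.orb_gen (r := 7) (d := 2) (m := 42)
    (X := [[3, 4, 3, 5, 0, 3, 4, 3, 5, 4, 2, 3, 5, 1, 6, 3, 5, 0, 2, 1, 0, 3, 1, 2, 3, 6, 0, 2, 3, 6, 2, 3, 2, 1, 2, 3,
    2, 4, 1, 0, 1], [6, 5, 2, 1, 3, 2, 5, 4, 3, 2, 3, 5, 0, 3, 1, 2, 3, 6, 2, 3, 5, 3, 6, 5, 2, 0, 1, 2, 3, 2, 5,
    1, 0, 2, 6, 3, 5, 4, 6, 1, 0, 1]])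
    (G := [[1, 0, 6, 0, 3, 2, 3, 2, 6, 4, 3, 2, 3, 2, 3, 2], [6, 3, 5, 1, 3, 2, 1, 3, 6, 5, 0, 1, 3, 2, 1, 6, 5, 4, 2,
    3, 2, 1, 0, 1]])
    (B := [[[3, 3], [6, 4]], [[4, 4], [3, 5]]])
    (S := [[], [0], [0, 0], [0, 0, 0], [1, 1, 0, 1], [1, 0, 1, 1], [1, 0, 1, 1, 0], [0, 1, 1, 0, 1], [1, 0, 1, 1, 0,
    0], [0, 1, 1, 0, 1, 0], [1, 1, 1, 0, 1, 0], [0, 1, 0, 1, 1, 0], [1, 1, 0, 1, 0, 1], [0, 1, 0, 1, 1, 1], [0,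
    1, 0, 1, 1, 0, 0], [1, 1, 0, 1, 0, 1, 0], [0, 1, 0, 1, 1, 1, 0], [1, 0, 1, 1, 1, 0, 1], [1, 1, 0, 1, 0, 1, 0,
    0], [0, 1, 1, 1, 0, 1, 0, 0], [0, 1, 1, 1, 0, 1, 0, 0, 0], [1, 0, 1, 0, 1, 1, 0, 0, 0], [1, 0, 1, 0, 1, 1, 1,
    0, 0], [1, 1, 1, 1, 1, 1, 0, 1, 0, 0], [1, 1, 0, 1, 1, 1, 1, 1, 1, 0], [1, 1, 1, 1, 0, 1, 1, 0, 1, 1], [1, 1,
    1, 1, 1], [1, 1, 1, 1, 1, 0, 0], [1, 1, 0, 1, 0, 1, 1], [1, 0, 1, 1, 0, 1, 0, 0, 0], [1, 1, 0, 1, 1, 0, 1, 0,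
    0], [1, 1, 1, 1, 1, 0, 1, 0, 0, 0], [0, 1, 0, 1, 1, 1, 1, 0, 0, 0], [0, 1, 1, 1, 1, 1, 1, 0, 1, 1], [0, 1, 1,
    1, 0], [1, 1, 1, 1, 1, 1], [0, 1, 0, 1, 0, 1, 0], [0, 1, 0, 1, 1, 1, 1], [1, 0, 1, 1, 1, 0, 0, 0], [1, 0, 1,
    0, 1, 1, 1, 0], [0, 1, 1, 1, 0, 1, 0, 1], [1, 1, 1, 0, 1, 0, 1, 0, 0], [1, 0, 1, 1, 0, 1, 1, 0, 0], [1, 0, 1,
    1, 1, 1, 1, 1, 0, 1], [1, 1, 0, 1, 0, 1, 0, 1], [1, 0, 1, 0, 1, 0, 1, 0, 0, 0], [0, 1, 1, 1, 1, 1, 1, 0, 1,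
    0], [0, 1, 1, 1, 1, 1, 1, 0, 1, 0, 0], [1, 1, 1, 0]])
    (c₀ := [0, 1]) (by norm_num) (by decide +kernel))

theorem He_five : Orb 5 24 Cfsg.Spor.He :=
  (wd.orb_gen (r := 5) (d := 2) (m := 24)
    (X := [[1, 0, 6, 3, 5, 2, 0, 1, 4, 3, 2, 3, 6, 5, 0, 1, 3, 2, 1, 6, 5, 2, 1, 0, 3, 2, 3, 1, 2, 1, 4, 5, 3, 6, 3, 2,
    3, 2, 6, 0, 3, 6, 5], [5, 2, 3, 2, 6, 3, 1, 5, 3, 2, 3, 2, 6, 2, 3, 1, 2, 4, 3, 2, 3, 4, 0, 3, 6, 1, 2, 3, 6,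
    2, 1, 3, 1, 2, 3, 2, 6, 3, 2, 1, 6, 1, 3, 2, 1, 3, 1, 0, 1]])
    (G := [[1, 2, 6, 1, 3, 2, 3, 6, 4, 3, 1, 6, 3, 2, 1, 3, 0, 6, 4, 3, 4, 6], [6, 3, 2, 3, 2, 5, 2, 0, 3, 2, 4, 3, 5,
    3, 6, 3, 2, 3, 2, 6, 0, 3, 6, 5, 1, 0, 1, 4, 2, 3, 2]])
    (B := [[[0, 1], [4, 4]], [[1, 3], [0, 4]]])
    (S := [[], [0], [1], [0, 0], [1, 0], [1, 0, 0], [0, 1, 0, 1], [0, 1, 0, 1, 0], [1, 0, 1, 0, 1], [0, 1, 0, 1, 0, 0],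
    [1, 0, 1, 0, 1, 0], [0, 0, 1, 0, 0, 1], [1, 0, 1], [1, 0, 0, 1, 0, 0], [0, 1, 0, 0, 1, 0], [0, 0, 1, 0, 1,
    0], [0, 0, 1, 0, 0, 1, 0], [0, 0, 1, 0, 0, 1, 0, 0], [1, 0, 0, 1, 0, 0, 1, 0], [0, 1, 0, 0, 1, 0, 1, 0], [1,
    0, 1, 0, 0, 1, 0, 1], [1, 0, 0, 1, 0, 0, 1, 0, 0], [0, 1, 0, 0, 1, 0, 1, 0, 0], [1, 0, 1, 0, 0, 1, 0, 1, 0],
    [1, 0, 1, 0, 0, 1, 0, 1, 0, 0], [0, 1, 0], [0, 0, 1], [0, 1, 0, 0], [0, 0, 1, 0], [1, 0, 1, 0], [1, 0, 0, 1],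
    [1, 0, 1, 0, 0], [1, 0, 0, 1, 0]])
    (c₀ := [0, 1]) (by norm_num) (by decide +kernel))

theorem He_three : Orb 3 8 Cfsg.Spor.He :=
  (wd.orb_gen (r := 3) (d := 2) (m := 8)
    (X := [[1, 0, 4, 6, 5, 1, 6, 2, 3, 2, 1, 2, 1, 5, 2, 3, 2, 3, 1, 2, 1, 3, 5, 0, 6, 5, 0, 3, 5, 6, 2, 3, 2, 4], [1,
    3, 4, 2, 3, 1, 0, 2, 5, 6, 3, 5, 2, 1, 0, 3, 2, 3, 4, 3, 0, 6, 3, 2, 3, 2, 1, 2, 3, 2, 1, 4, 0, 2, 3, 2, 3,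
    6, 0, 3, 4]])
    (G := [[2, 3, 2, 6, 4, 3, 5, 1, 2, 6, 3, 2, 1, 6, 3, 0, 2, 0, 1, 4, 3, 2, 3, 1, 2, 1, 4, 6, 3, 0, 4, 5, 3, 6, 4, 2,
    3, 2]])
    (B := [[[0, 2], [2, 1]]])
    (S := [[], [0], [0, 0], [0, 0, 0], [0, 0, 0, 0], [0, 0, 0, 0, 0], [0, 0, 0, 0, 0, 0], [0, 0, 0, 0, 0, 0, 0]])
    (c₀ := [0, 1]) (by norm_num) (by decide +kernel))

theorem He_two : Orb 2 15 Cfsg.Spor.He :=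
  (wd.orb_gen (r := 2) (d := 5) (m := 15)
    (X := [[0, 3, 1, 0, 1], [4, 3, 2, 3, 6, 2, 1, 0, 3, 2, 3, 2, 3, 2, 4], [1, 4, 3, 2, 6, 2, 1, 0, 3, 2, 3, 0, 2, 3,
    2, 3, 6, 0, 3, 4], [4, 3, 2, 3, 6, 4, 3, 1, 6, 3, 2, 1, 3, 0, 1, 2, 3, 5, 0, 2, 3, 5, 3, 4, 1, 2, 6, 4, 3, 2,
    5, 2, 1, 3, 4, 5, 0], [0, 4, 1, 3, 2, 3, 1, 6, 1, 4, 3, 2, 1, 6, 3, 2, 1, 3, 0, 6, 4, 3, 4, 6, 4, 1, 2, 3, 2,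
    1, 2, 3, 2, 3, 6, 0, 3, 2, 3, 2]])
    (G := [[0, 2, 3, 5, 3, 4, 6, 3, 2, 5, 1, 0, 1, 4, 2, 3, 2], [2, 1, 3, 2, 6, 2, 1, 0, 3, 2, 3, 4, 3, 1, 6, 3, 2, 1,
    3, 0, 4, 1, 2, 3, 2, 1, 0]])
    (B := [[[1, 0, 0, 0, 0], [0, 0, 0, 0, 1], [0, 0, 1, 0, 0], [0, 0, 1, 1, 0], [0, 1, 0, 0, 0]], [[1, 0, 1, 0, 0], [0,
    0, 0, 1, 1], [1, 0, 0, 1, 1], [0, 0, 1, 1, 0], [1, 1, 1, 1, 1]]])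
    (S := [[], [1], [1, 1], [0, 1, 0], [1, 1, 1, 0], [0, 1, 0, 1], [0, 1, 1, 1], [1, 0, 1, 0, 1, 0], [1, 1, 1, 1, 1,
    0], [0, 1, 1, 1, 1], [0, 1, 1, 0, 1, 0, 1, 0], [0, 1, 0, 1, 0], [0, 1, 0, 1, 1, 1, 0], [1, 0, 1, 1, 1, 0, 1,
    0], [1, 0, 1, 1, 0], [1, 1, 0, 1, 1, 1, 0, 1, 0], [1, 1, 1, 1, 0], [1, 0, 1, 1, 1], [1, 1, 0, 1, 0, 1], [1,
    1, 1, 1, 0, 1, 0, 1]])
    (c₀ := [0, 0, 0, 1, 0]) (by norm_num) (by decide +kernel))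

end Cfsg.Agent.H921.Spor.He
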