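import Cfsg.Agent.H921.SporLin
import Cfsg.Agent.SporadicB.J1.Main

/-!
# Configurations in the Janko group `J1`
-/

set_option autoImplicit false

universe u v w

namespace Cfsg.Agent.H921.Spor.J1

open Cfsg Cfsg.Spor Cfsg.Agent.SporadicB.J1.Mat Cfsg.Agent.SporadicB.J1.Data Cfsg.Agent.SporadicB.J1.Main

theorem conf_of_check {p m α : ℕ} (hp : p.Prime) (w v : List Nat)
    (hx : powC (evC w) p cI = cI) (hx1 : diffC (evC w) cI = true)
    (hα : mulC (evC v) (evC w) = mulC (powC (evC w) α cI) (evC v))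
    (hk : ∀ i < m, 0 < i → α ^ i % p ≠ 1 % p) : Conf p m Spor.J1 := by
  refine Conf.of_prime hp (x := ev w) (y := ev v) (((rep_ev w).pow p).eq Rep.one hx)
    ((rep_ev w).ne Rep.one hx1) (k := α) ?_ m hk
  have h1 : ev v * ev w = ev w ^ α * ev v := ((rep_ev v).mul (rep_ev w)).eq (((rep_ev w).pow α).mul (rep_ev v)) hα
  rw [h1, mul_inv_cancel_right]

theorem J1_nineteen : Conf 19 6 Spor.J1 :=
  conf_of_check (by norm_num) [3, 0] [0, 1, 0, 1, 1, 2, 3, 3, 2, 3, 0, 3, 2] (α := 8) (by decide +kernel)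
    (by decide +kernel) (by decide +kernel) (by decide)

theorem J1_eleven : Conf 11 10 Spor.J1 :=
  conf_of_check (by norm_num) [1, 1, 0] [0, 0, 1, 0, 1, 1, 0, 1] (α := 7) (by decide +kernel)
    (by decide +kernel) (by decide +kernel) (by decide)

theorem J1_seven : Conf 7 6 Spor.J1 :=
  conf_of_check (by norm_num) [0] [3, 3, 0, 3, 0, 0, 3, 2, 3, 0, 1, 1, 0, 1, 0, 1] (α := 5) (by decide +kernel)
    (by decide +kernel) (by decide +kernel) (by decide)

end Cfsg.Agent.H921.Spor.J1
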