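import Cfsg.Prelude.Def_GeometricClasses
import Cfsg.Agent.H919.AschDefs
import Cfsg.Agent.LieClassical.HermBasic
import Cfsg.Agent.ClassicalGeometry.HermOrthonormal

/-!
Unitary forms over the field with `q²` elements in the vocabulary of the Aschbacher core (H921).

* `herm_hermForm` : `hermForm n F q` is a `HermForm (conj hF) 1`;
* `isUnitaryFormPow_iff`;
* `exists_scale` : a `(σ, ε)`-hermitian form with `σ ≠ 1` has a scalar multiple with `ε = 1`;
* `exists_isometry` : every non-degenerate unitary form on `F^m` is isometric to `hermForm m F q`.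
-/

set_option autoImplicit false
set_option linter.unusedSectionVars false
open Cfsg Cfsg.Geo Matrix

namespace Cfsg.Agent.H921

open Cfsg.Agent.H919 (HermForm)
open Cfsg.Agent.LieClassical.HermBasic

section General

variable {ι : Type} [Fintype ι] [DecidableEq ι] {F : Type*} [Field F]
variable {σ : F ≃+* F} {ε : F} {f : (ι → F) → (ι → F) → F}

/-- Scaling a `(σ, ε)`-hermitian form. -/
theorem herm_smul (hf : HermForm σ ε f) {c : F} (hc : c ≠ 0) {ε' : F} (h : ε' * σ c = ε * c) :
    HermForm σ ε' (fun u v => c * f u v) where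
  add_left x y v := by rw [hf.add_left, mul_add]
  smul_left a x v := by rw [hf.smul_left]; ring
  sigma_sq := hf.sigma_sq
  eps := by
    have hσc : σ c ≠ 0 := fun h0 => hc (by simpa using h0)
    have h1 : ε' = ε * c / σ c := by rw [← h, mul_div_assoc, div_self hσc, mul_one]
    rw [h1, map_div₀, map_mul, hf.sigma_sq]
    have h2 := hf.eps
    field_simp
    exact h2
  herm v w := by
    rw [map_mul, ← mul_assoc, h, hf.herm v w]; ring
  nondegenerate v hv := by
    obtain ⟨⟨x, hx⟩, ⟨y, hy⟩⟩ := hf.nondegenerate v hv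
    exact ⟨⟨x, mul_ne_zero hc hx⟩, ⟨y, mul_ne_zero hc hy⟩⟩

/-- Hilbert 90 for an involution: `ε σ(ε) = 1` and `σ ≠ 1` give `λ ≠ 0` with `σ λ = ε λ`. -/
theorem exists_hilbert (hσ : σ ≠ RingEquiv.refl F) (hσ2 : ∀ a, σ (σ a) = a) {ε : F} (hε : ε * σ ε = 1) :
    ∃ c : F, c ≠ 0 ∧ σ c = ε * c := by
  by_contra hcon
  push Not at hcon
  have h1 : ∀ x : F, x + σ ε * σ x = 0 := by
    intro x
    by_contra h0
    apply hcon _ h0
    rw [map_add, map_mul, hσ2, hσ2, mul_add, ← mul_assoc, hε, one_mul, add_comm]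
  have h2 : σ ε = -1 := by
    have := h1 1
    rw [map_one, mul_one] at this
    exact (neg_eq_of_add_eq_zero_right this).symm
  apply hσ
  ext x
  have h3 := h1 x
  rw [h2] at h3
  change σ x = x
  have h4 : x - σ x = 0 := by rw [← h3]; ring
  exact (sub_eq_zero.mp h4).symm

/-- A `(σ, ε)`-hermitian form with `σ ≠ 1` has a multiple with `ε = 1`. -/
theorem exists_scale (hf : HermForm σ ε f) (hσ : σ ≠ RingEquiv.refl F) :
    ∃ c : F, c ≠ 0 ∧ HermForm σ 1 (fun u v => c * f u v) := by
  obtain ⟨c, hc, h⟩ := exists_hilbert hσ hf.sigma_sq hf.eps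
  exact ⟨c, hc, herm_smul hf hc (by rw [one_mul, h])⟩

/-- Transport along a change of basis. -/
theorem herm_comp (hf : HermForm σ ε f) (B : GL ι F) :
    HermForm σ ε (fun u v => f ((B : Matrix ι ι F) *ᵥ u) ((B : Matrix ι ι F) *ᵥ v)) where
  add_left x y v := by rw [Matrix.mulVec_add, hf.add_left]
  smul_left a x v := by rw [Matrix.mulVec_smul, hf.smul_left]
  sigma_sq := hf.sigma_sq
  eps := hf.eps
  herm v w := hf.herm _ _
  nondegenerate v hv := by
    have h1 : ∀ x : ι → F, (B : Matrix ι ι F) *ᵥ (((B⁻¹ : GL ι F) : Matrix ι ι F) *ᵥ x) = x := by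
      intro x
      rw [Matrix.mulVec_mulVec, ← Units.val_mul, mul_inv_cancel, Units.val_one, Matrix.one_mulVec]
    have h2 : ∀ x : ι → F, ((B⁻¹ : GL ι F) : Matrix ι ι F) *ᵥ ((B : Matrix ι ι F) *ᵥ x) = x := by
      intro x
      rw [Matrix.mulVec_mulVec, ← Units.val_mul, inv_mul_cancel, Units.val_one, Matrix.one_mulVec]
    have hv' : (B : Matrix ι ι F) *ᵥ v ≠ 0 := by
      intro h0
      apply hv
      rw [← h2 v, h0, Matrix.mulVec_zero]
    obtain ⟨⟨x, hx⟩, ⟨y, hy⟩⟩ := hf.nondegenerate _ hv'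
    refine ⟨⟨((B⁻¹ : GL ι F) : Matrix ι ι F) *ᵥ x, ?_⟩, ⟨((B⁻¹ : GL ι F) : Matrix ι ι F) *ᵥ y, ?_⟩⟩
    · change f ((B : Matrix ι ι F) *ᵥ (((B⁻¹ : GL ι F) : Matrix ι ι F) *ᵥ x)) ((B : Matrix ι ι F) *ᵥ v) ≠ 0
      rw [h1]; exact hx
    · change f ((B : Matrix ι ι F) *ᵥ v) ((B : Matrix ι ι F) *ᵥ (((B⁻¹ : GL ι F) : Matrix ι ι F) *ᵥ y)) ≠ 0
      rw [h1]; exact hy

end General

section Finite

variable {F : Type*} [Field F] [Fintype F] {n q : ℕ} (hF : Fintype.card F = q ^ 2)
include hF

theorem conj_ne_refl : conj hF ≠ RingEquiv.refl F := by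
  intro h
  obtain ⟨x, hx⟩ := exists_not_fixed hF
  apply hx
  have := congrArg (fun e : F ≃+* F => e x) h
  simpa [conj_apply] using this

theorem conj_conj (a : F) : conj hF (conj hF a) = a := pow_q_pow_q hF a

/-- The standard unitary form in the common vocabulary. -/
theorem herm_hermForm : HermForm (conj hF) 1 (hermForm n F q) where
  add_left := herm_add_left
  smul_left := herm_smul_left
  sigma_sq := conj_conj hF
  eps := by simp
  herm := by
    intro v w
    rw [one_mul, conj_apply]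
    exact herm_swap hF w v
  nondegenerate := by
    intro v hv
    obtain ⟨x, hx⟩ := exists_herm_ne_zero hF hv
    exact ⟨⟨x, fun h0 => hx (herm_eq_zero_swap hF h0)⟩, ⟨x, hx⟩⟩

theorem isUnitaryFormPow_iff {κ : Type} [Fintype κ] [DecidableEq κ] {f : (κ → F) → (κ → F) → F} :
    IsUnitaryFormPow q f ↔ HermForm (conj hF) 1 f := by
  constructor
  · intro h
    exact ⟨h.add_left, h.smul_left, conj_conj hF, by simp,
      fun v w => by rw [one_mul, conj_apply]; exact h.herm v w, h.nondegenerate⟩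
  · intro h
    refine ⟨h.add_left, h.smul_left, fun v w => ?_, h.nondegenerate⟩
    have := h.herm v w
    rwa [one_mul, conj_apply] at this

theorem isUnitaryForm_iff {κ : Type} [Fintype κ] [DecidableEq κ] {f : (κ → F) → (κ → F) → F} :
    IsUnitaryForm (conj hF) f ↔ HermForm (conj hF) 1 f := by
  constructor
  · intro h
    exact ⟨h.add_left, h.smul_left, h.involutive, by simp,
      fun v w => by rw [one_mul]; exact h.herm v w, h.nondegenerate⟩
  · intro h
    refine ⟨conj_ne_refl hF, h.sigma_sq, h.add_left, h.smul_left, fun v w => ?_, h.nondegenerate⟩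
    have := h.herm v w
    rwa [one_mul] at this

/-- Every non-degenerate unitary form on `F^m` is isometric to the standard one. -/
theorem exists_isometry {m : ℕ} {f : (Fin m → F) → (Fin m → F) → F} (hf : HermForm (conj hF) 1 f) :
    ∃ B : GL (Fin m) F, ∀ u v, f ((B : Matrix (Fin m) (Fin m) F) *ᵥ u) ((B : Matrix (Fin m) (Fin m) F) *ᵥ v) =
      hermForm m F q u v := by
  let σ : F →+* F := (conj hF : F ≃+* F).toRingHom
  let S : (Fin m → F) →ₛₗ[σ] (Fin m → F) →ₗ[F] F :=
    LinearMap.mk₂'ₛₗ σ (RingHom.id F) (fun u v => f v u)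
      (fun u u' v => hf.add_right v u u')
      (fun c u v => hf.smul_right v c u)
      (fun u v v' => hf.add_left v v' u)
      (fun c u v => hf.smul_left c v u)
  have hσ : σ ≠ RingHom.id F := by
    intro h
    obtain ⟨x, hx⟩ := exists_not_fixed hF
    apply hx
    have := congrArg (fun e : F →+* F => e x) h
    exact this
  have hS : S.IsSymm := ⟨fun x y => by
    change (conj hF) (f y x) = f x y
    rw [hf.herm x y, one_mul]⟩
  have hsep : S.SeparatingLeft := by
    intro x hx
    by_contra h0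
    obtain ⟨y, hy⟩ := (hf.nondegenerate x h0).1
    exact hy (hx y)
  obtain ⟨v, hv⟩ := Cfsg.Agent.ClassicalGeometry.HermOrthonormal.exists_orthonormal_family hσ
    (fun a => conj_conj hF a) S hS hsep m (by simp)
  have hv' : ∀ i j, f (v j) (v i) = if i = j then 1 else 0 := hv
  have hli : LinearIndependent F v :=
    Cfsg.Agent.ClassicalGeometry.HermOrthonormal.linearIndependent_of_orthonormal S hv
  let M : Matrix (Fin m) (Fin m) F := Matrix.of fun i j => v j i
  have hM : IsUnit M := by
    rw [← Matrix.linearIndependent_cols_iff_isUnit]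
    exact hli
  obtain ⟨B, hB⟩ := hM
  have hBv : ∀ u : Fin m → F, (B : Matrix (Fin m) (Fin m) F) *ᵥ u = ∑ j, u j • v j := by
    intro u
    rw [hB]
    ext i
    simp [M, Matrix.mulVec, dotProduct, Finset.sum_apply, mul_comm]
  refine ⟨B, fun u w => ?_⟩
  rw [hBv, hBv, hf.sum_left, herm_def]
  apply Finset.sum_congr rfl
  intro i _
  rw [hf.smul_left, hf.sum_right, Finset.sum_eq_single i]
  · rw [hf.smul_right, hv', if_pos rfl, mul_one, conj_apply]
  · intro j _ hj
    rw [hf.smul_right, hv', if_neg hj, mul_zero]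
  · intro h; exact absurd (Finset.mem_univ i) h

end Finite

end Cfsg.Agent.H921
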