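import Cfsg.Agent.H921.SporCox
import Cfsg.Prelude.Def_Spor_Fi22
import Cfsg.Prelude.Def_Spor_Fi23
import Cfsg.Prelude.Def_Spor_Fi24
import Cfsg.Prelude.Def_Spor_B
import Cfsg.Prelude.Def_Spor_M

/-!
# Configurations in the groups presented by Coxeter graphs `Y_{abc}`: `Fi₂₂`, `Fi₂₃`, `Fi₂₄'`, `B`, `M`
-/

set_option autoImplicit false

universe u v w

namespace Cfsg.Agent.H921.Spor.Fi

open Cfsg Cfsg.Spor Cfsg.Agent.H921.Spor.Cox
open Cfsg.Agent.ChevalleyStructure.WeylChain Cfsg.Agent.ChevalleyStructure.WeylCert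

section General

variable {α : Type} [DecidableEq α] {edges : List (α × ℕ × α)} {extra : List (FreeGroup α)}

/-- the generators -/
def gn (edges : List (α × ℕ × α)) (extra : List (FreeGroup α)) (x : α) : CoxPresented α edges extra :=
  PresentedGroup.of x

theorem rel {x y : α} (hx : x ∈ coxNodes edges) (hy : y ∈ coxNodes edges) :
    (gn edges extra x * gn edges extra y) ^ coxLabel edges x y = 1 :=
  PresentedGroup.one_of_mem (Or.inl ⟨x, hx, y, hy, rfl⟩)

/-- check of a labelled sub-diagram -/
def sub {r : ℕ} {M : CoxeterMatrix (Fin r)} (C : Cert r M) (edges : List (α × ℕ × α)) (f : ℕ → α) : Bool :=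
  (List.range r).all fun a => (List.range r).all fun b =>
    (coxNodes edges).contains (f a) && Nat.beq (C.m a b) (coxLabel edges (f a) (f b))

theorem pre {r : ℕ} {M : CoxeterMatrix (Fin r)} (C : Cert r M) (f : ℕ → α) (h : sub C edges f = true) :
    Pre C (fun a => gn edges extra (f a)) := by
  intro a ha b hb
  have h1 := List.all_eq_true.1 (List.all_eq_true.1 h a (List.mem_range.2 ha)) b (List.mem_range.2 hb)
  have h2 := List.all_eq_true.1 (List.all_eq_true.1 h b (List.mem_range.2 hb)) b (List.mem_range.2 hb)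
  rw [Bool.and_eq_true, List.contains_iff_mem] at h1 h2
  rw [Nat.eq_of_beq_eq_true h1.2]
  exact rel h1.1 h2.1

/-- nodes which become equal to those of `V` -/
def grow (edges : List (α × ℕ × α)) : ℕ → List α → List α
  | 0, V => V
  | n + 1, V => grow edges n (V ++ (coxNodes edges).filter fun c =>
      (V.any fun q => Nat.beq (coxLabel edges q c) 3) && (V.any fun p => Nat.beq (coxLabel edges p c) 2))

theorem grow_eq {g : CoxPresented α edges extra} (n : ℕ) (V : List α)
    (hV : ∀ x ∈ V, x ∈ coxNodes edges ∧ gn edges extra x = g) : ∀ x ∈ grow edges n V, gn edges extra x = g := by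
  induction n generalizing V with
  | zero => exact fun x hx => (hV x hx).2
  | succ n ih =>
    apply ih
    intro x hx
    rcases List.mem_append.1 hx with hx | hx
    · exact hV x hx
    · rw [List.mem_filter, Bool.and_eq_true, List.any_eq_true, List.any_eq_true] at hx
      obtain ⟨hxn, ⟨q, hq, hq3⟩, ⟨p, hp, hp2⟩⟩ := hx
      refine ⟨hxn, ?_⟩
      have h1 := rel (extra := extra) (hV q hq).1 hxn
      have h2 := rel (extra := extra) (hV p hp).1 hxn
      rw [Nat.eq_of_beq_eq_true hq3, (hV q hq).2] at h1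
      rw [Nat.eq_of_beq_eq_true hp2, (hV p hp).2] at h2
      have h3 : g * gn edges extra x = 1 := by
        rw [pow_succ, h2, one_mul] at h1
        exact h1
      have h4 : g * g = 1 := by
        have h5 := rel (extra := extra) (hV q hq).1 (hV q hq).1
        have h6 : coxLabel edges q q = 1 := by simp [coxLabel]
        rw [h6, pow_one, (hV q hq).2] at h5
        exact h5
      have h7 : gn edges extra x = g⁻¹ := eq_inv_of_mul_eq_one_right h3
      rw [h7]
      exact inv_eq_of_mul_eq_one_left h4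

/-- In a non-commutative group two given adjacent nodes are different. -/
theorem ne_of_nc (hnc : ∃ g h : CoxPresented α edges extra, g * h ≠ h * g) (a b : α) (n : ℕ)
    (ha : a ∈ coxNodes edges) (hb : b ∈ coxNodes edges) (hall : ∀ x : α, x ∈ grow edges n [a, b]) :
    gn edges extra a * gn edges extra b ≠ 1 := by
  intro h1
  obtain ⟨g, h, hgh⟩ := hnc
  apply hgh
  have haa : gn edges extra a * gn edges extra a = 1 := by
    have h5 := rel (extra := extra) ha ha
    have h6 : coxLabel edges a a = 1 := by simp [coxLabel]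
    rwa [h6, pow_one] at h5
  have hab : gn edges extra b = gn edges extra a := by
    have h2 : gn edges extra b = (gn edges extra a)⁻¹ := eq_inv_of_mul_eq_one_right h1
    rw [h2]
    exact inv_eq_of_mul_eq_one_left haa
  have key : ∀ x : α, gn edges extra x = gn edges extra a := by
    intro x
    refine grow_eq n [a, b] ?_ x (hall x)
    intro y hy
    rcases List.mem_cons.1 hy with rfl | hy
    · exact ⟨ha, rfl⟩
    · rw [List.mem_singleton] at hy
      subst hy
      exact ⟨hb, hab⟩
  have hz : ∀ g : CoxPresented α edges extra, g ∈ Subgroup.zpowers (gn edges extra a) := by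
    intro g
    have htop : g ∈ (⊤ : Subgroup (CoxPresented α edges extra)) := trivial
    rw [← PresentedGroup.closure_range_of] at htop
    refine (Subgroup.closure_le _).2 ?_ htop
    rintro _ ⟨x, rfl⟩
    have : (PresentedGroup.of x : CoxPresented α edges extra) = gn edges extra a := key x
    rw [this]
    exact Subgroup.mem_zpowers _
  obtain ⟨i, rfl⟩ := hz g
  obtain ⟨j, rfl⟩ := hz h
  simp only
  rw [← zpow_add, ← zpow_add, add_comm]

/-- Products of two nodes joined by a path lie in the commutator subgroup. -/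
theorem adj_mem {x y : α} (hx : x ∈ coxNodes edges) (hy : y ∈ coxNodes edges) (h3 : coxLabel edges x y = 3) :
    gn edges extra x * gn edges extra y ∈ commutator (CoxPresented α edges extra) := by
  have h1 := rel (extra := extra) hx hy
  have h2 := rel (extra := extra) hx hx
  have h4 := rel (extra := extra) hy hy
  have h6 : ∀ z : α, coxLabel edges z z = 1 := by intro z; simp [coxLabel]
  rw [h3] at h1
  rw [h6, pow_one] at h2 h4
  rw [← Abelianization.ker_of, MonoidHom.mem_ker]
  have e1 := congrArg (Abelianization.of (G := CoxPresented α edges extra)) h1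
  have e2 := congrArg (Abelianization.of (G := CoxPresented α edges extra)) h2
  have e3 := congrArg (Abelianization.of (G := CoxPresented α edges extra)) h4
  rw [map_mul, map_one] at e2 e3
  rw [map_pow, map_mul, map_one, mul_pow] at e1
  rw [map_mul]
  calc Abelianization.of (gn edges extra x) * Abelianization.of (gn edges extra y)
      = Abelianization.of (gn edges extra x) * Abelianization.of (gn edges extra y) *
        ((Abelianization.of (gn edges extra x) * Abelianization.of (gn edges extra x)) *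
        (Abelianization.of (gn edges extra y) * Abelianization.of (gn edges extra y))) := by
        rw [e2, e3, mul_one, mul_one]
    _ = Abelianization.of (gn edges extra x) ^ 3 * Abelianization.of (gn edges extra y) ^ 3 := by
        rw [pow_succ, pow_two, pow_succ, pow_two]
        simp only [mul_comm, mul_left_comm]
    _ = 1 := e1

/-- Products of two nodes of a path. -/
theorem path_mem {n : ℕ} (f : ℕ → α) (hf : ∀ a < n, f a ∈ coxNodes edges)
    (h3 : ∀ a, a + 1 < n → coxLabel edges (f a) (f (a + 1)) = 3) :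
    ∀ a < n, ∀ b < n, gn edges extra (f a) * gn edges extra (f b) ∈ commutator (CoxPresented α edges extra) := by
  have h0 : ∀ a < n, gn edges extra (f a) * gn edges extra (f a) = 1 := by
    intro a ha
    have h2 := rel (extra := extra) (hf a ha) (hf a ha)
    have h6 : coxLabel edges (f a) (f a) = 1 := by simp [coxLabel]
    rwa [h6, pow_one] at h2
  have key : ∀ a d : ℕ, a + d < n →
      gn edges extra (f a) * gn edges extra (f (a + d)) ∈ commutator (CoxPresented α edges extra) := by
    intro a d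
    induction d with
    | zero => intro ha; rw [add_zero, h0 a ha]; exact Subgroup.one_mem _
    | succ d ih =>
      intro had
      have h1 := ih (by omega)
      have h2 := adj_mem (extra := extra) (hf (a + d) (by omega)) (hf (a + (d + 1)) had) (h3 (a + d) had)
      have h4 := Subgroup.mul_mem _ h1 h2
      rwa [mul_assoc, ← mul_assoc (gn edges extra (f (a + d))), h0 (a + d) (by omega), one_mul] at h4
  intro a ha b hb
  rcases le_total a b with h | h
  · obtain ⟨d, rfl⟩ := Nat.exists_eq_add_of_le h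
    exact key a d hb
  · obtain ⟨d, rfl⟩ := Nat.exists_eq_add_of_le h
    have h1 := Subgroup.inv_mem _ (key b d ha)
    have h2 : ∀ x y : CoxPresented α edges extra, x * x = 1 → y * y = 1 → (x * y)⁻¹ = y * x := by
      intro x y hx hy
      rw [mul_inv_rev, inv_eq_of_mul_eq_one_left hx, inv_eq_of_mul_eq_one_left hy]
    rwa [h2 _ _ (h0 b hb) (h0 (b + d) ha)] at h1

end General

/-! ### `Fi₂₂` -/

open Cfsg.Agent.ChevalleyStructure.WeylData

theorem Fi22_seven (hnc : ∃ g h : Fi22, g * h ≠ h * g) : Conf 7 6 Fi22 := by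
  have h : Pre certA7 (fun a => gn Fi22.edges Fi22.extra
      ([Fi22.Gen.a, .b, .c, .d, .e, .f, .g].getD a .a)) := pre certA7 _ (by decide +kernel)
  exact A7_seven h (ne_of_nc hnc .a .b 8 (by decide) (by decide) (by intro x; cases x <;> decide))

theorem Fi22_three (hnc : ∃ g h : Fi22, g * h ≠ h * g) : Orb 3 6 Fi22 := by
  have h : Pre certE6 (fun a => gn Fi22.edges Fi22.extra
      ([Fi22.Gen.b, .h, .c, .d, .e, .f].getD a .a)) := pre certE6 _ (by decide +kernel)
  exact E6_three h (ne_of_nc hnc .b .c 8 (by decide) (by decide) (by intro x; cases x <;> decide))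

/-! ### `Fi₂₃` -/

theorem Fi23_pre : Pre certA8 (fun a => gn Fi23.edges Fi23.extra
    ([Fi23.Gen.a, .b, .c, .d, .e, .f, .g, .j].getD a .a)) := pre certA8 _ (by decide +kernel)

theorem Fi23_seven (hnc : ∃ g h : Fi23, g * h ≠ h * g) : Conf 7 6 Fi23 :=
  (A8_seven Fi23_pre (ne_of_nc hnc .a .b 9 (by decide) (by decide) (by intro x; cases x <;> decide)) (K := ⊤)
    (fun _ _ _ _ => trivial)).of_sub

theorem Fi23_three (hnc : ∃ g h : Fi23, g * h ≠ h * g) : Orb 3 8 Fi23 :=
  (A8_three Fi23_pre (ne_of_nc hnc .a .b 9 (by decide) (by decide) (by intro x; cases x <;> decide)) (K := ⊤)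
    (fun _ _ _ _ => trivial)).of_sub

/-! ### `B` -/

theorem B_pre : Pre certA8 (fun a => gn BabyMonster.edges BabyMonster.extra
    ([BabyMonster.Gen.t1, .t2, .t3, .t4, .t5, .t6, .t7, .t8].getD a .t1)) := pre certA8 _ (by decide +kernel)

theorem B_seven (hnc : ∃ g h : BabyMonster, g * h ≠ h * g) : Conf 7 6 BabyMonster :=
  (A8_seven B_pre (ne_of_nc hnc .t1 .t2 10 (by decide) (by decide) (by intro x; cases x <;> decide)) (K := ⊤)
    (fun _ _ _ _ => trivial)).of_sub

theorem B_three (hnc : ∃ g h : BabyMonster, g * h ≠ h * g) : Orb 3 8 BabyMonster :=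
  (A8_three B_pre (ne_of_nc hnc .t1 .t2 10 (by decide) (by decide) (by intro x; cases x <;> decide)) (K := ⊤)
    (fun _ _ _ _ => trivial)).of_sub

/-! ### `Fi₂₄'` -/

/-- the path of length 10 -/
def f24 (a : ℕ) : Fi24.Gen := [Fi24.Gen.l, .k, .a, .b, .c, .d, .e, .f, .g, .j].getD a .l

theorem Fi24_pre10 : Pre certA10 (fun a => gn Fi24.edges Fi24.extra (f24 a)) := pre certA10 _ (by decide +kernel)

theorem Fi24_pre8 : Pre certA8 (fun a => gn Fi24.edges Fi24.extra (f24 a)) := pre certA8 _ (by decide +kernel)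

theorem Fi24_mem : ∀ a < 10, ∀ b < 10, gn Fi24.edges Fi24.extra (f24 a) * gn Fi24.edges Fi24.extra (f24 b) ∈
    commutator Fi24 := by
  apply path_mem
  · decide
  · intro a ha
    have : ∀ a < 9, coxLabel Fi24.edges (f24 a) (f24 (a + 1)) = 3 := by decide
    exact this a (by omega)

theorem Fi24_nc (hnc : ∃ g h : Fi24', g * h ≠ h * g) : ∃ g h : Fi24, g * h ≠ h * g := by
  obtain ⟨g, h, hgh⟩ := hnc
  exact ⟨g, h, fun h1 => hgh (Subtype.ext h1)⟩

theorem Fi24_ne (hnc : ∃ g h : Fi24', g * h ≠ h * g) :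
    gn Fi24.edges Fi24.extra (f24 0) * gn Fi24.edges Fi24.extra (f24 1) ≠ 1 :=
  ne_of_nc (Fi24_nc hnc) .l .k 11 (by decide) (by decide) (by intro x; cases x <;> decide)

theorem Fi24_seven (hnc : ∃ g h : Fi24', g * h ≠ h * g) : Conf 7 6 Fi24' :=
  A8_seven Fi24_pre8 (Fi24_ne hnc) (fun a ha b hb => Fi24_mem a (by omega) b (by omega))

theorem Fi24_three (hnc : ∃ g h : Fi24', g * h ≠ h * g) : Orb 3 8 Fi24' :=
  A8_three Fi24_pre8 (Fi24_ne hnc) (fun a ha b hb => Fi24_mem a (by omega) b (by omega))

theorem Fi24_eleven (hnc : ∃ g h : Fi24', g * h ≠ h * g) : Conf 11 5 Fi24' :=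
  A10_eleven Fi24_pre10 (Fi24_ne hnc) Fi24_mem

/-! ### `M` -/

/-- the path of the first two arms -/
def fM (a : ℕ) : Bimonster.Gen := [Bimonster.Gen.f1, .e1, .d1, .c1, .b1, .a, .b2, .c2, .d2, .e2].getD a .f1

/-- the last arm, from the centre -/
def fM' (a : ℕ) : Bimonster.Gen := [Bimonster.Gen.a, .b3, .c3, .d3, .e3, .f3].getD a .a

abbrev gM (x : Bimonster.Gen) : Bimonster := gn Bimonster.edges Bimonster.extra x

theorem M_pre10 : Pre certA10 (fun a => gM (fM a)) := pre certA10 _ (by decide +kernel)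

theorem M_pre8 : Pre certA8 (fun a => gM (fM a)) := pre certA8 _ (by decide +kernel)

theorem M_comm : ∀ a < 10, gM .f3 * gM (fM a) = gM (fM a) * gM .f3 := by
  intro a ha
  have h1 : fM a ∈ coxNodes Bimonster.edges ∧ coxLabel Bimonster.edges .f3 (fM a) = 2 := by
    have : ∀ a < 10, fM a ∈ coxNodes Bimonster.edges ∧ coxLabel Bimonster.edges .f3 (fM a) = 2 := by decide
    exact this a ha
  have h2 := rel (extra := Bimonster.extra) (x := .f3) (y := fM a) (by decide) h1.1
  have h3 := rel (extra := Bimonster.extra) (x := .f3) (y := .f3) (edges := Bimonster.edges) (by decide) (by decide)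
  have h4 := rel (extra := Bimonster.extra) h1.1 h1.1
  have h6 : ∀ z : Bimonster.Gen, coxLabel Bimonster.edges z z = 1 := by intro z; simp [coxLabel]
  rw [h1.2] at h2
  rw [h6, pow_one] at h3 h4
  have h5 : gM .f3 * gM (fM a) = (gM .f3 * gM (fM a))⁻¹ := eq_inv_of_mul_eq_one_left (by rw [← pow_two]; exact h2)
  rw [h5, mul_inv_rev, inv_eq_of_mul_eq_one_left h3, inv_eq_of_mul_eq_one_left h4]

theorem M_mem : ∀ a < 10, ∀ b < 10, gM (fM a) * gM (fM b) ∈
    Subgroup.centralizer {gM .f3} ⊓ commutator Bimonster := by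
  intro a ha b hb
  refine Subgroup.mem_inf.2 ⟨?_, ?_⟩
  · rw [Subgroup.mem_centralizer_singleton_iff]
    rw [mul_assoc, ← M_comm b hb, ← mul_assoc, ← M_comm a ha, mul_assoc]
  · revert a b
    intro a ha b hb
    refine path_mem (extra := Bimonster.extra) (edges := Bimonster.edges) (n := 10) fM ?_ ?_ a ha b hb
    · decide
    · intro a ha
      have : ∀ a < 9, coxLabel Bimonster.edges (fM a) (fM (a + 1)) = 3 := by decide
      exact this a (by omega)

theorem M_nc (hnc : ∃ g h : Monster, g * h ≠ h * g) : ∃ g h : Bimonster, g * h ≠ h * g := by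
  obtain ⟨g, h, hgh⟩ := hnc
  exact ⟨g, h, fun h1 => hgh (Subtype.ext h1)⟩

theorem M_ne (hnc : ∃ g h : Monster, g * h ≠ h * g) : gM (fM 0) * gM (fM 1) ≠ 1 :=
  ne_of_nc (M_nc hnc) .f1 .e1 16 (by decide) (by decide) (by intro x; cases x <;> decide)

/-- adjacent nodes are conjugate -/
theorem adj_conj {x y : Bimonster.Gen} (hx : x ∈ coxNodes Bimonster.edges) (hy : y ∈ coxNodes Bimonster.edges)
    (h3 : coxLabel Bimonster.edges x y = 3) : (gM x * gM y) * gM x * (gM x * gM y)⁻¹ = gM y := by
  have h1 := rel (extra := Bimonster.extra) hx hy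
  have h2 := rel (extra := Bimonster.extra) hx hx
  have h4 := rel (extra := Bimonster.extra) hy hy
  have h6 : ∀ z : Bimonster.Gen, coxLabel Bimonster.edges z z = 1 := by intro z; simp [coxLabel]
  rw [h3] at h1
  rw [h6, pow_one] at h2 h4
  rw [mul_inv_eq_iff_eq_mul]
  -- `x y x = y x y`
  have h5 : gM x * gM y * gM x = (gM y * gM x * gM y)⁻¹⁻¹ := by
    have : gM x * gM y * gM x * (gM y * gM x * gM y) = 1 := by
      rw [← h1]; change _ = (gM x * gM y) ^ 3; rw [pow_succ, pow_two]; simp only [mul_assoc]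
    rw [inv_inv]
    have h7 := eq_inv_of_mul_eq_one_left this
    rw [h7, mul_inv_rev, mul_inv_rev]
    have e1 : (gM x)⁻¹ = gM x := inv_eq_of_mul_eq_one_left h2
    have e2 : (gM y)⁻¹ = gM y := inv_eq_of_mul_eq_one_left h4
    rw [e1, e2, mul_assoc]
  rw [h5, inv_inv, mul_assoc]

/-- the Monster as the centraliser of `f₃` -/
theorem exists_equiv : Nonempty (Monster ≃* ↥(Subgroup.centralizer {gM .f3} ⊓ commutator Bimonster)) := by
  have hconj : ∃ g : Bimonster, g * gM .a * g⁻¹ = gM .f3 := by
    have key : ∀ n ≤ 5, ∃ g : Bimonster, g * gM .a * g⁻¹ = gM (fM' n) := by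
      intro n
      induction n with
      | zero => intro _; exact ⟨1, by simp [fM']⟩
      | succ n ih =>
        intro hn
        obtain ⟨g, hg⟩ := ih (by omega)
        have h1 : ∀ n < 5, fM' n ∈ coxNodes Bimonster.edges ∧ fM' (n + 1) ∈ coxNodes Bimonster.edges ∧
            coxLabel Bimonster.edges (fM' n) (fM' (n + 1)) = 3 := by decide
        obtain ⟨a1, a2, a3⟩ := h1 n (by omega)
        refine ⟨(gM (fM' n) * gM (fM' (n + 1))) * g, ?_⟩
        calc (gM (fM' n) * gM (fM' (n + 1))) * g * gM .a * ((gM (fM' n) * gM (fM' (n + 1))) * g)⁻¹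
            = (gM (fM' n) * gM (fM' (n + 1))) * (g * gM .a * g⁻¹) * (gM (fM' n) * gM (fM' (n + 1)))⁻¹ := by
              group
          _ = (gM (fM' n) * gM (fM' (n + 1))) * gM (fM' n) * (gM (fM' n) * gM (fM' (n + 1)))⁻¹ := by rw [hg]
          _ = gM (fM' (n + 1)) := adj_conj a1 a2 a3
    exact key 5 (le_refl _)
  obtain ⟨g, hg⟩ := hconj
  refine ⟨((MulAut.conj g).subgroupMap _).trans (MulEquiv.subgroupCongr ?_)⟩
  rw [Subgroup.map_inf_eq _ _ _ (MulEquiv.injective _)]
  congr 1
  · ext x
    rw [Subgroup.mem_map, Subgroup.mem_centralizer_singleton_iff]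
    constructor
    · rintro ⟨y, hy, rfl⟩
      rw [Subgroup.mem_centralizer_singleton_iff] at hy
      change y * gM .a = gM .a * y at hy
      change g * y * g⁻¹ * _ = _ * (g * y * g⁻¹)
      rw [← hg]
      calc g * y * g⁻¹ * (g * gM .a * g⁻¹) = g * (y * gM .a) * g⁻¹ := by group
        _ = g * (gM .a * y) * g⁻¹ := by rw [hy]
        _ = g * gM .a * g⁻¹ * (g * y * g⁻¹) := by group
    · intro h
      refine ⟨g⁻¹ * x * g, ?_, ?_⟩
      · rw [Subgroup.mem_centralizer_singleton_iff]
        rw [← hg] at h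
        calc g⁻¹ * x * g * gM .a = g⁻¹ * (x * (g * gM .a * g⁻¹)) * g := by group
          _ = g⁻¹ * (g * gM .a * g⁻¹ * x) * g := by rw [h]
          _ = gM .a * (g⁻¹ * x * g) := by group
      · change g * (g⁻¹ * x * g) * g⁻¹ = x
        group
  · ext x
    rw [Subgroup.mem_map]
    constructor
    · rintro ⟨y, hy, rfl⟩
      exact (inferInstance : (commutator Bimonster).Normal).conj_mem y hy g
    · intro h
      refine ⟨g⁻¹ * x * g, ?_, ?_⟩
      · have := (inferInstance : (commutator Bimonster).Normal).conj_mem x h g⁻¹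
        rwa [inv_inv] at this
      · change g * (g⁻¹ * x * g) * g⁻¹ = x
        group

theorem M_seven (hnc : ∃ g h : Monster, g * h ≠ h * g) : Conf 7 6 Monster := by
  obtain ⟨e⟩ := exists_equiv
  exact (A8_seven M_pre8 (M_ne hnc) (fun a ha b hb => M_mem a (by omega) b (by omega))).of_equiv' e

theorem M_three (hnc : ∃ g h : Monster, g * h ≠ h * g) : Orb 3 8 Monster := by
  obtain ⟨e⟩ := exists_equiv
  exact (A8_three M_pre8 (M_ne hnc) (fun a ha b hb => M_mem a (by omega) b (by omega))).of_equiv' e

theorem M_eleven (hnc : ∃ g h : Monster, g * h ≠ h * g) : Conf 11 5 Monster := by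
  obtain ⟨e⟩ := exists_equiv
  exact (A10_eleven M_pre10 (M_ne hnc) M_mem).of_equiv' e

end Cfsg.Agent.H921.Spor.Fi
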