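import Cfsg.Agent.H921.SporAlt
import Cfsg.Agent.HN.A12Group

/-!
# The Harada–Norton group: bounds from `A₁₂`
-/

set_option autoImplicit false

namespace Cfsg.Agent.H921.Spor.HN

theorem HN_seven (hs : IsSimpleGroup Cfsg.Spor.HN) : Conf 7 6 Cfsg.Spor.HN := by
  obtain ⟨K, ⟨e⟩⟩ := Cfsg.Agent.HN.A12Group.exists_alternating
  exact Conf.of_sub ((Alt.conf_seven (α := Fin 12) (by simp)).of_equiv' e)

theorem HN_three (hs : IsSimpleGroup Cfsg.Spor.HN) : Orb 3 8 Cfsg.Spor.HN := by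
  obtain ⟨K, ⟨e⟩⟩ := Cfsg.Agent.HN.A12Group.exists_alternating
  exact Orb.of_sub ((Alt.orb_three (α := Fin 12) (by simp)).of_equiv' e)

end Cfsg.Agent.H921.Spor.HN
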