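import Cfsg.Agent.H921.SporAlt
import Cfsg.Agent.TypeM.FactsLy

/-!
# The Lyons group: bounds from `2·A₁₁`
-/

set_option autoImplicit false

namespace Cfsg.Agent.H921.Spor.Ly

theorem quot {H : Type*} [Group H] (h : IsNonsplitDoubleCover H (alternatingGroup (Fin 11))) {r m : ℕ}
    (hr : r.Prime) (hr2 : r ≠ 2) (ho : Orb r m (alternatingGroup (Fin 11))) : Orb r m H := by
  obtain ⟨h2, ⟨e⟩, -⟩ := h
  have hfin : Finite (Subgroup.center H) := Nat.finite_of_card_ne_zero (by rw [h2]; norm_num)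
  refine Orb.of_quot hr (Subgroup.center H) ?_ (ho.of_equiv' e)
  rw [h2]
  exact (Nat.coprime_primes Nat.prime_two hr).2 (Ne.symm hr2)

theorem Ly_seven : Orb 7 6 Cfsg.Spor.Ly :=
  Orb.of_sub (quot Cfsg.Agent.TypeM.FactsLy.isNonsplit_ly (by norm_num) (by norm_num)
    ((Alt.conf_seven (α := Fin 11) (by simp)).orb (by norm_num)))

theorem Ly_three : Orb 3 8 Cfsg.Spor.Ly :=
  Orb.of_sub (quot Cfsg.Agent.TypeM.FactsLy.isNonsplit_ly (by norm_num) (by norm_num)
    (Alt.orb_three (α := Fin 11) (by simp)))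

end Cfsg.Agent.H921.Spor.Ly
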