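import Cfsg.Agent.H921.SporGen
import Cfsg.Agent.KFacts.MulSpor.ONWords
import Cfsg.Agent.ONType.TupRow

/-!
# The O'Nan group: configurations
-/

set_option autoImplicit false
set_option maxRecDepth 100000
set_option maxHeartbeats 0

namespace Cfsg.Agent.H921.Spor.ON

open Cfsg.Spor (ON)
open Cfsg.Spor.ON (Gen)
open Cfsg.Agent.KFacts.MulSpor.ON (w w_append w_one w_cons w_iw iw okw rel eqw cj mats)
open Cfsg.Agent.SporadicB.ON45Word (on LW)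
open Cfsg.Agent.ONType.TupRow (rowNe ne_of_rowNe)

/-- the letters as words -/
def lt : ℕ → List Gen
  | 0 => [.g]
  | 1 => [.g, .g, .g]
  | 2 => [.a]
  | 3 => [.b]
  | 4 => [.c]
  | 5 => [.d]
  | 6 => [.e]
  | _ => [.f]

/-- expansion -/
def ex (u : List ℕ) : List Gen := u.flatMap lt

/-- comparison -/
noncomputable def eqb (u v : List ℕ) : Bool := okw (ex u ++ iw (ex v))

/-- difference from the identity -/
noncomputable def neb (u : List ℕ) : Bool := rowNe (mats (ex u)) (mats [])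

/-- words in the O'Nan group -/
noncomputable def wd (hs : IsSimpleGroup ON) : Wd ON where
  W := fun u => w (ex u)
  nil := rfl
  app := fun u v => by
    change w (ex (u ++ v)) = w (ex u) * w (ex v)
    rw [← w_append]
    congr 1
    exact List.flatMap_append
  eq := eqb
  eq_sound := fun h => eqw hs _ _ h
  ne := neb
  ne_sound := fun {u} h => by
    have h1 : w (ex u) ≠ w [] := ne_of_rowNe (LW.word _) (LW.word _) h
    exact h1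

theorem ON_thirtyone (hs : IsSimpleGroup ON) : Orb 31 15 ON := by
  have h : chkG0 eqb neb 31 1 15
      ([[0, 6, 4, 0, 5, 0, 6, 4, 0, 5, 4, 3, 6, 0, 4, 3, 1, 4, 6, 5, 2, 4, 5, 0, 3, 6]])
      ([[1, 5, 4, 5, 6, 7, 5, 3, 4, 5, 6, 3, 0, 5, 4, 5, 3, 6, 4, 5, 2, 3, 0, 0, 5, 7, 6, 5, 4, 5, 6, 3,
      4, 5, 2, 5, 3, 4, 2, 5, 4, 3]])
      ([[[19]]])
      ([[], [0], [0, 0], [0, 0, 0], [0, 0, 0, 0], [0, 0, 0, 0, 0], [0, 0, 0, 0, 0, 0], [0, 0, 0, 0, 0, 0,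
      0], [0, 0, 0, 0, 0, 0, 0, 0], [0, 0, 0, 0, 0, 0, 0, 0, 0], [0, 0, 0, 0, 0, 0, 0, 0, 0, 0], [0, 0,
      0, 0, 0, 0, 0, 0, 0, 0, 0], [0, 0, 0, 0, 0, 0, 0, 0, 0, 0, 0, 0], [0, 0, 0, 0, 0, 0, 0, 0, 0, 0, 0,
      0, 0], [0, 0, 0, 0, 0, 0, 0, 0, 0, 0, 0, 0, 0, 0]])
      [1] = true := by decide +kernel
  exact (wd hs).orb_gen (by norm_num) h

theorem ON_nineteen (hs : IsSimpleGroup ON) : Orb 19 6 ON := by
  have h : chkG0 eqb neb 19 1 6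
      ([[0, 5, 4, 3, 0, 6, 5, 0, 6, 4, 5, 4, 3, 0, 5, 4, 5, 6, 7, 4, 5, 6, 7, 5, 6, 5, 3, 6, 4, 5, 4, 2,
      3, 2, 4, 3, 6, 5, 4, 3, 0, 0, 4, 5, 6, 3, 4, 5, 4, 3, 5]])
      ([[1, 6, 5, 0, 6, 3, 4, 5, 1, 3, 4, 5, 6, 4, 0, 2, 4, 6, 5, 3, 4, 6, 5, 7, 6, 3, 2, 3]])
      ([[[8]]])
      ([[], [0], [0, 0], [0, 0, 0], [0, 0, 0, 0], [0, 0, 0, 0, 0]])
      [1] = true := by decide +kernel
  exact (wd hs).orb_gen (by norm_num) h

end Cfsg.Agent.H921.Spor.ON
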