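import Cfsg.Agent.H921.SporAlt
import Cfsg.Agent.KFacts.Th.Main

/-!
# The Thompson group: bounds from `2^{1+8}·A₉`
-/

set_option autoImplicit false

namespace Cfsg.Agent.H921.Spor.Th

open Cfsg.Agent.Th.Base Cfsg.Agent.Th.Word Cfsg.Agent.Th.RelWords Cfsg.Agent.Th.PermTab
  Cfsg.Agent.Th.KOracle Cfsg.Agent.Th.KPerm Cfsg.Agent.Th.NineAct Cfsg.Agent.Th.CStruct
open Cfsg.Agent.KFacts.Th.Struct

theorem lift {r m : ℕ} (hr : r.Prime) (hr2 : r ≠ 2) (ho : Orb r m (alternatingGroup (Fin 9))) :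
    Orb r m Cfsg.Spor.Th := by
  have h := Cfsg.Agent.KFacts.Th.Main.ctx
  obtain ⟨f, hf, hker, -⟩ := h.exists_epi
  have hfin := h.fin
  refine Orb.of_sub (ho.of_surj hr f hf inferInstance ?_)
  have hc : Nat.card f.ker ∣ 2 ^ 9 := by
    have h2 : Nat.card f.ker ∣ Nat.card (Q0 Cfsg.Agent.Th.IndexUpper.gTh) := by
      rw [hker]
      exact Subgroup.card_comap_dvd_of_injective _ _ (Subgroup.subtype_injective _)
    rwa [h.cardQ, show 512 = 2 ^ 9 by norm_num] at h2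
  exact Nat.Coprime.coprime_dvd_left hc (Nat.Coprime.pow_left 9 ((Nat.coprime_primes Nat.prime_two hr).2 (Ne.symm hr2)))

theorem Th_seven : Orb 7 6 Cfsg.Spor.Th :=
  lift (by norm_num) (by norm_num) ((Alt.conf_seven (α := Fin 9) (by simp)).orb (by norm_num))

theorem Th_three : Orb 3 8 Cfsg.Spor.Th :=
  lift (by norm_num) (by norm_num) (Alt.orb_three (α := Fin 9) (by simp))

end Cfsg.Agent.H921.Spor.Th
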