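import Cfsg.Agent.H921.SporPair
import Cfsg.Agent.H921.SporCo
import Cfsg.Agent.H921.SporFi
import Cfsg.Agent.H921.SporHN
import Cfsg.Agent.H921.SporHe
import Cfsg.Agent.H921.SporJ1
import Cfsg.Agent.H921.SporJ2
import Cfsg.Agent.H921.SporJ3
import Cfsg.Agent.H921.SporLy
import Cfsg.Agent.H921.SporMore
import Cfsg.Agent.H921.SporON
import Cfsg.Agent.H921.SporRu
import Cfsg.Agent.H921.SporSuz
import Cfsg.Agent.H921.SporTh
import Cfsg.Agent.H921.SporTits
import Cfsg.Prelude.Def_Classification2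

/-!
# The sporadic simple groups and the Tits group have no projective representations of small degree

`spor_four`: two odd primes with orbits of length at least 5 (every sporadic group and the Tits group).
`spor_five`: two primes different from 5 with orbits of length at least 6 (all but `M₁₁`).
-/

set_option autoImplicit false

universe u v



namespace Cfsg.Agent.H921.Spor.Table

open Cfsg Cfsg.Spor

/-- Two odd primes, orbits of length at least 5. -/
theorem four {T : Type v} [Group T] (hs : IsSimpleGroup T) (hnc : ∃ a b : T, a * b ≠ b * a)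
    (h : IsSporadicGroup T ∨ Lie.IsoTits T) : Pr2 5 [2] T := by
  have nc : ∀ {T' : Type} [Group T'], (T ≃* T') → ∃ a b : T', a * b ≠ b * a := by
    intro T' _ e
    obtain ⟨a, b, hab⟩ := hnc
    refine ⟨e a, e b, fun h => hab (e.injective ?_)⟩
    rw [map_mul, map_mul, h]
  have sp : ∀ {T' : Type} [Group T'], (T ≃* T') → IsSimpleGroup T' := fun e =>
    (MulEquiv.isSimpleGroup_congr e).1 hs
  rcases h with (h | h | h | h | h | h | h | h | h | h | h | h | h | h | h | h | h | h | h | h | h | h | h | h | h | h) | h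
  · obtain ⟨e⟩ := h
    exact (Pr2.mk' 3 11 (M24.M11_three.orb (by norm_num))
      (M24.M11_eleven.orb (by norm_num)) (by norm_num) (by norm_num) (by norm_num)).of_equiv e
  · obtain ⟨e⟩ := h
    exact (Pr2.mk' 3 11 (M24.M12_three.orb (by norm_num))
      (M24.M12_eleven.orb (by norm_num)) (by norm_num) (by norm_num) (by norm_num)).of_equiv e
  · obtain ⟨e⟩ := h
    exact (Pr2.mk' 3 11 M24.M22_three
      (M24.M22_eleven.orb (by norm_num)) (by norm_num) (by norm_num) (by norm_num)).of_equiv e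
  · obtain ⟨e⟩ := h
    exact (Pr2.mk' 3 23 M24.M23_three
      (M24.M23_twentythree.orb (by norm_num)) (by norm_num) (by norm_num) (by norm_num)).of_equiv e
  · obtain ⟨e⟩ := h
    exact (Pr2.mk' 3 11 M24.M24_three
      (M24.M24_eleven.orb (by norm_num)) (by norm_num) (by norm_num) (by norm_num)).of_equiv e
  · obtain ⟨e⟩ := h
    exact (Pr2.mk' 19 11 (J1.J1_nineteen.orb (by norm_num))
      (J1.J1_eleven.orb (by norm_num)) (by norm_num) (by norm_num) (by norm_num)).of_equiv e
  · obtain ⟨e⟩ := h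
    exact (Pr2.mk' 7 5 J2.J2_seven
      J2.J2_five (by norm_num) (by norm_num) (by norm_num)).of_equiv e
  · obtain ⟨F, _, _, ω, hF, hω, ⟨e⟩⟩ := h
    have H := Cfsg.Agent.J3.Core.good_of_card hF hω
    exact (Pr2.mk' 19 17 ((J3.J3_nineteen hF H).orb (by norm_num)) ((J3.J3_seventeen hF H).orb (by norm_num))
      (by norm_num) (by norm_num) (by norm_num)).of_equiv e
  · obtain ⟨e⟩ := h
    exact (Pr2.mk' 3 11 J4.J4_three
      (J4.J4_eleven.orb (by norm_num)) (by norm_num) (by norm_num) (by norm_num)).of_equiv e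
  · obtain ⟨e⟩ := h
    exact (Pr2.mk' 3 23 Co.Co1_three
      (Co.Co1_twentythree.orb (by norm_num)) (by norm_num) (by norm_num) (by norm_num)).of_equiv e
  · obtain ⟨e⟩ := h
    exact (Pr2.mk' 3 11 Co.Co2_three
      (Co.Co2_eleven.orb (by norm_num)) (by norm_num) (by norm_num) (by norm_num)).of_equiv e
  · obtain ⟨e⟩ := h
    exact (Pr2.mk' 3 23 Co.Co3_three
      (Co.Co3_twentythree.orb (by norm_num)) (by norm_num) (by norm_num) (by norm_num)).of_equiv e
  · obtain ⟨e⟩ := h
    exact (Pr2.mk' 3 11 Co.McL_three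
      (Co.McL_eleven.orb (by norm_num)) (by norm_num) (by norm_num) (by norm_num)).of_equiv e
  · obtain ⟨e⟩ := h
    exact (Pr2.mk' 3 11 Co.HS_three
      (Co.HS_eleven.orb (by norm_num)) (by norm_num) (by norm_num) (by norm_num)).of_equiv e
  · obtain ⟨e⟩ := h
    exact (Pr2.mk' 3 11 Suz.Suz_three
      (Suz.Suz_eleven.orb (by norm_num)) (by norm_num) (by norm_num) (by norm_num)).of_equiv e
  · obtain ⟨e⟩ := h
    exact (Pr2.mk' 3 7 He.He_three
      He.He_seven (by norm_num) (by norm_num) (by norm_num)).of_equiv e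
  · obtain ⟨e⟩ := h
    exact (Pr2.mk' 29 13 (Ru.Ru_twentynine.orb (by norm_num))
      (Ru.Ru_thirteen.orb (by norm_num)) (by norm_num) (by norm_num) (by norm_num)).of_equiv e
  · obtain ⟨e⟩ := h
    exact (Pr2.mk' 19 31 (ON.ON_nineteen (sp e))
      (ON.ON_thirtyone (sp e)) (by norm_num) (by norm_num) (by norm_num)).of_equiv e
  · obtain ⟨e⟩ := h
    exact (Pr2.mk' 3 7 Ly.Ly_three
      Ly.Ly_seven (by norm_num) (by norm_num) (by norm_num)).of_equiv e
  · obtain ⟨e⟩ := h
    exact (Pr2.mk' 3 7 (Fi.Fi22_three (nc e))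
      ((Fi.Fi22_seven (nc e)).orb (by norm_num)) (by norm_num) (by norm_num) (by norm_num)).of_equiv e
  · obtain ⟨e⟩ := h
    exact (Pr2.mk' 3 7 (Fi.Fi23_three (nc e))
      ((Fi.Fi23_seven (nc e)).orb (by norm_num)) (by norm_num) (by norm_num) (by norm_num)).of_equiv e
  · obtain ⟨e⟩ := h
    exact (Pr2.mk' 3 7 (Fi.Fi24_three (nc e))
      ((Fi.Fi24_seven (nc e)).orb (by norm_num)) (by norm_num) (by norm_num) (by norm_num)).of_equiv e
  · obtain ⟨e⟩ := h
    exact (Pr2.mk' 3 7 (HN.HN_three (sp e))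
      ((HN.HN_seven (sp e)).orb (by norm_num)) (by norm_num) (by norm_num) (by norm_num)).of_equiv e
  · obtain ⟨e⟩ := h
    exact (Pr2.mk' 3 7 Th.Th_three
      Th.Th_seven (by norm_num) (by norm_num) (by norm_num)).of_equiv e
  · obtain ⟨e⟩ := h
    exact (Pr2.mk' 3 7 (Fi.B_three (nc e))
      ((Fi.B_seven (nc e)).orb (by norm_num)) (by norm_num) (by norm_num) (by norm_num)).of_equiv e
  · obtain ⟨e⟩ := h
    exact (Pr2.mk' 3 7 (Fi.M_three (nc e))
      ((Fi.M_seven (nc e)).orb (by norm_num)) (by norm_num) (by norm_num) (by norm_num)).of_equiv e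
  · obtain ⟨e⟩ := h
    have h0 : Pr2 5 [2] Lie.TitsGroup :=
      Pr2.mk' 3 13 Tits.Tits_three Tits.Tits_thirteen (by norm_num) (by norm_num) (by norm_num)
    exact Pr2.of_sub_equiv e h0

/-- Two primes different from 5, orbits of length at least 6. -/
theorem five {T : Type v} [Group T] (hs : IsSimpleGroup T) (hnc : ∃ a b : T, a * b ≠ b * a)
    (h : IsSporadicGroup T ∨ Lie.IsoTits T) (h11 : ¬ IsoM11 T) : Pr2 6 [5] T := by
  have nc : ∀ {T' : Type} [Group T'], (T ≃* T') → ∃ a b : T', a * b ≠ b * a := by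
    intro T' _ e
    obtain ⟨a, b, hab⟩ := hnc
    refine ⟨e a, e b, fun h => hab (e.injective ?_)⟩
    rw [map_mul, map_mul, h]
  have sp : ∀ {T' : Type} [Group T'], (T ≃* T') → IsSimpleGroup T' := fun e =>
    (MulEquiv.isSimpleGroup_congr e).1 hs
  rcases h with (h | h | h | h | h | h | h | h | h | h | h | h | h | h | h | h | h | h | h | h | h | h | h | h | h | h) | h
  · exact absurd h h11
  · obtain ⟨e⟩ := h
    exact (Pr2.mk' 3 2 (M24.M12_three.orb (by norm_num))
      M24.M12_two (by norm_num) (by norm_num) (by norm_num)).of_equiv e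
  · obtain ⟨e⟩ := h
    exact (Pr2.mk' 3 2 M24.M22_three
      M24.M22_two (by norm_num) (by norm_num) (by norm_num)).of_equiv e
  · obtain ⟨e⟩ := h
    exact (Pr2.mk' 3 23 M24.M23_three
      (M24.M23_twentythree.orb (by norm_num)) (by norm_num) (by norm_num) (by norm_num)).of_equiv e
  · obtain ⟨e⟩ := h
    exact (Pr2.mk' 3 11 M24.M24_three
      (M24.M24_eleven.orb (by norm_num)) (by norm_num) (by norm_num) (by norm_num)).of_equiv e
  · obtain ⟨e⟩ := h
    exact (Pr2.mk' 19 11 (J1.J1_nineteen.orb (by norm_num))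
      (J1.J1_eleven.orb (by norm_num)) (by norm_num) (by norm_num) (by norm_num)).of_equiv e
  · obtain ⟨e⟩ := h
    exact (Pr2.mk' 7 2 J2.J2_seven
      J2.J2_two (by norm_num) (by norm_num) (by norm_num)).of_equiv e
  · obtain ⟨F, _, _, ω, hF, hω, ⟨e⟩⟩ := h
    have H := Cfsg.Agent.J3.Core.good_of_card hF hω
    exact (Pr2.mk' 19 17 ((J3.J3_nineteen hF H).orb (by norm_num)) ((J3.J3_seventeen hF H).orb (by norm_num))
      (by norm_num) (by norm_num) (by norm_num)).of_equiv e
  · obtain ⟨e⟩ := h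
    exact (Pr2.mk' 3 11 J4.J4_three
      (J4.J4_eleven.orb (by norm_num)) (by norm_num) (by norm_num) (by norm_num)).of_equiv e
  · obtain ⟨e⟩ := h
    exact (Pr2.mk' 3 23 Co.Co1_three
      (Co.Co1_twentythree.orb (by norm_num)) (by norm_num) (by norm_num) (by norm_num)).of_equiv e
  · obtain ⟨e⟩ := h
    exact (Pr2.mk' 3 2 Co.Co2_three
      Co.Co2_two (by norm_num) (by norm_num) (by norm_num)).of_equiv e
  · obtain ⟨e⟩ := h
    exact (Pr2.mk' 3 23 Co.Co3_three
      (Co.Co3_twentythree.orb (by norm_num)) (by norm_num) (by norm_num) (by norm_num)).of_equiv e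
  · obtain ⟨e⟩ := h
    exact (Pr2.mk' 3 2 Co.McL_three
      Co.McL_two (by norm_num) (by norm_num) (by norm_num)).of_equiv e
  · obtain ⟨e⟩ := h
    exact (Pr2.mk' 3 2 Co.HS_three
      Co.HS_two (by norm_num) (by norm_num) (by norm_num)).of_equiv e
  · obtain ⟨e⟩ := h
    exact (Pr2.mk' 3 11 Suz.Suz_three
      (Suz.Suz_eleven.orb (by norm_num)) (by norm_num) (by norm_num) (by norm_num)).of_equiv e
  · obtain ⟨e⟩ := h
    exact (Pr2.mk' 3 7 He.He_three
      He.He_seven (by norm_num) (by norm_num) (by norm_num)).of_equiv e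
  · obtain ⟨e⟩ := h
    exact (Pr2.mk' 29 13 (Ru.Ru_twentynine.orb (by norm_num))
      (Ru.Ru_thirteen.orb (by norm_num)) (by norm_num) (by norm_num) (by norm_num)).of_equiv e
  · obtain ⟨e⟩ := h
    exact (Pr2.mk' 19 31 (ON.ON_nineteen (sp e))
      (ON.ON_thirtyone (sp e)) (by norm_num) (by norm_num) (by norm_num)).of_equiv e
  · obtain ⟨e⟩ := h
    exact (Pr2.mk' 3 7 Ly.Ly_three
      Ly.Ly_seven (by norm_num) (by norm_num) (by norm_num)).of_equiv e
  · obtain ⟨e⟩ := h
    exact (Pr2.mk' 3 7 (Fi.Fi22_three (nc e))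
      ((Fi.Fi22_seven (nc e)).orb (by norm_num)) (by norm_num) (by norm_num) (by norm_num)).of_equiv e
  · obtain ⟨e⟩ := h
    exact (Pr2.mk' 3 7 (Fi.Fi23_three (nc e))
      ((Fi.Fi23_seven (nc e)).orb (by norm_num)) (by norm_num) (by norm_num) (by norm_num)).of_equiv e
  · obtain ⟨e⟩ := h
    exact (Pr2.mk' 3 7 (Fi.Fi24_three (nc e))
      ((Fi.Fi24_seven (nc e)).orb (by norm_num)) (by norm_num) (by norm_num) (by norm_num)).of_equiv e
  · obtain ⟨e⟩ := h
    exact (Pr2.mk' 3 7 (HN.HN_three (sp e))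
      ((HN.HN_seven (sp e)).orb (by norm_num)) (by norm_num) (by norm_num) (by norm_num)).of_equiv e
  · obtain ⟨e⟩ := h
    exact (Pr2.mk' 3 7 Th.Th_three
      Th.Th_seven (by norm_num) (by norm_num) (by norm_num)).of_equiv e
  · obtain ⟨e⟩ := h
    exact (Pr2.mk' 3 7 (Fi.B_three (nc e))
      ((Fi.B_seven (nc e)).orb (by norm_num)) (by norm_num) (by norm_num) (by norm_num)).of_equiv e
  · obtain ⟨e⟩ := h
    exact (Pr2.mk' 3 7 (Fi.M_three (nc e))
      ((Fi.M_seven (nc e)).orb (by norm_num)) (by norm_num) (by norm_num) (by norm_num)).of_equiv e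
  · obtain ⟨e⟩ := h
    have h0 : Pr2 6 [5] Lie.TitsGroup :=
      Pr2.mk' 3 13 Tits.Tits_three Tits.Tits_thirteen (by norm_num) (by norm_num) (by norm_num)
    exact Pr2.of_sub_equiv e h0

/-- `M₁₁`: one prime different from 5 if the characteristic is not 3. -/
theorem M11_bd {T : Type v} [Group T] (h : IsoM11 T) {F : Type u} [Field F] (h3 : (3 : F) ≠ 0) :
    Cfsg.Agent.H912.Bd.Bd F 3 8 T := by
  obtain ⟨e⟩ := h
  exact (M24.M11_three.of_equiv' e).bd (by norm_num) (by exact_mod_cast h3)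

end Cfsg.Agent.H921.Spor.Table
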