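import Cfsg.Agent.H915.LD
import Cfsg.Agent.H921.SporTable

/-!
# Sporadic groups and the Tits group do not occur in dimensions 4 and 5 (but for `M₁₁` in characteristic 3)
-/

set_option autoImplicit false

universe u v w

namespace Cfsg.Agent.H921.Spor

open Cfsg Cfsg.Geo Cfsg.Agent.H915.LD

/-- The order of the group of scalars is prime to `r` if `r` does not divide the dimension. -/
theorem core_coprime {ι : Type} [Fintype ι] [DecidableEq ι] {F : Type u} [Field F] [Finite F] {P : Subgroup (GL ι F)}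
    (hC : Core P) {r : ℕ} (hr : r.Prime) (hn : ¬ r ∣ Fintype.card ι) :
    (Nat.card ((scalars ι F).subgroupOf P)).Coprime r := by
  rw [Nat.coprime_comm, hr.coprime_iff_not_dvd]
  intro h
  have : Fact r.Prime := ⟨hr⟩
  obtain ⟨z, hz⟩ := exists_prime_orderOf_dvd_card' (G := ((scalars ι F).subgroupOf P)) r h
  have h1 := hC.pow_card z.2
  have h2 : z ^ Fintype.card ι = 1 := Subtype.ext h1
  rw [← orderOf_dvd_iff_pow_eq_one, hz] at h2
  exact hn h2

/-- The bound for a core. -/
theorem core_le {n : ℕ} {F : Type u} [Field F] [Finite F] {P : Subgroup (GL (Fin n) F)} (hC : Core P) {T : Type v}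
    [Group T] (e : Soc P ≃* T) {m : ℕ} {bad : List ℕ} (h : Pr2 m bad T)
    (hbad : ∀ r : ℕ, r.Prime → r ∉ bad → ¬ r ∣ n) : m ≤ n :=
  h.lt (F := F) fun _ hr hb => hC.pr e (core_coprime hC hr (by rw [Fintype.card_fin]; exact hbad _ hr hb))

theorem core_nc {ι : Type} [Fintype ι] [DecidableEq ι] {F : Type u} [Field F] [Finite F] {P : Subgroup (GL ι F)}
    (hC : Core P) : ∃ a b : Soc P, a * b ≠ b * a := by
  by_contra h
  push Not at h
  exact hC.nonabelian ⟨⟨h⟩⟩

/-- Dimension 4: no sporadic group, not the Tits group. -/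
theorem core_four {F : Type u} [Field F] [Finite F] {P : Subgroup (GL (Fin 4) F)} (hC : Core P)
    (h : IsSporadicGroup (Soc P) ∨ Lie.IsoTits (Soc P)) : False := by
  have h1 := core_le hC (MulEquiv.refl _) (Table.four hC.simple (core_nc hC) h) (by
    intro r hr hb hd
    apply hb
    have h2 := (Nat.dvd_prime_pow Nat.prime_two (m := 2)).1 (by simpa using hd)
    obtain ⟨k, hk, rfl⟩ := h2
    interval_cases k
    · exact absurd hr (by norm_num)
    · simp
    · exact absurd hr (by norm_num))
  omega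

/-- Dimension 5: only `M₁₁` in characteristic 3. -/
theorem core_five {F : Type u} [Field F] [Finite F] {P : Subgroup (GL (Fin 5) F)} (hC : Core P)
    (h : IsSporadicGroup (Soc P) ∨ Lie.IsoTits (Soc P)) : Spor.IsoM11 (Soc P) ∧ (3 : F) = 0 := by
  have hb : ∀ r : ℕ, r.Prime → r ∉ [5] → ¬ r ∣ 5 := by
    intro r hr hb hd
    rcases (Nat.dvd_prime Nat.prime_five).1 hd with h | h
    · exact absurd hr (by rw [h]; norm_num)
    · simp [h] at hb
  by_cases h11 : Spor.IsoM11 (Soc P)
  · refine ⟨h11, ?_⟩
    by_contra h3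
    have h4 := Table.M11_bd h11 h3 5 (hC.pr (MulEquiv.refl _) (core_coprime hC Nat.prime_three (by simp)))
    omega
  · have h1 := core_le hC (MulEquiv.refl _) (Table.five hC.simple (core_nc hC) h h11) hb
    omega

end Cfsg.Agent.H921.Spor
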