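import Cfsg.Agent.H489.DegCo

/-!
# `3⁴ : A₆` in `McL`; `Co₁`, `Co₂`, `Co₃` have degree at least 20
-/

set_option autoImplicit false
set_option maxRecDepth 100000

universe u v

namespace Cfsg.Agent.H921.Spor.McL

open Subgroup Cfsg Cfsg.Agent.SporadicA Cfsg.Agent.SporadicStructure.Co0Matrix Cfsg.Agent.CoOneType.CoEval
open Cfsg.Agent.LThreeCo1.Ev Cfsg.Agent.H912.Bd Cfsg.Agent.H921.Spor Cfsg.Agent.H489.Deg.Co

/-- codes of the matrices: a basis of `3⁴` and two elements of its normaliser -/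
def nMcL3 : List ℕ := [
  0xabe2f7c5f18c6338c6318c6318bdf38be2f9c5ed8c62f8b6318c5b18be6f8bdb39b5f18c62f8c5b18c6318bdef8bdaf7c6718c5af8b6318c6318cdef8cdaf7c5f16c62f8c6318c6316be6f7c6718be337bdf19bdef9bdf37c6318be337c5ed8c62f8c6318b6316cdef8ce2f7b66d8b62f8c6318c6318bdef8be2f9c5f16b62f8c6318c62d8cdef7c5f18be339be717be737bdef7c6318be337c5f18b5af8c6316c6318be6f9c5f18be2f7bdf57bdef7bdef7c62d8be2f7b5f18c62f6c62d8c6318ce6f8ce337c5f18c62f8b62d8c62d8bdef7c6718be2f7cdf17bdf37ce6f7c6317c5f18be2f7cdf19ce6f7bdef9c6317c5f18ce2f7be717bdef7be739c6318be2f7c6718c62f8c5b18b62d8be6f8ce2f7c5f18c62f8c5b16c5b18cdef7c5f18ce2f9bdf17cdef9cdef7c6318be2f9c6718c62f8c62d6c6316bdef8be337c6716c62f6c6318c5b18bdef8ce2f9c5f18c5af6c6318b6318bdef9c5f18be2f7bded7bdef7bdef7c635,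
  0xb4212841d09421294210842508421284a5093a0e849d084a4e94a1273a5083a5094a0e84a50849ce74a0e94a5094216842507420e74210841d08420e84a5094a1284a50839d273a1273a5084a5094a0e839d0839d294a12949d083a5074a0e84a5084a5293a12749d09420e842507420eb4210841d08420e84a5074a1284a5083a4e94a0e939d0849d094a12849d084a5274a0e749d084a5073a1283a50849d294a0e74a509420e842507421674210841d08420e839d093a1284a50849d294a12939d084a5093a1283a5084a4e73a12949d0849d073a0e84a5083a5274a1294a5083a5093a12849d083a5293a0e94a50839d094a1283a5083a4e94a1274a509420e84250b420e74210841d08420e83a5074a12839d084a5274a1293a50849d074a12849d0849ce93a1294a509420e842507420e74210842d08420e74212842d094212942108425084212849d094a0e83a5084a5293a0e93a509420e842507420e74210841d084216,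
  0xa421084a1094212942109425284a148421083a109420e742149425283a90949d2741d2849d0849ce83a109424e939ce74252849d083a5284a10941ce8521084a109420e94290741d283a108421083a107420e952107525284a1093a52741ce84a5084a5283a10741ce94a4e7424e84a50839ce84a107424e8421084a10742927421074252a3a108521083a1074212742909424e84a1094a52941ce839d0839d284a10941ce8421484a907420e74210941d284a108421084a109421275210951ce83a10939d2941d283a5083a4e84a107424e8421084a107421294214741ce84a9084210a3a109521274210741d284a108429084a149420e742107424e84a1093a4e9424e839d084a4e83a109424e8429083a147421294210941d283a108421083a109428e94210941cea4a10949ce9425283a50849d283a10741ce8421483a9094212942107424e83a1084210a4a107520e942109424e83a10a421083a107420e74210741ce83a14,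
  0xb4212841d094212942108425084212849d094a0e83a5084a5293a0e93a5084a5093a1283a5084a4e73a12949d094216842507420e74210841d08420e84a5093a0e849d084a4e94a1273a50849d074a12849d0849ce93a1294a5083a5074a0e84a5084a5293a12749d09420e84250b420e74210841d08420e83a5074a12839d084a5274a1293a50849d073a0e84a5083a5274a1294a5083a5094a0e84a50849ce74a0e94a509420e842507421674210841d08420e84a5074a1284a5083a4e94a0e939d084a5073a1283a50849d294a0e74a5083a5093a12849d083a5293a0e94a50849d094a12849d084a5274a0e749d084a5094a0e839d0839d294a12949d09420e842507420e74210842d08420e839d093a1284a50849d294a12939d0839d094a1283a5083a4e94a1274a509420e842507420eb4210841d08420e74212842d09421294210842508421284a5094a1284a50839d273a1273a509420e842507420e74210841d084216,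
  0xabe318c5f18c6338be318bdf17c6338be2d8c5ed8c62f8be318cdf19b62f7c5ef9be2f9cdf17c5ef7c6338cdf18be318c6718c62f8bdb18cded7c5af8ce318c5f18c62f8bdb16be717b62f8cdb18c5f16c62f8be318bdf19c5af9c5ef7be2f7bdf57c5ef7c62f8bded8be318b5f18c5af8be318be6d9c62f8ce318b66d8b62f8be318bdf17c62f8be318c5f18b62f6cdb18bdf19c62f8ce316c5f18c5af6be318cdf17c62f8be316c6718c62f8be2d6bdf19c62f8be2d8c6716c62f6be318be717c62f7c6739ce2f7bdf17c66f7c62f8bdf18bdb18c5f18b62f8be2d8ce717c62f7c66f7be337bdf19c5ef9c6338bdf17c5f37be2f7ce717c5ef9c62f8be717c5ef7be339be717c6737c62f8bdf18bdb18c6718c5af8ce318bdf17b62f7c5ef7ce2f7bdf19c5f37c62f8ce718be318b5f16c62f8ce316cdf17c62f8be316c5ed8c62f8ce318be717c5af8ce2d8c5f18c62f8ce2d8bded7c62f9c5ef7be2f7bded7c5ef7c62f8bdf5,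
  0xabe318c6338bdf17c5f17c6318c6338ce318b5af8cded7c5f17c6318c62f7c66f7cdf19c62f8be2f8be6f7cdf17c5f37bdf17c6338be2f8cdef9cdf17c5ef9cdf17c62f8be338cdf37bdf18be318c62f6be6d7c66d7c6318c62f8be318b62f8bdf17c6719c6316c5af8ce2d6c62f6bdf17c5f19c6318c62f7c5ef7be719c62f8ce2f8bdf39bdf17c6737be717c62f8be338bdef7be718be318c5af8be717c5f19b5b18c62f8bdb16c62f8ce717c5f17c6316c62f8ce318c62f8bdf19c5ed7c5b16c62f8be316c5af8bdf19c6717c6318b62f8be2d8c62f8cdf17c6717c5ad8c62f8cdb18c62f8bdf17b6717b6318c62f8be318c62f8cdf17b5ed9c6318b62f8bdb18c62f8bded9c5f19c62d8c62f9c5ef7bdf57c62f8be2f8bdef7bded8be2d8b62f8be719b5f17c6318c62f8ce318c62f8be717c5f17c62d8b5af8be318c62f6cdf19c5f17b6318c5af7c5ef9bdf17c6338ce2f8be6f7be719c5ef7bded7c62f8be2f8bdef7bdf5]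

theorem ok3_0 : okN (nMcL3.getD 0 0) = true := by decide +kernel
theorem ok3_1 : okN (nMcL3.getD 1 0) = true := by decide +kernel
theorem ok3_2 : okN (nMcL3.getD 2 0) = true := by decide +kernel
theorem ok3_3 : okN (nMcL3.getD 3 0) = true := by decide +kernel
theorem ok3_4 : okN (nMcL3.getD 4 0) = true := by decide +kernel
theorem ok3_5 : okN (nMcL3.getD 5 0) = true := by decide +kernel
theorem eq3 : nMcL3 = [nMcL3.getD 0 0, nMcL3.getD 1 0, nMcL3.getD 2 0, nMcL3.getD 3 0, nMcL3.getD 4 0, nMcL3.getD 5 0] := rfl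
theorem ok3 : nMcL3.all okN = true := by
  rw [eq3]
  simp only [List.all_cons, List.all_nil, ok3_0, ok3_1, ok3_2, ok3_3, ok3_4, ok3_5, Bool.and_self]
theorem ne3 : nMcL3 ≠ [] := by decide +kernel
theorem fix3 : nMcL3.all (fun n => eqL (ap (dec n) lV) lV && eqL (ap (dec n) lU) lU) = true := by decide +kernel

theorem mem3 (i : ℕ) : (el ok3 ne3 i).1 ∈ Spor.McL := by
  have h := List.all_eq_true.1 fix3 (nMcL3.getD i (nMcL3.head ne3)) (by
    by_cases hi : i < nMcL3.length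
    · rw [List.getD_eq_getElem _ _ hi]
      exact List.getElem_mem hi
    · rw [List.getD_eq_default _ _ (by omega)]
      exact List.head_mem _)
  rw [Bool.and_eq_true] at h
  exact mem_McL (rep_el ok3 ne3 i) h.1 h.2

/-- the words -/
noncomputable def wd3 : Wd Spor.McL := wd ok3 ne3 Spor.McL mem3

/-- the generators of `3⁴` -/
def X3 : List (List ℕ) := [[0], [1], [2], [3]]
/-- two elements of its normaliser -/
def G3 : List (List ℕ) := [[4], [5]]
/-- their matrices on `3⁴` -/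
def B3 : List (List (List ℕ)) := [[[2, 1, 2, 1], [2, 0, 1, 0], [1, 2, 1, 0], [2, 1, 0, 0]], [[2, 1, 2, 0], [2, 0, 2, 0],
    [0, 0, 1, 0], [1, 1, 0, 1]]]
/-- words for the elements of the orbit -/
def S3 : List (List ℕ) := [[0], [], [1, 0, 1, 0, 0], [1, 0, 1, 0], [0, 1, 0, 1], [1, 1, 0, 1, 1], [0, 0, 1, 0, 1],
    [0, 1, 0, 1, 1, 0],
    [0, 1, 1, 0, 1, 1], [1, 1, 0, 0, 0, 1, 0, 1, 0, 0], [0, 1, 1, 0, 0, 1, 0, 1, 0], [0, 0, 0, 1, 0, 1, 0, 1, 0,
    1, 0], [1, 1, 0, 1, 0, 0, 0, 1], [0, 1, 0, 1, 1, 0, 1, 0, 0, 0], [1, 0, 0, 0, 1, 0, 0, 0, 1, 0], [1, 1, 0, 1,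
    1, 0, 0, 0, 1, 1, 0, 1], [1, 0, 0, 0, 1, 0, 1, 0, 1, 0], [1, 1, 0, 0, 0, 1, 1, 0], [1, 0, 0, 0, 1, 0, 1, 1,
    0, 1], [0, 0, 0, 1, 1, 0, 1, 1, 0, 1], [0, 0, 1, 0, 1, 1, 0, 1, 0], [1, 0, 0, 1, 1, 0, 1], [1, 0, 1, 0, 1, 0,
    1, 0, 0, 1, 0], [0, 1, 0, 1, 1, 0, 1, 0, 1, 0, 0], [1, 0, 1, 0, 1, 0, 0], [0, 0, 1], [0, 1, 1, 0, 1]]

theorem p3_0 : wd3.eq (Wd.rep [0] 3) [] = true := by decide +kernel

theorem p3_1 : wd3.eq (Wd.rep [1] 3) [] = true := by decide +kernel

theorem p3_2 : wd3.eq (Wd.rep [2] 3) [] = true := by decide +kernel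

theorem p3_3 : wd3.eq (Wd.rep [3] 3) [] = true := by decide +kernel

theorem c3_00 : wd3.eq ([0] ++ [0]) ([0] ++ [0]) = true := by decide +kernel

theorem c3_01 : wd3.eq ([0] ++ [1]) ([1] ++ [0]) = true := by decide +kernel

theorem c3_02 : wd3.eq ([0] ++ [2]) ([2] ++ [0]) = true := by decide +kernel

theorem c3_03 : wd3.eq ([0] ++ [3]) ([3] ++ [0]) = true := by decide +kernel

theorem c3_10 : wd3.eq ([1] ++ [0]) ([0] ++ [1]) = true := by decide +kernel

theorem c3_11 : wd3.eq ([1] ++ [1]) ([1] ++ [1]) = true := by decide +kernel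

theorem c3_12 : wd3.eq ([1] ++ [2]) ([2] ++ [1]) = true := by decide +kernel

theorem c3_13 : wd3.eq ([1] ++ [3]) ([3] ++ [1]) = true := by decide +kernel

theorem c3_20 : wd3.eq ([2] ++ [0]) ([0] ++ [2]) = true := by decide +kernel

theorem c3_21 : wd3.eq ([2] ++ [1]) ([1] ++ [2]) = true := by decide +kernel

theorem c3_22 : wd3.eq ([2] ++ [2]) ([2] ++ [2]) = true := by decide +kernel

theorem c3_23 : wd3.eq ([2] ++ [3]) ([3] ++ [2]) = true := by decide +kernel

theorem c3_30 : wd3.eq ([3] ++ [0]) ([0] ++ [3]) = true := by decide +kernel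

theorem c3_31 : wd3.eq ([3] ++ [1]) ([1] ++ [3]) = true := by decide +kernel

theorem c3_32 : wd3.eq ([3] ++ [2]) ([2] ++ [3]) = true := by decide +kernel

theorem c3_33 : wd3.eq ([3] ++ [3]) ([3] ++ [3]) = true := by decide +kernel

theorem n3 : wd3.ne (Wd.pvW X3 0 [0, 0, 0, 1]) = true := by decide +kernel

theorem g3_00 : wd3.eq (G3.getD 0 [] ++ X3.getD 0 []) (Wd.pvW X3 0 ((B3.getD 0 []).getD 0 []) ++ G3.getD 0 []) = true := by
  decide +kernel

theorem g3_01 : wd3.eq (G3.getD 0 [] ++ X3.getD 1 []) (Wd.pvW X3 0 ((B3.getD 0 []).getD 1 []) ++ G3.getD 0 []) = true := by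
  decide +kernel

theorem g3_02 : wd3.eq (G3.getD 0 [] ++ X3.getD 2 []) (Wd.pvW X3 0 ((B3.getD 0 []).getD 2 []) ++ G3.getD 0 []) = true := by
  decide +kernel

theorem g3_03 : wd3.eq (G3.getD 0 [] ++ X3.getD 3 []) (Wd.pvW X3 0 ((B3.getD 0 []).getD 3 []) ++ G3.getD 0 []) = true := by
  decide +kernel

theorem g3_10 : wd3.eq (G3.getD 1 [] ++ X3.getD 0 []) (Wd.pvW X3 0 ((B3.getD 1 []).getD 0 []) ++ G3.getD 1 []) = true := by
  decide +kernel

theorem g3_11 : wd3.eq (G3.getD 1 [] ++ X3.getD 1 []) (Wd.pvW X3 0 ((B3.getD 1 []).getD 1 []) ++ G3.getD 1 []) = true := by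
  decide +kernel

theorem g3_12 : wd3.eq (G3.getD 1 [] ++ X3.getD 2 []) (Wd.pvW X3 0 ((B3.getD 1 []).getD 2 []) ++ G3.getD 1 []) = true := by
  decide +kernel

theorem g3_13 : wd3.eq (G3.getD 1 [] ++ X3.getD 3 []) (Wd.pvW X3 0 ((B3.getD 1 []).getD 3 []) ++ G3.getD 1 []) = true := by
  decide +kernel

theorem v3 : (vecs 3 4).all (fun χ => Nat.beq (dot χ [0, 0, 0, 1] % 3) 0 ||
    Nat.ble 20 (cnt (S3.map fun v => enc 3 χ (mword 3 4 B3 v)))) = true := by decide +kernel

theorem s3 : (S3.all fun v => v.all fun k => Nat.blt k B3.length) = true := by decide +kernel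

theorem b3 : (B3.all fun b => Nat.beq b.length 4 && b.all fun row => Nat.beq row.length 4) = true := by decide +kernel

/-- `3⁴ : A₆` -/
theorem McL_three : Orb 3 20 Spor.McL := by
  refine wd3.orb_gen (r := 3) (d := 4) (m := 20) (X := X3) (G := G3) (B := B3) (S := S3) (c₀ := [0, 0, 0, 1])
    (by norm_num) ?_
  unfold Wd.chkG chkG0
  have h1 : (X3.all fun P => wd3.eq (Wd.rep P 3) []) = true := by
    simp only [X3, List.all_cons, List.all_nil, p3_0, p3_1, p3_2, p3_3, Bool.and_self]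
  have h2 : (X3.all fun P => X3.all fun Q => wd3.eq (P ++ Q) (Q ++ P)) = true := by
    unfold X3
    simp only [List.all_cons, List.all_nil, c3_00, c3_01, c3_02, c3_03, c3_10, c3_11, c3_12, c3_13, c3_20, c3_21,
      c3_22, c3_23, c3_30, c3_31, c3_32, c3_33, Bool.and_self]
  have h3 : ((List.range B3.length).all fun k =>
      (List.range 4).all fun i => wd3.eq (G3.getD k [] ++ X3.getD i [])
        (Wd.pvW X3 0 ((B3.getD k []).getD i []) ++ G3.getD k [])) = true := by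
    have e1 : List.range B3.length = [0, 1] := rfl
    have e2 : List.range 4 = [0, 1, 2, 3] := rfl
    rw [e1, e2]
    simp only [List.all_cons, List.all_nil, g3_00, g3_01, g3_02, g3_03, g3_10, g3_11, g3_12, g3_13, Bool.and_self]
  have h0 : (Nat.beq X3.length 4 && Nat.blt 0 4) = true := rfl
  rw [h1, h2, h3, n3, v3, s3, b3, h0]
  rfl

/-! ### The Conway groups -/

theorem le_Co3 : Spor.McL ≤ Spor.Co3 := inf_le_left
theorem le_Co2 : Spor.McL ≤ Spor.Co2 := le_inf (inf_le_left.trans inf_le_left) inf_le_right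
theorem le_Co0 : Spor.McL ≤ Co0 := inf_le_left.trans inf_le_left

theorem exists_Co1 : ∃ f : Spor.McL →* Spor.Co1, Function.Injective f := by
  refine ⟨(QuotientGroup.mk' (Subgroup.center Co0)).comp (Subgroup.inclusion le_Co0), ?_⟩
  rw [injective_iff_map_eq_one]
  intro σ hσ
  have h1 : Subgroup.inclusion le_Co0 σ ∈ Subgroup.center Co0 := by
    rwa [MonoidHom.comp_apply, QuotientGroup.mk'_apply, QuotientGroup.eq_one_iff] at hσ
  rcases Cfsg.Agent.SporadicA.Co0Basic.eq_one_or_neg_of_mem_center h1 with h2 | h2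
  · exact Subgroup.inclusion_injective le_Co0 (by rw [h2, map_one])
  · exfalso
    have h3 : (σ : Equiv.Perm leechLattice) Spor.leechU = Spor.leechU := σ.2.2
    have h4 : ((Subgroup.inclusion le_Co0 σ : Co0) : Equiv.Perm leechLattice) Spor.leechU = - Spor.leechU := by
      rw [h2]; rfl
    have h5 : ((Subgroup.inclusion le_Co0 σ : Co0) : Equiv.Perm leechLattice) Spor.leechU = Spor.leechU := h3
    rw [h5] at h4
    have h6 := congrFun (congrArg (Subtype.val : leechLattice → GolayPt → ℤ) h4) none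
    have h7 : ((Spor.leechU : leechLattice) : GolayPt → ℤ) none = 4 := by
      change Spor.vecU none = 4
      decide
    have h8 : ((- Spor.leechU : leechLattice) : GolayPt → ℤ) none = -4 := by
      change - Spor.vecU none = -4
      decide
    rw [h7, h8] at h6
    omega

theorem Co3_three : Orb 3 20 Spor.Co3 := McL_three.of_inj _ (Subgroup.inclusion_injective le_Co3)
theorem Co2_three : Orb 3 20 Spor.Co2 := McL_three.of_inj _ (Subgroup.inclusion_injective le_Co2)
theorem Co1_three : Orb 3 20 Spor.Co1 := by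
  obtain ⟨f, hf⟩ := exists_Co1
  exact McL_three.of_inj f hf

section

variable {F : Type u} [Field F]

theorem bd_of_inj {r m : ℕ} {T : Type v} [Group T] {T' : Type*} [Group T']
    (h : Bd F r m T') (f : T' →* T) (hf : Function.Injective f) : Bd F r m T := fun n hn => h n (hn.sub f hf)

theorem Co3_five (h5 : (5 : F) ≠ 0) : Bd F 5 20 Spor.Co3 := bd_of_inj (mcl_five h5) _ (Subgroup.inclusion_injective le_Co3)
theorem Co2_five (h5 : (5 : F) ≠ 0) : Bd F 5 20 Spor.Co2 := bd_of_inj (mcl_five h5) _ (Subgroup.inclusion_injective le_Co2)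
theorem Co1_five (h5 : (5 : F) ≠ 0) : Bd F 5 20 Spor.Co1 := by
  obtain ⟨f, hf⟩ := exists_Co1
  exact bd_of_inj (mcl_five h5) f hf

end

end Cfsg.Agent.H921.Spor.McL
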