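import Cfsg.Agent.H921.UnitSub
import Cfsg.Agent.H922.OddTensor
import Cfsg.Agent.H924.Adj
import Cfsg.Agent.H914.Uni

/-!
Tensor powers of sesquilinear forms (H921): the factors of a pure tensor preserving a tensor power, change of basis,
and two-dimensional factors over the field with `q²` elements (subfield groups).
-/

set_option autoImplicit false
set_option linter.unusedSectionVars false

namespace Cfsg.Agent.H921

open Cfsg Cfsg.Geo
open scoped MatrixGroups Matrix
open Cfsg.Agent.H919 (HermForm pureMat pureMat_apply pureMat_mul pureMat_one pureGL pureGL_val pureGL_mem facPerm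
  facPerm_val facPerm_conj frameGL frameMat frameGL_val mem_tensorWreathSubgroup_iff)
open Cfsg.Agent.H922 (exists_normal_form pureMat_eq facPerm_transpose frameGL_mulVec pureGL_mul pureGL_inv
  facPerm_mul_pureGL)
open Cfsg.Agent.LieClassical.HermBasic

variable {ι : Type} [Fintype ι] [DecidableEq ι] {F : Type*} [Field F] {t m : ℕ}

section Sesq

variable (σ : F ≃+* F)

theorem pureMat_map (A : Fin t → Matrix (Fin m) (Fin m) F) :
    (pureMat A).map σ = pureMat (fun i => (A i).map σ) := by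
  ext a b
  rw [Matrix.map_apply, pureMat_apply, pureMat_apply, map_prod]
  rfl

theorem facPerm_map (τ : Equiv.Perm (Fin t)) :
    (facPerm F m τ : Matrix (Fin t → Fin m) (Fin t → Fin m) F).map σ = facPerm F m τ := by
  ext a b
  rw [Matrix.map_apply, facPerm_val]
  split_ifs <;> simp

/-- A pure tensor times a factor permutation preserving the tensor power of the Gram matrix `G` (sesquilinear
version) has all its factors similarities of `G`. -/
theorem similarity_of_pure_sesq {G : Matrix (Fin m) (Fin m) F} (hG : G ≠ 0)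
    (x : Fin t → GL (Fin m) F) (τ : Equiv.Perm (Fin t))
    (h : ((pureGL x * facPerm F m τ : GL (Fin t → Fin m) F) :
        Matrix (Fin t → Fin m) (Fin t → Fin m) F)ᵀ * pureMat (fun _ => G) *
        ((pureGL x * facPerm F m τ : GL (Fin t → Fin m) F) :
        Matrix (Fin t → Fin m) (Fin t → Fin m) F).map σ = pureMat (fun _ => G)) (i : Fin t) :
    ∃ c : F, c ≠ 0 ∧ (x i : Matrix (Fin m) (Fin m) F)ᵀ * G * (x i : Matrix (Fin m) (Fin m) F).map σ =
      c • G := by
  have h1 : pureMat (fun i => (x i : Matrix (Fin m) (Fin m) F)ᵀ * G *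
      (x i : Matrix (Fin m) (Fin m) F).map σ) = pureMat (fun _ => G) := by
    have h2 : (facPerm F m τ : Matrix (Fin t → Fin m) (Fin t → Fin m) F) *
        pureMat (fun _ : Fin t => G) * (((facPerm F m τ)⁻¹ : GL (Fin t → Fin m) F) :
          Matrix (Fin t → Fin m) (Fin t → Fin m) F) =
        pureMat (fun _ => G) := facPerm_conj τ _
    rw [Units.val_mul, Matrix.transpose_mul, facPerm_transpose, pureGL_val, Matrix.map_mul, facPerm_map, pureMat_map,
      H922.pureMat_transpose] at h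
    have h3 : pureMat (fun i => (x i : Matrix (Fin m) (Fin m) F)ᵀ) * pureMat (fun _ : Fin t => G) *
        pureMat (fun i => (x i : Matrix (Fin m) (Fin m) F).map σ) = pureMat (fun _ => G) := by
      set X := pureMat (fun i => (x i : Matrix (Fin m) (Fin m) F)ᵀ)
      set Y := pureMat (fun i => (x i : Matrix (Fin m) (Fin m) F).map σ)
      set S := (facPerm F m τ : Matrix (Fin t → Fin m) (Fin t → Fin m) F)
      set S' := (((facPerm F m τ)⁻¹ : GL (Fin t → Fin m) F) :
          Matrix (Fin t → Fin m) (Fin t → Fin m) F)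
      have hSS : S * S' = 1 := Units.mul_inv _
      calc X * pureMat (fun _ : Fin t => G) * Y
          = (S * S') * X * pureMat (fun _ : Fin t => G) * Y * (S * S') := by
            rw [hSS, one_mul, mul_one]
        _ = S * (S' * X * pureMat (fun _ : Fin t => G) * (Y * S)) * S' := by
            simp only [mul_assoc]
        _ = pureMat (fun _ => G) := by rw [h, h2]
    rw [pureMat_mul, pureMat_mul] at h3
    exact h3
  exact pureMat_eq h1 (fun _ => hG) i

variable {σ} {f : (ι → F) → (ι → F) → F} {f₁ : (Fin m → F) → (Fin m → F) → F}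
  {e : ι ≃ (Fin t → Fin m)} {P : GL ι F}

theorem tensorPower_sesq {c : F}
    (h : ∀ x y : (Fin t → Fin m) → F,
      f ((P : Matrix ι ι F) *ᵥ (x ∘ e)) ((P : Matrix ι ι F) *ᵥ (y ∘ e)) =
      c * ∑ a, ∑ b, x a * (∏ i, gramMatrix f₁ (a i) (b i)) * σ (y b))
    (x y : (Fin t → Fin m) → F) :
    f ((P : Matrix ι ι F) *ᵥ (x ∘ e)) ((P : Matrix ι ι F) *ᵥ (y ∘ e)) =
      c * (x ⬝ᵥ (pureMat (fun _ => gramMatrix f₁) *ᵥ (fun b => σ (y b)))) := by
  rw [h]
  congr 1
  simp only [dotProduct, Matrix.mulVec, Finset.mul_sum, pureMat_apply, mul_assoc]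

theorem mulVec_map_apply (M : Matrix ι ι F) (y : ι → F) :
    (fun b => σ ((M *ᵥ y) b)) = (M.map σ) *ᵥ (fun b => σ (y b)) := by
  funext b
  simp [Matrix.mulVec, dotProduct, map_sum, map_mul]

/-- Normal form of the isometries in a tensor-wreath subgroup carrying the tensor power form. -/
theorem exists_wreath_normal_form (hG : gramMatrix f₁ ≠ 0)
    (hP : IsTensorPowerFormStructure σ f f₁ e P) {h : GL ι F} (hh : h ∈ tensorWreathSubgroup m t e P)
    (hf : ∀ u v, f ((h : Matrix ι ι F) *ᵥ u) ((h : Matrix ι ι F) *ᵥ v) = f u v) :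
    ∃ (x : Fin t → GL (Fin m) F) (τ : Equiv.Perm (Fin t)), h = frameGL e P (pureGL x * facPerm F m τ) ∧
      ∀ i, ∃ c : F, c ≠ 0 ∧ (x i : Matrix (Fin m) (Fin m) F)ᵀ * gramMatrix f₁ *
        (x i : Matrix (Fin m) (Fin m) F).map σ = c • gramMatrix f₁ := by
  classical
  obtain ⟨g, hg, rfl⟩ := (mem_tensorWreathSubgroup_iff e P h).1 hh
  obtain ⟨τ, x, rfl⟩ := exists_normal_form hg
  refine ⟨x, τ, rfl, similarity_of_pure_sesq σ hG x τ ?_⟩
  obtain ⟨c, hc, hstr⟩ := hP
  set g : GL (Fin t → Fin m) F := pureGL x * facPerm F m τ with hgdef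
  have key : ∀ u v : (Fin t → Fin m) → F,
      u ⬝ᵥ (((g : Matrix (Fin t → Fin m) (Fin t → Fin m) F)ᵀ * pureMat (fun _ => gramMatrix f₁) *
        (g : Matrix (Fin t → Fin m) (Fin t → Fin m) F).map σ) *ᵥ v) =
      u ⬝ᵥ (pureMat (fun _ => gramMatrix f₁) *ᵥ v) := by
    intro u v
    obtain ⟨w, hw⟩ : ∃ w : (Fin t → Fin m) → F, (fun b => σ (w b)) = v :=
      ⟨fun b => σ.symm (v b), by funext b; simp⟩
    have h1 := hf ((P : Matrix ι ι F) *ᵥ (u ∘ e)) ((P : Matrix ι ι F) *ᵥ (w ∘ e))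
    rw [frameGL_mulVec, frameGL_mulVec, tensorPower_sesq hstr, tensorPower_sesq hstr] at h1
    have h2 := mul_left_cancel₀ hc h1
    rw [mulVec_map_apply, hw] at h2
    rw [← h2, ← Matrix.mulVec_mulVec, ← Matrix.mulVec_mulVec, Matrix.dotProduct_mulVec, Matrix.vecMul_transpose]
  ext a b
  have := key (Pi.single a 1) (Pi.single b 1)
  simpa using this

/-- Change of basis in the factors of a tensor power frame. -/
def powBasis (e : ι ≃ (Fin t → Fin m)) (P : GL ι F) (B : GL (Fin m) F) : GL ι F :=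
  P * glReindex e.symm (pureGL (fun _ => B))

theorem powBasis_mulVec (e : ι ≃ (Fin t → Fin m)) (P : GL ι F) (B : GL (Fin m) F) (x : (Fin t → Fin m) → F) :
    (powBasis e P B : Matrix ι ι F) *ᵥ (x ∘ e) =
      (P : Matrix ι ι F) *ᵥ ((pureMat (fun _ : Fin t => (B : Matrix (Fin m) (Fin m) F)) *ᵥ x) ∘ e) := by
  rw [powBasis, Units.val_mul, ← Matrix.mulVec_mulVec]
  congr 1
  have : ((glReindex e.symm (pureGL (fun _ : Fin t => B)) : GL ι F) : Matrix ι ι F) =
      Matrix.reindexAlgEquiv F F e.symm (pureMat (fun _ => (B : Matrix (Fin m) (Fin m) F))) := rfl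
  rw [this, Matrix.coe_reindexAlgEquiv, Matrix.reindex_apply, Matrix.submatrix_mulVec_equiv]
  congr 2
  funext a
  simp

theorem tensorWreathSubgroup_powBasis (e : ι ≃ (Fin t → Fin m)) (P : GL ι F) (B : GL (Fin m) F) :
    tensorWreathSubgroup m t e (powBasis e P B) = tensorWreathSubgroup m t e P := by
  have hconj : ∀ g : GL (Fin t → Fin m) F, frameGL e (powBasis e P B) g =
      frameGL e P (pureGL (fun _ => B) * g * (pureGL (fun _ => B))⁻¹) := by
    intro g
    change (P * glReindex e.symm (pureGL (fun _ => B))) * glReindex e.symm g *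
      (P * glReindex e.symm (pureGL (fun _ => B)))⁻¹ =
      P * glReindex e.symm (pureGL (fun _ => B) * g * (pureGL (fun _ => B))⁻¹) * P⁻¹
    rw [map_mul, map_mul, map_inv]
    group
  ext h
  rw [mem_tensorWreathSubgroup_iff, mem_tensorWreathSubgroup_iff]
  constructor
  · rintro ⟨g, hg, rfl⟩
    exact ⟨_, mul_mem (mul_mem (pureGL_mem _) hg) (inv_mem (pureGL_mem _)), (hconj g).symm⟩
  · rintro ⟨g, hg, rfl⟩
    refine ⟨(pureGL (fun _ => B))⁻¹ * g * pureGL (fun _ => B),
      mul_mem (mul_mem (inv_mem (pureGL_mem _)) hg) (pureGL_mem _), ?_⟩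
    rw [hconj]
    congr 1
    group

theorem isTensorPowerFormStructure_powBasis {f₁' : (Fin m → F) → (Fin m → F) → F}
    (hP : IsTensorPowerFormStructure σ f f₁ e P) (B : GL (Fin m) F)
    (hB : (B : Matrix (Fin m) (Fin m) F)ᵀ * gramMatrix f₁ * (B : Matrix (Fin m) (Fin m) F).map σ = gramMatrix f₁') :
    IsTensorPowerFormStructure σ f f₁' e (powBasis e P B) := by
  obtain ⟨c, hc, h⟩ := hP
  refine ⟨c, hc, fun x y => ?_⟩
  rw [powBasis_mulVec, powBasis_mulVec, tensorPower_sesq h]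
  congr 1
  have h1 : pureMat (fun _ : Fin t => gramMatrix f₁') =
      (pureMat (fun _ : Fin t => (B : Matrix (Fin m) (Fin m) F)))ᵀ * pureMat (fun _ => gramMatrix f₁) *
        (pureMat (fun _ : Fin t => (B : Matrix (Fin m) (Fin m) F))).map σ := by
    rw [H922.pureMat_transpose, pureMat_map, pureMat_mul, pureMat_mul, hB]
  have h2 : ∑ a, ∑ b, x a * (∏ i, gramMatrix f₁' (a i) (b i)) * σ (y b) =
      x ⬝ᵥ (pureMat (fun _ => gramMatrix f₁') *ᵥ (fun b => σ (y b))) := by
    simp only [dotProduct, Matrix.mulVec, Finset.mul_sum, pureMat_apply, mul_assoc]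
  rw [h2, h1, mulVec_map_apply, ← Matrix.mulVec_mulVec, ← Matrix.mulVec_mulVec, Matrix.dotProduct_mulVec x,
    Matrix.vecMul_transpose]

end Sesq

section Two

variable [Fintype F] {q : ℕ} (hF : Fintype.card F = q ^ 2)
include hF

/-- The Gram matrix of an isometric change of basis. -/
theorem gram_of_isometry {m : ℕ} {f₁ f₂ : (Fin m → F) → (Fin m → F) → F} (hf₁ : HermForm (conj hF) 1 f₁)
    {B : GL (Fin m) F} (hB : ∀ u v, f₁ ((B : Matrix (Fin m) (Fin m) F) *ᵥ u) ((B : Matrix (Fin m) (Fin m) F) *ᵥ v) =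
      f₂ u v) :
    (B : Matrix (Fin m) (Fin m) F)ᵀ * gramMatrix f₁ * (B : Matrix (Fin m) (Fin m) F).map (conj hF) =
      gramMatrix f₂ := by
  ext a b
  rw [gramMatrix, ← hB, H924.herm_eq_gram hf₁, mulVec_map_apply]
  have h1 : (fun b' => conj hF ((Pi.single b (1 : F) : Fin m → F) b')) = Pi.single b 1 := by
    funext j
    by_cases hj : j = b
    · subst hj; simp
    · simp [Pi.single_eq_of_ne hj]
  rw [h1, Matrix.mulVec_single_one, Matrix.mulVec_single_one]
  simp only [Matrix.mul_apply, dotProduct, Matrix.mulVec, Matrix.col_apply, Matrix.transpose_apply, Finset.mul_sum,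
    Finset.sum_mul, Matrix.map_apply, mul_assoc]
  rw [Finset.sum_comm]

/-- Two non-degenerate unitary forms on `F^m` are isometric. -/
theorem exists_isometry_two {m : ℕ} {f₁ f₂ : (Fin m → F) → (Fin m → F) → F} (hf₁ : HermForm (conj hF) 1 f₁)
    (hf₂ : HermForm (conj hF) 1 f₂) :
    ∃ B : GL (Fin m) F, ∀ u v, f₁ ((B : Matrix (Fin m) (Fin m) F) *ᵥ u) ((B : Matrix (Fin m) (Fin m) F) *ᵥ v) =
      f₂ u v := by
  obtain ⟨B₁, h₁⟩ := exists_isometry hF hf₁
  obtain ⟨B₂, h₂⟩ := exists_isometry hF hf₂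
  refine ⟨B₁ * B₂⁻¹, fun u v => ?_⟩
  rw [Units.val_mul, ← Matrix.mulVec_mulVec, ← Matrix.mulVec_mulVec, h₁, ← h₂, Matrix.mulVec_mulVec,
    Matrix.mulVec_mulVec, ← Units.val_mul, mul_inv_cancel, Units.val_one, Matrix.one_mulVec, Matrix.one_mulVec]

/-- The unitary form on `F²` with Gram matrix `ζ · [[0, 1], [-1, 0]]`. -/
def formJ (ζ : F) (u v : Fin 2 → F) : F := ζ * (u 0 * v 1 ^ q - u 1 * v 0 ^ q)

theorem herm_formJ {ζ : F} (hζ : ζ ≠ 0) (hζq : ζ + ζ ^ q = 0) :
    HermForm (conj hF) 1 (formJ (q := q) ζ) where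
  add_left x y v := by simp only [formJ, Pi.add_apply]; ring
  smul_left a x v := by simp only [formJ, Pi.smul_apply, smul_eq_mul]; ring
  sigma_sq := conj_conj hF
  eps := by simp
  herm v w := by
    simp only [formJ, one_mul, map_mul, map_sub, map_pow, conj_apply]
    rw [pow_q_pow_q hF, pow_q_pow_q hF]
    linear_combination (v 0 * w 1 ^ q - v 1 * w 0 ^ q) * hζq
  nondegenerate v hv := by
    have h01 : v 0 ≠ 0 ∨ v 1 ≠ 0 := by
      by_contra hcon
      push Not at hcon
      apply hv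
      funext i
      fin_cases i
      · exact hcon.1
      · exact hcon.2
    have hz : (0 : F) ^ q = 0 := zero_pow_q hF
    constructor
    · rcases h01 with h | h
      · refine ⟨![0, 1], ?_⟩
        simp [formJ, hζ, h]
      · refine ⟨![1, 0], ?_⟩
        simp [formJ, hζ, h]
    · rcases h01 with h | h
      · refine ⟨![0, 1], ?_⟩
        simp [formJ, hζ, h, hz]
      · refine ⟨![1, 0], ?_⟩
        simp [formJ, hζ, h, hz]

theorem gram_formJ (ζ : F) : gramMatrix (formJ (q := q) ζ) = ζ • !![0, 1; -1, 0] := by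
  have hz : (0 : F) ^ q = 0 := zero_pow_q hF
  ext a b
  fin_cases a <;> fin_cases b <;> simp [gramMatrix, formJ, hz]

/-- A similarity of `formJ ζ` is a scalar multiple of a matrix over the fixed field. -/
theorem rational_of_similarity {ζ : F} (hζ : ζ ≠ 0) {g : GL (Fin 2) F} {c : F} (hc : c ≠ 0)
    (h : (g : Matrix (Fin 2) (Fin 2) F)ᵀ * gramMatrix (formJ (q := q) ζ) *
      (g : Matrix (Fin 2) (Fin 2) F).map (conj hF) = c • gramMatrix (formJ (q := q) ζ)) :
    ∃ s : F, s ≠ 0 ∧ ∀ i j, conj hF (s * (g : Matrix (Fin 2) (Fin 2) F) i j) = s * (g : Matrix (Fin 2) (Fin 2) F) i j := by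
  set σ := conj hF with hσ
  have hdet : (g : Matrix (Fin 2) (Fin 2) F).det ≠ 0 := by
    have := (Matrix.isUnit_iff_isUnit_det _).1 g.isUnit
    exact this.ne_zero
  set M : Matrix (Fin 2) (Fin 2) F := (g : Matrix (Fin 2) (Fin 2) F) with hM
  rw [Matrix.det_fin_two] at hdet
  rw [gram_formJ hF] at h
  have e00 := congrFun (congrFun h 0) 0
  have e01 := congrFun (congrFun h 0) 1
  have e10 := congrFun (congrFun h 1) 0
  have e11 := congrFun (congrFun h 1) 1
  simp [Matrix.mul_apply, Fin.sum_univ_two] at e00 e01 e10 e11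
  set μ : F := c / (M 0 0 * M 1 1 - M 0 1 * M 1 0) with hμ
  have hμ0 : μ ≠ 0 := div_ne_zero hc hdet
  have hd : μ * (M 0 0 * M 1 1 - M 0 1 * M 1 0) = c := by rw [hμ]; field_simp
  have key : ∀ i j, σ (M i j) = μ * M i j := by
    intro i j
    apply mul_left_cancel₀ hdet
    apply mul_left_cancel₀ hζ
    have hd' : ζ * (μ * (M 0 0 * M 1 1 - M 0 1 * M 1 0)) = ζ * c := by rw [hd]
    fin_cases i <;> fin_cases j <;> simp only [Fin.zero_eta, Fin.mk_one, Fin.isValue]
    · linear_combination M 0 1 * e00 - M 0 0 * e10 - M 0 0 * hd'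
    · linear_combination M 0 1 * e01 - M 0 0 * e11 - M 0 1 * hd'
    · linear_combination M 1 1 * e00 - M 1 0 * e10 - M 1 0 * hd'
    · linear_combination M 1 1 * e01 - M 1 0 * e11 - M 1 1 * hd'
  obtain ⟨i, j, hij⟩ : ∃ i j, M i j ≠ 0 := by
    by_contra hcon
    push Not at hcon
    apply hdet
    rw [hcon 0 0, hcon 0 1]; ring
  have hμμ : σ μ * μ = 1 := by
    have h1 := congrArg σ (key i j)
    rw [conj_conj, map_mul, key] at h1
    apply mul_right_cancel₀ hij
    rw [one_mul, mul_assoc]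
    exact h1.symm
  obtain ⟨s, hs, hs2⟩ := exists_hilbert (σ := σ) (conj_ne_refl hF) (conj_conj hF) (ε := σ μ)
    (by rw [conj_conj]; exact hμμ)
  refine ⟨s, hs, fun i j => ?_⟩
  rw [map_mul, hs2, key]
  linear_combination (s * M i j) * hμμ

/-- Two-dimensional factors: a group of isometries in a tensor-wreath subgroup with factors of dimension two lies in
the subfield group of the fixed field of the conjugation. -/
theorem wreath_two_subfield {f : (ι → F) → (ι → F) → F} {e : ι ≃ (Fin t → Fin 2)} {P : GL ι F}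
    {f₁ : (Fin 2 → F) → (Fin 2 → F) → F} (hf₁ : HermForm (conj hF) 1 f₁)
    (hP : IsTensorPowerFormStructure (conj hF) f f₁ e P) {H : Subgroup (GL ι F)}
    (hH : H ≤ tensorWreathSubgroup 2 t e P)
    (hHf : ∀ h ∈ H, ∀ u v, f ((h : Matrix ι ι F) *ᵥ u) ((h : Matrix ι ι F) *ᵥ v) = f u v) :
    ∃ (F₀ : Subfield F) (ζ : F) (P' : GL ι F), ζ ≠ 0 ∧ Fintype.card F = Nat.card F₀ ^ 2 ∧
      IsFormRationalStructure f F₀ ζ P' ∧ H ≤ subfieldSubgroup F₀ P' := by
  classical
  obtain ⟨ζ, hζ, hζq⟩ := exists_trace_zero_ne hF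
  have hJ := herm_formJ hF hζ hζq
  obtain ⟨B, hB⟩ := exists_isometry_two hF hf₁ hJ
  have hP' := isTensorPowerFormStructure_powBasis hP B (gram_of_isometry hF hf₁ hB)
  rw [← tensorWreathSubgroup_powBasis e P B] at hH
  set P' := powBasis e P B with hP'def
  have hGne : gramMatrix (formJ (q := q) ζ) ≠ 0 := by
    rw [gram_formJ hF]
    intro h0
    have := congrFun (congrFun h0 0) 1
    simp [hζ] at this
  obtain ⟨c, hc, hstr⟩ := id hP'
  refine ⟨H914.fixedBy (conj hF), (c * ζ ^ t)⁻¹, P', inv_ne_zero (mul_ne_zero hc (pow_ne_zero _ hζ)), ?_, ?_, ?_⟩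
  · rw [← Nat.card_eq_fintype_card]
    exact H914.card_eq_card_fixedBy_sq (conj_ne_refl hF) (conj_conj hF)
  · intro u v hu hv
    have h1 := hstr (u ∘ e.symm) (v ∘ e.symm)
    have hu' : (u ∘ e.symm) ∘ e = u := by funext i; simp
    have hv' : (v ∘ e.symm) ∘ e = v := by funext i; simp
    rw [hu', hv'] at h1
    rw [h1, gram_formJ hF]
    have h2 : ∀ a b : Fin t → Fin 2, ∏ i, (ζ • !![(0 : F), 1; -1, 0]) (a i) (b i) =
        ζ ^ t * ∏ i, (!![(0 : F), 1; -1, 0]) (a i) (b i) := by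
      intro a b
      simp only [Matrix.smul_apply, smul_eq_mul]
      rw [Finset.prod_mul_distrib, Finset.prod_const, Finset.card_univ, Fintype.card_fin]
    have h3 : ∑ a, ∑ b, (u ∘ e.symm) a * (∏ i, (ζ • !![(0 : F), 1; -1, 0]) (a i) (b i)) *
        conj hF ((v ∘ e.symm) b) =
        ζ ^ t * ∑ a, ∑ b, (u ∘ e.symm) a * (∏ i, (!![(0 : F), 1; -1, 0]) (a i) (b i)) *
        conj hF ((v ∘ e.symm) b) := by
      rw [Finset.mul_sum]
      refine Finset.sum_congr rfl fun a _ => ?_
      rw [Finset.mul_sum]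
      refine Finset.sum_congr rfl fun b _ => ?_
      rw [h2]; ring
    rw [h3, ← mul_assoc, ← mul_assoc, mul_assoc _ c (ζ ^ t),
      inv_mul_cancel₀ (mul_ne_zero hc (pow_ne_zero _ hζ)), one_mul]
    have hJF : ∀ a b : Fin 2, (!![(0 : F), 1; -1, 0]) a b ∈ H914.fixedBy (conj hF) := by
      intro a b
      fin_cases a <;> fin_cases b <;> simp [zero_mem, one_mem, neg_mem]
    refine sum_mem fun a _ => sum_mem fun b _ => mul_mem (mul_mem (hu _) (prod_mem fun i _ => hJF _ _)) ?_
    exact H914.map_mem_subfield _ _ (hv _)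
  · intro h hh
    obtain ⟨x, τ, rfl, hx⟩ := exists_wreath_normal_form hGne hP' (hH hh) (hHf h hh)
    have hx' : ∀ i, ∃ s : F, s ≠ 0 ∧ ∀ a b, s * (x i : Matrix (Fin 2) (Fin 2) F) a b ∈ H914.fixedBy (conj hF) := by
      intro i
      obtain ⟨d, hd, hxi⟩ := hx i
      obtain ⟨s, hs, hs2⟩ := rational_of_similarity hF hζ hd hxi
      exact ⟨s, hs, hs2⟩
    choose s hs hsF using hx'
    rw [H914.mem_subfieldSubgroup_iff]
    refine ⟨∏ i, s i, Finset.prod_ne_zero_iff.2 fun i _ => hs i, fun a b => ?_⟩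
    have h1 : (P'⁻¹ * frameGL e P' (pureGL x * facPerm F 2 τ) * P' : GL ι F) =
        glReindex e.symm (pureGL x * facPerm F 2 τ) := by
      change P'⁻¹ * (P' * glReindex e.symm (pureGL x * facPerm F 2 τ) * P'⁻¹) * P' = _
      group
    rw [h1]
    have h2 : ((glReindex e.symm (pureGL x * facPerm F 2 τ) : GL ι F) : Matrix ι ι F) a b =
        ((pureGL x * facPerm F 2 τ : GL (Fin t → Fin 2) F) : Matrix (Fin t → Fin 2) (Fin t → Fin 2) F) (e a) (e b) :=
      rfl
    rw [h2, Units.val_mul, Matrix.mul_apply, Finset.mul_sum]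
    refine sum_mem fun k _ => ?_
    rw [← mul_assoc, pureGL_val, pureMat_apply, ← Finset.prod_mul_distrib]
    refine mul_mem (prod_mem fun i _ => hsF i _ _) ?_
    rw [facPerm_val]
    split_ifs
    · exact one_mem _
    · exact zero_mem _

end Two

end Cfsg.Agent.H921
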