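import Cfsg.Agent.H921.SporGen
import Cfsg.Agent.H912.BdAlt

/-!
# Alternating groups: configurations
-/

set_option autoImplicit false
set_option maxRecDepth 100000

namespace Cfsg.Agent.H921.Spor.Alt

open Equiv

/-- `(0 1 2 3 4 5 6)` -/
def x7 : Perm (Fin 9) := ⟨![1, 2, 3, 4, 5, 6, 0, 7, 8], ![6, 0, 1, 2, 3, 4, 5, 7, 8], by decide, by decide⟩
/-- `i ↦ 3 i` -/
def y7 : Perm (Fin 9) := ⟨![0, 3, 6, 2, 5, 1, 4, 8, 7], ![0, 5, 3, 1, 6, 4, 2, 8, 7], by decide, by decide⟩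

theorem sign_x7 : Perm.sign x7 = 1 := by decide +kernel
theorem sign_y7 : Perm.sign y7 = 1 := by decide +kernel

theorem A9_seven : Conf 7 6 (alternatingGroup (Fin 9)) := by
  refine Conf.of_prime (by norm_num) (x := ⟨x7, sign_x7⟩) (y := ⟨y7, sign_y7⟩) (k := 3) ?_ ?_ ?_ 6 (by decide)
  · apply Subtype.ext; change x7 ^ 7 = 1; decide +kernel
  · intro h; exact absurd (congrArg Subtype.val h) (by decide)
  · apply Subtype.ext; change y7 * x7 * y7⁻¹ = x7 ^ 3; decide +kernel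

/-- `(0 1 2)(3 4 5)(6 7 8)` -/
def u : Perm (Fin 9) := ⟨![1, 2, 0, 4, 5, 3, 7, 8, 6], ![2, 0, 1, 5, 3, 4, 8, 6, 7], by decide, by decide⟩
/-- `(0 3 6)(1 4 7)(2 5 8)` -/
def v : Perm (Fin 9) := ⟨![3, 4, 5, 6, 7, 8, 0, 1, 2], ![6, 7, 8, 0, 1, 2, 3, 4, 5], by decide, by decide⟩
/-- the matrix `(0 1; -1 0)`: `(a, b) ↦ (b, -a)`, point `a + 3 b` -/
def i : Perm (Fin 9) := ⟨![0, 6, 3, 1, 7, 4, 2, 8, 5], ![0, 3, 6, 2, 5, 8, 1, 4, 7], by decide, by decide⟩
/-- the matrix `(1 1; 1 -1)` -/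
def j : Perm (Fin 9) := ⟨![0, 4, 8, 7, 2, 3, 5, 6, 1], ![0, 8, 4, 5, 1, 6, 7, 3, 2], by decide, by decide⟩

theorem sign_u : Perm.sign u = 1 := by decide +kernel
theorem sign_v : Perm.sign v = 1 := by decide +kernel
theorem sign_i : Perm.sign i = 1 := by decide +kernel
theorem sign_j : Perm.sign j = 1 := by decide +kernel

/-- words in a list of elements of a group with decidable equality -/
def wdOf {T : Type*} [Group T] [DecidableEq T] (l : ℕ → T) : Wd T where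
  W := fun w => (w.map l).prod
  nil := rfl
  app := fun a b => by rw [List.map_append, List.prod_append]
  eq := fun a b => decide ((a.map l).prod = (b.map l).prod)
  eq_sound := fun h => of_decide_eq_true h
  ne := fun a => decide ((a.map l).prod ≠ 1)
  ne_sound := fun h => of_decide_eq_true h

/-- the letters -/
def lt9 : ℕ → alternatingGroup (Fin 9)
  | 0 => ⟨u, sign_u⟩
  | 1 => ⟨v, sign_v⟩
  | 2 => ⟨i, sign_i⟩
  | _ => ⟨j, sign_j⟩

/-- `3² : Q₈` -/
theorem A9_three : Orb 3 8 (alternatingGroup (Fin 9)) :=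
  (wdOf lt9).orb_gen (r := 3) (d := 2) (m := 8) (X := [[0], [1]]) (G := [[2], [3]])
    (B := [[[0, 2], [1, 0]], [[1, 1], [1, 2]]])
    (S := [[], [0], [1], [0, 0], [0, 1], [1, 0], [0, 0, 0], [0, 0, 1]]) (c₀ := [1, 0]) (by norm_num)
    (by decide +kernel)

theorem conf_seven {α : Type*} [Fintype α] [DecidableEq α] (h : 9 ≤ Fintype.card α) : Conf 7 6 (alternatingGroup α) := by
  obtain ⟨f⟩ := Function.Embedding.nonempty_of_card_le (α := Fin 9) (β := α) (by simpa using h)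
  obtain ⟨φ, hφ⟩ := Cfsg.Agent.H912.Bd.exists_alt_hom f
  exact A9_seven.of_inj φ hφ

theorem orb_three {α : Type*} [Fintype α] [DecidableEq α] (h : 9 ≤ Fintype.card α) : Orb 3 8 (alternatingGroup α) := by
  obtain ⟨f⟩ := Function.Embedding.nonempty_of_card_le (α := Fin 9) (β := α) (by simpa using h)
  obtain ⟨φ, hφ⟩ := Cfsg.Agent.H912.Bd.exists_alt_hom f
  exact A9_three.of_inj φ hφ

end Cfsg.Agent.H921.Spor.Alt
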