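import Cfsg.Agent.H921.SporLin
import Cfsg.Agent.ChevalleyStructure.WeylData

/-!
# Configurations in quotients of finite Coxeter groups

`C : Cert r M` is a certificate (table of a faithful permutation representation) for the Coxeter group of `M`;
`t : ℕ → G` satisfies the Coxeter relations. Identities between words in the `t a` are checked in the table.
-/

set_option autoImplicit false

universe u v w

namespace Cfsg.Agent.H921.Spor.Cox

open Cfsg.Agent.ChevalleyStructure.WeylChain Cfsg.Agent.ChevalleyStructure.WeylCert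

variable {r : ℕ} {M : CoxeterMatrix (Fin r)} {G : Type v} [Group G]

/-- value of a word -/
def ev (t : ℕ → G) (w : List ℕ) : G := (w.map t).prod

@[simp] theorem ev_nil (t : ℕ → G) : ev t [] = 1 := rfl
@[simp] theorem ev_cons (t : ℕ → G) (a : ℕ) (w : List ℕ) : ev t (a :: w) = t a * ev t w := by
  simp [ev]
theorem ev_append (t : ℕ → G) (w w' : List ℕ) : ev t (w ++ w') = ev t w * ev t w' := by
  simp [ev]

/-- action of a word on the points -/
def ap (P : ℕ → ℕ → ℕ) : List ℕ → ℕ → ℕ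
  | [], x => x
  | a :: w, x => P a (ap P w x)

/-- letters are smaller than `r` -/
def lt (r : ℕ) (w : List ℕ) : Bool := w.all fun a => Nat.blt a r

/-- equality of words -/
def eqW (C : Cert r M) (w w' : List ℕ) : Bool :=
  lt r w && lt r w' && (List.range C.n).all fun x => Nat.beq (ap C.P w x) (ap C.P w' x)

theorem ap_out (C : Cert r M) {w : List ℕ} (hw : ∀ a ∈ w, a < r) {x : ℕ} (hx : C.n ≤ x) : ap C.P w x = x := by
  induction w with
  | nil => rfl
  | cons a w ih =>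
    change C.P a (ap C.P w x) = x
    rw [ih fun b hb => hw b (List.mem_cons_of_mem _ hb), C.out a (hw a List.mem_cons_self) x hx]

theorem hom_ev (C : Cert r M) {w : List ℕ} (hw : ∀ a ∈ w, a < r) (x : ℕ) :
    C.hom (ev (Cert.gen M) w) x = ap C.P w x := by
  induction w with
  | nil => simp [ap]
  | cons a w ih =>
    have ha : a < r := hw a List.mem_cons_self
    rw [ev_cons, map_mul, Equiv.Perm.mul_apply, ih fun b hb => hw b (List.mem_cons_of_mem _ hb), Cert.gen_of_lt ha,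
      C.hom_simple_apply]
    rfl

theorem mem_lt {r : ℕ} {w : List ℕ} (h : lt r w = true) : ∀ a ∈ w, a < r := by
  intro a ha
  have := List.all_eq_true.1 h a ha
  simpa using this

/-- The Coxeter relations. -/
def Pre (C : Cert r M) (t : ℕ → G) : Prop := ∀ a < r, ∀ b < r, (t a * t b) ^ C.m a b = 1

theorem Pre.liftable {C : Cert r M} {t : ℕ → G} (h : Pre C t) : M.IsLiftable (fun a : Fin r => t a) := by
  intro a b
  rw [← C.mM]
  exact h a a.2 b b.2

/-- Equality of words in the Coxeter group implies equality in `G`. -/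
theorem Pre.eq {C : Cert r M} {t : ℕ → G} (h : Pre C t) {w w' : List ℕ} (hw : eqW C w w' = true) :
    ev t w = ev t w' := by
  unfold eqW at hw
  simp only [Bool.and_eq_true] at hw
  obtain ⟨⟨h1, h2⟩, h3⟩ := hw
  have h1' := mem_lt h1
  have h2' := mem_lt h2
  have key : ev (Cert.gen M) w = ev (Cert.gen M) w' := by
    apply C.hom_injective
    ext x
    rw [hom_ev C h1', hom_ev C h2']
    by_cases hx : x < C.n
    · exact Nat.eq_of_beq_eq_true (List.all_eq_true.1 h3 x (List.mem_range.2 hx))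
    · rw [ap_out C h1' (by omega), ap_out C h2' (by omega)]
  let φ : M.Group →* G := M.toCoxeterSystem.lift ⟨fun a : Fin r => t a, h.liftable⟩
  have hφ : ∀ u : List ℕ, (∀ a ∈ u, a < r) → φ (ev (Cert.gen M) u) = ev t u := by
    intro u hu
    induction u with
    | nil => simp
    | cons a u ih =>
      have ha : a < r := hu a List.mem_cons_self
      rw [ev_cons, ev_cons, map_mul, ih fun b hb => hu b (List.mem_cons_of_mem _ hb), Cert.gen_of_lt ha]
      congr 1
      exact M.toCoxeterSystem.lift_apply_simple h.liftable ⟨a, ha⟩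
  rw [← hφ w h1', ← hφ w' h2', key]

/-- repeated word -/
def rp (w : List ℕ) : ℕ → List ℕ
  | 0 => []
  | n + 1 => w ++ rp w n

theorem ev_rp (t : ℕ → G) (w : List ℕ) (n : ℕ) : ev t (rp w n) = ev t w ^ n := by
  induction n with
  | zero => rw [pow_zero]; rfl
  | succ n ih =>
    change ev t (w ++ rp w n) = _
    rw [ev_append, ih, pow_succ']

/-- **Prime order.** -/
theorem conf_prime {C : Cert r M} {t : ℕ → G} (h : Pre C t) {p m k : ℕ} (hp : p.Prime) {x y : List ℕ}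
    (hx : eqW C (rp x p) [] = true) (hx1 : ev t x ≠ 1) (hyx : eqW C (y ++ x) (rp x k ++ y) = true)
    (hk : ∀ i < m, 0 < i → k ^ i % p ≠ 1 % p) {K : Subgroup G} (hxK : ev t x ∈ K) (hyK : ev t y ∈ K) : Conf p m K := by
  have h1 : ev t x ^ p = 1 := by rw [← ev_rp, h.eq hx, ev_nil]
  have h2 : ev t y * ev t x = ev t x ^ k * ev t y := by
    rw [← ev_append, h.eq hyx, ev_append, ev_rp]
  refine Conf.of_prime hp (x := (⟨ev t x, hxK⟩ : K)) (y := ⟨ev t y, hyK⟩) (Subtype.ext h1)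
    (fun h0 => hx1 (congrArg Subtype.val h0)) (k := k) ?_ m hk
  rw [mul_inv_eq_iff_eq_mul]
  exact Subtype.ext h2

/-- word for `pv` -/
def pvW (X : List (List ℕ)) : ℕ → List ℕ → List ℕ
  | _, [] => []
  | i, a :: l => rp (X.getD i []) a ++ pvW X (i + 1) l

theorem ev_pvW (t : ℕ → G) (X : List (List ℕ)) (l : List ℕ) (i : ℕ) :
    ev t (pvW X i l) = pv (fun j => ev t (X.getD j [])) i l := by
  induction l generalizing i with
  | nil => rfl
  | cons a l ih =>
    change ev t (rp (X.getD i []) a ++ pvW X (i + 1) l) = ev t (X.getD i []) ^ a * _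
    rw [ev_append, ev_rp, ih]

/-- The conditions of `Orb.of_lin`. -/
def chkL (C : Cert r M) (p d N m : ℕ) (X S : List (List ℕ)) (Al : List (List (List ℕ))) (c₀ : List ℕ) : Bool :=
  Nat.beq X.length d && (X.all fun x => eqW C (rp x p) []) &&
  (X.all fun x => X.all fun y => eqW C (x ++ y) (y ++ x)) &&
  ((List.range N).all fun j => Nat.beq (Al.getD j []).length d &&
    (List.range d).all fun i => eqW C (S.getD j [] ++ X.getD i []) (pvW X 0 ((Al.getD j []).getD i []) ++ S.getD j [])) &&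
  ((vecs p d).all (fun χ => Nat.beq (dot χ c₀ % p) 0 ||
      Nat.ble m (cnt ((List.range N).map fun j => enc p χ (Al.getD j [])))))

theorem mem_or_getD {X : List (List ℕ)} (i : ℕ) : X.getD i [] ∈ X ∨ X.getD i [] = [] := by
  by_cases hi : i < X.length
  · left
    rw [List.getD_eq_getElem _ _ hi]
    exact List.getElem_mem hi
  · right
    exact List.getD_eq_default _ _ (by omega)

theorem orb_of_chk {C : Cert r M} {t : ℕ → G} (h : Pre C t) {p d N m : ℕ} {X S : List (List ℕ)}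
    {Al : List (List (List ℕ))} {c₀ : List ℕ} (hp : p.Prime) (hchk : chkL C p d N m X S Al c₀ = true)
    (hne : ev t (pvW X 0 c₀) ≠ 1) {K : Subgroup G} (hXK : ∀ x ∈ X, ev t x ∈ K) (hSK : ∀ x ∈ S, ev t x ∈ K) :
    Orb p m K := by
  unfold chkL at hchk
  simp only [Bool.and_eq_true] at hchk
  obtain ⟨⟨⟨⟨hXd, hXr⟩, hXc⟩, hA⟩, hd⟩ := hchk
  have hXd' := Nat.eq_of_beq_eq_true hXd
  have hmem : ∀ (L : List (List ℕ)), (∀ x ∈ L, ev t x ∈ K) → ∀ i, ev t (L.getD i []) ∈ K := by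
    intro L hL i
    rcases mem_or_getD (X := L) i with h1 | h1
    · exact hL _ h1
    · rw [h1]; exact K.one_mem
  refine Orb.of_lin_map hp (MonoidHom.id G) Function.injective_id d N m (fun i => ev t (X.getD i []))
    (fun j => ev t (S.getD j [])) (hmem X hXK) (hmem S hSK) ?_ ?_ ?_ c₀ ?_ (fun j => Al.getD j []) ?_ ?_ hd
  · intro i
    rcases mem_or_getD (X := X) i with h1 | h1
    · rw [← ev_rp, h.eq (List.all_eq_true.1 hXr _ h1), ev_nil]
    · rw [h1, ev_nil, one_pow]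
  · intro i hi
    rw [List.getD_eq_default _ _ (by omega), ev_nil]
  · intro i j
    rcases mem_or_getD (X := X) i with h1 | h1
    · rcases mem_or_getD (X := X) j with h2 | h2
      · have h3 := h.eq (List.all_eq_true.1 (List.all_eq_true.1 hXc _ h1) _ h2)
        rw [ev_append, ev_append] at h3
        exact h3
      · rw [h2, ev_nil, mul_one, one_mul]
    · rw [h1, ev_nil, mul_one, one_mul]
  · rw [← ev_pvW]; exact hne
  · intro j hj
    have h1 := List.all_eq_true.1 hA j (List.mem_range.2 hj)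
    rw [Bool.and_eq_true] at h1
    exact Nat.eq_of_beq_eq_true h1.1
  · intro j hj i hi
    have h1 := List.all_eq_true.1 hA j (List.mem_range.2 hj)
    rw [Bool.and_eq_true] at h1
    have h2 := h.eq (List.all_eq_true.1 h1.2 i (List.mem_range.2 hi))
    rw [ev_append, ev_append, ev_pvW] at h2
    rw [mul_inv_eq_iff_eq_mul]
    exact h2

theorem Pre.sq {C : Cert r M} {t : ℕ → G} (h : Pre C t) {a : ℕ} (ha : a < r) : t a * t a = 1 := by
  have h1 := h a ha a ha
  have h2 : C.m a a = 1 := by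
    have := C.mM ⟨a, ha⟩ ⟨a, ha⟩
    simpa [M.diagonal] using this
  rwa [h2, pow_one] at h1

theorem Pre.ev_reverse {C : Cert r M} {t : ℕ → G} (h : Pre C t) {w : List ℕ} (hw : ∀ a ∈ w, a < r) :
    ev t w.reverse = (ev t w)⁻¹ := by
  induction w with
  | nil => simp
  | cons a w ih =>
    rw [List.reverse_cons, ev_append, ih fun b hb => hw b (List.mem_cons_of_mem _ hb), ev_cons, ev_cons, ev_nil,
      mul_one, mul_inv_rev]
    congr 1
    exact eq_inv_of_mul_eq_one_left (h.sq (hw a List.mem_cons_self))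

/-- The element `x` is not trivial, as `[x⁻¹, g]` is conjugate to `t a * t b ≠ 1`. -/
theorem Pre.ne_one {C : Cert r M} {t : ℕ → G} (h : Pre C t) {x : List ℕ} (g u : List ℕ) {a b : ℕ}
    (hab : t a * t b ≠ 1) (hx : lt r x = true) (hg : lt r g = true) (hu : lt r u = true)
    (hchk : eqW C (x.reverse ++ (g ++ (x ++ g.reverse))) (u ++ ([a, b] ++ u.reverse)) = true) : ev t x ≠ 1 := by
  intro h1
  apply hab
  have h2 := h.eq hchk
  simp only [ev_append] at h2
  rw [h.ev_reverse (mem_lt hx), h.ev_reverse (mem_lt hg), h.ev_reverse (mem_lt hu), h1, inv_one, one_mul, one_mul,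
    mul_inv_cancel, ev_cons, ev_cons, ev_nil, mul_one, ← mul_assoc, eq_comm, mul_inv_eq_one] at h2
  exact mul_eq_left.1 h2

/-! ### Type `A` -/

/-- The adjacent transpositions as a table. -/
def tabA (n a x : ℕ) : ℕ := if x = a then (if a < n then a + 1 else x) else
  if x = a + 1 then (if a < n then a else x) else x

/-- The Coxeter matrix as a table. -/
def mtabA (a b : ℕ) : ℕ := if a = b then 1 else if b + 1 = a ∨ a + 1 = b then 3 else 2

theorem tabA_out {n a x : ℕ} (ha : a < n) (hx : n + 1 ≤ x) : tabA n a x = x := by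
  unfold tabA
  rw [if_neg (by omega)]
  split_ifs with h1
  · omega
  · rfl

/-- the chain of symmetric groups -/
def stepsA (n : ℕ) : List Step :=
  (List.range n).map fun k => ⟨List.range (k + 1), List.range k, k + 1, 2 ^ (k + 2) - 1⟩

/-- The certificate for type `A₇`. -/
def certA7 : Cert 7 (CoxeterMatrix.A 7) where
  P := tabA 7
  m := mtabA
  n := 8
  steps := stepsA 7
  out _ ha _ hx := tabA_out ha hx
  rel := by decide +kernel
  mM a b := Nat.eq_of_beq_eq_true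
    ((by decide +kernel : ∀ a b : Fin 7, Nat.beq (mtabA a b) ((CoxeterMatrix.A 7) a b) = true) a b)
  chain := by decide +kernel
  gens := by decide +kernel

/-- The certificate for type `A₈`. -/
def certA8 : Cert 8 (CoxeterMatrix.A 8) where
  P := tabA 8
  m := mtabA
  n := 9
  steps := stepsA 8
  out _ ha _ hx := tabA_out ha hx
  rel := by decide +kernel
  mM a b := Nat.eq_of_beq_eq_true
    ((by decide +kernel : ∀ a b : Fin 8, Nat.beq (mtabA a b) ((CoxeterMatrix.A 8) a b) = true) a b)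
  chain := by decide +kernel
  gens := by decide +kernel

/-- The certificate for type `A₁₀`. -/
def certA10 : Cert 10 (CoxeterMatrix.A 10) where
  P := tabA 10
  m := mtabA
  n := 11
  steps := stepsA 10
  out _ ha _ hx := tabA_out ha hx
  rel := by decide +kernel
  mM a b := Nat.eq_of_beq_eq_true
    ((by decide +kernel : ∀ a b : Fin 10, Nat.beq (mtabA a b) ((CoxeterMatrix.A 10) a b) = true) a b)
  chain := by decide +kernel
  gens := by decide +kernel

/-! ### Configurations -/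

variable {t : ℕ → G}

theorem mem_of_even {K : Subgroup G} {n : ℕ} (hK : ∀ a < n, ∀ b < n, t a * t b ∈ K) :
    ∀ w : List ℕ, (∀ a ∈ w, a < n) → w.length % 2 = 0 → ev t w ∈ K
  | [], _, _ => K.one_mem
  | [a], _, h => by simp at h
  | a :: b :: w, hw, h => by
    rw [ev_cons, ev_cons, ← mul_assoc]
    refine K.mul_mem (hK a (hw a (by simp)) b (hw b (by simp))) (mem_of_even hK w (fun c hc => hw c ?_) ?_)
    · exact List.mem_cons_of_mem _ (List.mem_cons_of_mem _ hc)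
    · simp only [List.length_cons] at h
      omega

theorem mem_of_even' {K : Subgroup G} {n : ℕ} (hK : ∀ a < n, ∀ b < n, t a * t b ∈ K) (w : List ℕ)
    (h : (lt n w && Nat.beq (w.length % 2) 0) = true) : ev t w ∈ K := by
  rw [Bool.and_eq_true] at h
  exact mem_of_even hK w (mem_lt h.1) (Nat.eq_of_beq_eq_true h.2)

theorem mem_of_all {K : Subgroup G} {n : ℕ} (hK : ∀ a < n, ∀ b < n, t a * t b ∈ K) (L : List (List ℕ))
    (h : L.all (fun w => lt n w && Nat.beq (w.length % 2) 0) = true) : ∀ x ∈ L, ev t x ∈ K := fun x hx =>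
  mem_of_even' hK x (List.all_eq_true.1 h x hx)

/-- `7 : 6` in `S₈` -/
theorem A7_seven (h : Pre certA7 t) (hne : t 0 * t 1 ≠ 1) : Conf 7 6 G :=
  (conf_prime h (p := 7) (m := 6) (k := 3) (x := [0, 1, 2, 3, 4, 5]) (y := [4, 5, 1, 2, 3, 4, 3, 1, 2]) (by norm_num)
    (by decide +kernel) (h.ne_one [0] [5, 4, 3, 2] hne (by decide) (by decide) (by decide) (by decide +kernel))
    (by decide +kernel) (by decide) (K := ⊤) trivial trivial).of_sub

/-- `7 : 6` in `A₉` -/
theorem A8_seven (h : Pre certA8 t) (hne : t 0 * t 1 ≠ 1) {K : Subgroup G} (hK : ∀ a < 8, ∀ b < 8, t a * t b ∈ K) :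
    Conf 7 6 K :=
  conf_prime h (p := 7) (m := 6) (k := 3) (x := [0, 1, 2, 3, 4, 5]) (y := [4, 5, 1, 2, 3, 4, 3, 1, 2, 7])
    (by norm_num) (by decide +kernel)
    (h.ne_one [0] [5, 4, 3, 2] hne (by decide) (by decide) (by decide) (by decide +kernel))
    (by decide +kernel) (by decide) (mem_of_even' hK _ (by decide)) (mem_of_even' hK _ (by decide))

/-- `3² : Q₈` in `A₉` -/
theorem A8_three (h : Pre certA8 t) (hne : t 0 * t 1 ≠ 1) {K : Subgroup G} (hK : ∀ a < 8, ∀ b < 8, t a * t b ∈ K) :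
    Orb 3 8 K :=
  orb_of_chk h (p := 3) (d := 2) (N := 8) (m := 8)
    (X := [[6, 7, 3, 4, 0, 1], [2, 3, 4, 5, 6, 7, 1, 2, 3, 4, 5, 6, 0, 1, 2, 3, 4, 5]])
    (S := [[7, 4, 5, 6, 1, 2, 3, 4, 5, 3, 1, 2], [5, 6, 7, 2, 3, 4, 5, 3, 4, 1, 2, 1], [],
      [3, 4, 5, 6, 7, 1, 2, 3, 4, 5, 6, 1, 2, 3, 4, 3, 1, 2], [2, 3, 4, 5, 6, 7, 2, 3, 4, 5, 6, 5, 4, 1, 2, 3, 2, 1],
      [4, 5, 6, 7, 4, 5, 6, 3, 4, 5, 4, 1], [1, 2, 3, 4, 5, 6, 7, 5, 6, 4, 5, 2, 3, 4, 1, 2, 3, 2],
      [6, 7, 2, 3, 4, 5, 6, 3, 4, 5, 1, 2, 3, 4, 1, 2, 3, 1]])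
    (Al := [[[0, 1], [2, 0]], [[0, 2], [1, 0]], [[1, 0], [0, 1]], [[2, 1], [1, 1]], [[2, 2], [2, 1]],
      [[2, 0], [0, 2]], [[1, 1], [1, 2]], [[1, 2], [2, 2]]])
    (c₀ := [1, 0]) (by norm_num) (by decide +kernel)
    (by
      have := h.ne_one (x := [6, 7, 3, 4, 0, 1]) [0] [] hne (by decide) (by decide) (by decide) (by decide +kernel)
      exact this)
    (mem_of_all hK _ (by decide)) (mem_of_all hK _ (by decide))

/-- `11 : 5` in `A₁₁` -/
theorem A10_eleven (h : Pre certA10 t) (hne : t 0 * t 1 ≠ 1) {K : Subgroup G}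
    (hK : ∀ a < 10, ∀ b < 10, t a * t b ∈ K) : Conf 11 5 K :=
  conf_prime h (p := 11) (m := 5) (k := 3) (x := [0, 1, 2, 3, 4, 5, 6, 7, 8, 9])
    (y := [8, 9, 5, 6, 7, 8, 2, 3, 4, 5, 6, 7, 5, 3, 4, 1, 2, 3])
    (by norm_num) (by decide +kernel)
    (h.ne_one [0] [9, 8, 7, 6, 5, 4, 3, 2] hne (by decide) (by decide) (by decide) (by decide +kernel))
    (by decide +kernel) (by decide) (mem_of_even' hK _ (by decide)) (mem_of_even' hK _ (by decide))

open Cfsg.Agent.ChevalleyStructure.WeylData in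
/-- `3³ : (2 × S₄)` in the Weyl group of type `E₆` -/
theorem E6_three (h : Pre certE6 t) (hne : t 0 * t 2 ≠ 1) : Orb 3 6 G :=
  (orb_of_chk h (p := 3) (d := 3) (N := 16) (m := 6)
    (X := [[0, 2], [5, 4], [1, 3, 4, 2, 3, 0, 2, 1, 3, 4, 5, 4, 3, 2, 1, 3, 4, 0, 2, 3]])
    (S := [[], [0], [4], [1], [0, 2, 3, 4, 5, 1, 3, 4, 2, 3, 0, 2, 1, 3, 4, 5],
      [0, 2, 3, 4, 5, 1, 3, 4, 2, 3, 0, 2, 1, 3, 4, 5, 0], [0, 2, 3, 4, 5, 1, 3, 4, 2, 3, 0, 2, 1, 3, 4, 5, 4],
      [0, 2, 3, 4, 5, 1, 3, 4, 2, 3, 0, 2, 1, 3, 4, 5, 1], [5, 4, 3, 2, 1, 3, 4, 5, 0, 2, 3, 4, 1, 3, 2, 0],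
      [5, 4, 3, 2, 1, 3, 4, 5, 0, 2, 3, 4, 1, 3, 2], [5, 4, 3, 2, 1, 3, 4, 5, 0, 2, 1, 3, 4, 1, 3, 2, 0],
      [5, 4, 3, 2, 1, 3, 4, 5, 0, 2, 3, 4, 1, 3, 2, 1, 0], [0, 2, 3, 4, 5, 1, 3, 4, 2, 3, 0, 2, 1, 3, 4, 5, 0],
      [0, 2, 3, 4, 5, 1, 3, 4, 2, 3, 0, 2, 1, 3, 4, 5], [0, 2, 3, 4, 5, 1, 3, 4, 2, 3, 0, 2, 1, 3, 4, 5, 4, 0],
      [0, 2, 3, 4, 5, 1, 3, 4, 2, 3, 0, 2, 1, 3, 4, 5, 1, 0]])
    (Al := [[[1, 0, 0], [0, 1, 0], [0, 0, 1]], [[2, 0, 0], [0, 1, 0], [0, 0, 1]], [[1, 0, 0], [0, 2, 0], [0, 0, 1]],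
      [[1, 0, 0], [0, 1, 0], [0, 0, 2]], [[0, 1, 0], [0, 0, 1], [1, 0, 0]], [[0, 2, 0], [0, 0, 1], [1, 0, 0]],
      [[0, 1, 0], [0, 0, 2], [1, 0, 0]], [[0, 1, 0], [0, 0, 1], [2, 0, 0]], [[0, 0, 1], [1, 0, 0], [0, 1, 0]],
      [[0, 0, 2], [1, 0, 0], [0, 1, 0]], [[0, 0, 1], [2, 0, 0], [0, 1, 0]], [[0, 0, 1], [1, 0, 0], [0, 2, 0]],
      [[0, 2, 0], [0, 0, 1], [1, 0, 0]], [[0, 1, 0], [0, 0, 1], [1, 0, 0]], [[0, 2, 0], [0, 0, 2], [1, 0, 0]],
      [[0, 2, 0], [0, 0, 1], [2, 0, 0]]])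
    (c₀ := [1, 0, 0]) (by norm_num) (by decide +kernel)
    (by
      have : ev t (pvW [[0, 2], [5, 4], [1, 3, 4, 2, 3, 0, 2, 1, 3, 4, 5, 4, 3, 2, 1, 3, 4, 0, 2, 3]] 0 [1, 0, 0])
        = t 0 * t 2 := by simp [pvW, rp, ev]
      rw [this]
      exact hne) (K := ⊤)
    (fun _ _ => trivial) (fun _ _ => trivial)).of_sub

end Cfsg.Agent.H921.Spor.Cox
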