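import Cfsg.Agent.H921.SporOrb

/-!
# Elementary abelian configurations by linear algebra

`Orb.of_lin`: commuting elements `x i` of order `r` and elements `s j` whose conjugation action on the `x i` is given by
matrices `A j`; the number of conjugates of the linear functionals not vanishing on `c₀` is checked by a computation.
-/

set_option autoImplicit false

universe u v w

namespace Cfsg.Agent.H921.Spor

variable {r : ℕ} {T : Type v} [Group T]

/-- `x i ^ a₀ * x (i + 1) ^ a₁ * ...` -/
def pv (x : ℕ → T) : ℕ → List ℕ → T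
  | _, [] => 1
  | i, a :: l => x i ^ a * pv x (i + 1) l

/-- scalar product -/
def dot : List ℕ → List ℕ → ℕ
  | a :: l, b :: m => a * b + dot l m
  | _, _ => 0

/-- all vectors -/
def vecs (r : ℕ) : ℕ → List (List ℕ)
  | 0 => [[]]
  | n + 1 => (List.range r).flatMap fun a => (vecs r n).map fun v => a :: v

/-- encoding of the functional `χ` twisted by the matrix -/
def enc (r : ℕ) (χ : List ℕ) : List (List ℕ) → ℕ
  | [] => 0
  | row :: l => dot χ row % r + r * enc r χ l

/-- number of different elements of a list -/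
def cnt : List ℕ → ℕ
  | [] => 0
  | a :: l => if l.any (fun b => Nat.beq a b) then cnt l else cnt l + 1

theorem cnt_le (l : List ℕ) : cnt l ≤ l.toFinset.card := by
  classical
  induction l with
  | nil => exact le_refl _
  | cons a l ih =>
    unfold cnt
    rw [List.toFinset_cons]
    split_ifs with h
    · exact le_trans ih (Finset.card_le_card (Finset.subset_insert _ _))
    · have h1 : a ∉ l.toFinset := by
        intro h2
        apply h
        rw [List.any_eq_true]
        exact ⟨a, List.mem_toFinset.1 h2, Nat.beq_refl a⟩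
      rw [Finset.card_insert_of_notMem h1]
      omega

theorem mem_vecs {r : ℕ} : ∀ {n : ℕ} {v : List ℕ}, v.length = n → (∀ a ∈ v, a < r) → v ∈ vecs r n
  | 0, [], _, _ => by simp [vecs]
  | n + 1, a :: v, h, h2 => by
    unfold vecs
    rw [List.mem_flatMap]
    refine ⟨a, List.mem_range.2 (h2 a List.mem_cons_self), ?_⟩
    rw [List.mem_map]
    exact ⟨v, mem_vecs (by simpa using h) (fun b hb => h2 b (List.mem_cons_of_mem _ hb)), rfl⟩

/-- the values of `f` on the `x i` -/
def vals (f : ℕ → ℕ) : ℕ → ℕ → List ℕ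
  | _, 0 => []
  | i, n + 1 => f i :: vals f (i + 1) n

theorem length_vals (f : ℕ → ℕ) (i n : ℕ) : (vals f i n).length = n := by
  induction n generalizing i with
  | zero => rfl
  | succ n ih => simp [vals, ih]

theorem lt_of_mem_vals {f : ℕ → ℕ} {r : ℕ} (hf : ∀ i, f i < r) (i n : ℕ) : ∀ a ∈ vals f i n, a < r := by
  induction n generalizing i with
  | zero => simp [vals]
  | succ n ih =>
    intro a ha
    rcases List.mem_cons.1 ha with rfl | h
    · exact hf i
    · exact ih _ a h

theorem enc_eq {r : ℕ} {χ : List ℕ} : ∀ {A B : List (List ℕ)}, A.length = B.length →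
    (∀ i < A.length, dot χ (A.getD i []) % r = dot χ (B.getD i []) % r) → enc r χ A = enc r χ B
  | [], [], _, _ => rfl
  | a :: A, b :: B, h, h2 => by
    unfold enc
    have h3 := h2 0 (by simp)
    simp only [List.getD_cons_zero] at h3
    rw [h3, enc_eq (A := A) (B := B) (by simpa using h)]
    intro i hi
    have h4 := h2 (i + 1) (by simpa using hi)
    simpa using h4

theorem Orb.of_lin (hr : r.Prime) (d M m : ℕ) (x s : ℕ → T) (hx : ∀ i, x i ^ r = 1) (hxd : ∀ i, d ≤ i → x i = 1)
    (hc : ∀ i j, x i * x j = x j * x i) (c₀ : List ℕ) (h₀ : pv x 0 c₀ ≠ 1) (A : ℕ → List (List ℕ))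
    (hAl : ∀ j < M, (A j).length = d)
    (hA : ∀ j < M, ∀ i < d, s j * x i * (s j)⁻¹ = pv x 0 ((A j).getD i []))
    (hd : (vecs r d).all (fun χ => Nat.beq (dot χ c₀ % r) 0 ||
      Nat.ble m (cnt ((List.range M).map fun j => enc r χ (A j)))) = true) : Orb r m T := by
  classical
  have : Fact r.Prime := ⟨hr⟩
  set E : Subgroup T := Subgroup.closure (Set.range x) with hEdef
  have hxE : ∀ i, x i ∈ E := fun i => Subgroup.subset_closure ⟨i, rfl⟩
  have hE : ∀ u ∈ E, ∀ v ∈ E, u * v = v * u := by
    have hcomm : ∀ u ∈ Set.range x, ∀ v ∈ Set.range x, u * v = v * u := by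
      rintro _ ⟨i, rfl⟩ _ ⟨j, rfl⟩
      exact hc i j
    intro u hu v hv
    have h1 : IsMulCommutative E := Subgroup.isMulCommutative_closure hcomm
    exact congrArg Subtype.val (h1.is_comm.comm (⟨u, hu⟩ : E) ⟨v, hv⟩)
  have hpow : ∀ u ∈ E, u ^ r = 1 := by
    intro u hu
    induction hu using Subgroup.closure_induction with
    | mem y hy =>
      obtain ⟨i, rfl⟩ := hy
      exact hx i
    | one => simp
    | mul y z hy hz h1 h2 =>
      have : Commute y z := hE y hy z hz
      rw [this.mul_pow, h1, h2, one_mul]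
    | inv y hy h1 => rw [inv_pow, h1, inv_one]
  have hfinr : (Set.range x).Finite := by
    apply ((Set.finite_range (fun k : Fin d => x k)).union (Set.finite_singleton (1 : T))).subset
    rintro _ ⟨i, rfl⟩
    by_cases hi : i < d
    · exact Or.inl ⟨⟨i, hi⟩, rfl⟩
    · exact Or.inr (hxd i (by omega))
  have hfin : Finite E := by
    have h2 : Group.FG E := by
      rw [Group.fg_iff_subgroup_fg]
      exact ⟨hfinr.toFinset, by rw [hEdef, Set.Finite.coe_toFinset]⟩
    let _ : CommGroup E := { (inferInstance : Group E) with mul_comm := fun u v => Subtype.ext (hE u u.2 v v.2) }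
    have h3 : IsMulTorsion E := by
      intro u
      rw [isOfFinOrder_iff_pow_eq_one]
      exact ⟨r, hr.pos, Subtype.ext (hpow u u.2)⟩
    exact CommGroup.finite_of_fg_isMulTorsion E h3
  have hpvE : ∀ (l : List ℕ) (i : ℕ), pv x i l ∈ E := by
    intro l
    induction l with
    | nil => intro i; exact E.one_mem
    | cons a l ih => intro i; exact E.mul_mem (E.pow_mem (hxE i) a) (ih _)
  have hpv1 : ∀ (l : List ℕ) (i : ℕ), d ≤ i → pv x i l = 1 := by
    intro l
    induction l with
    | nil => intro i _; rfl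
    | cons a l ih =>
      intro i hi
      change x i ^ a * pv x (i + 1) l = 1
      rw [hxd i hi, ih (i + 1) (by omega), one_pow, one_mul]
  -- the `s j` normalise `E`
  have hnorm : ∀ j < M, ∀ e ∈ E, s j * e * (s j)⁻¹ ∈ E := by
    intro j hj e he
    induction he using Subgroup.closure_induction with
    | mem y hy =>
      obtain ⟨i, rfl⟩ := hy
      by_cases hi : i < d
      · rw [hA j hj i hi]; exact hpvE _ _
      · rw [hxd i (by omega)]; simp
    | one => simp
    | mul y z hy hz h1 h2 =>
      have := E.mul_mem h1 h2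
      convert this using 1
      group
    | inv y hy h1 =>
      have := E.inv_mem h1
      convert this using 1
      group
  refine ⟨E, pv x 0 c₀, 1, hfin, hE, by simpa using hpow, hpvE _ _, h₀, ?_⟩
  rw [pow_one]
  intro f hf hf0
  have hf1 : f 1 = 0 := by
    have := hf 1 E.one_mem 1 E.one_mem
    rw [mul_one] at this
    exact left_eq_add.1 this
  have hfpow : ∀ e ∈ E, ∀ a : ℕ, f (e ^ a) = a * f e := by
    intro e he a
    induction a with
    | zero => rw [pow_zero, hf1]; simp
    | succ a ih =>
      rw [pow_succ, hf _ (E.pow_mem he a) _ he, ih]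
      push_cast
      ring
  have hrpos : NeZero r := ⟨hr.pos.ne'⟩
  let g : ℕ → ℕ := fun i => (f (x i)).val
  have hg : ∀ i, ((g i : ℕ) : ZMod r) = f (x i) := fun i => ZMod.natCast_zmod_val _
  have hglt : ∀ i, g i < r := fun i => ZMod.val_lt _
  have hdot : ∀ (l : List ℕ) (i n : ℕ), i + n = d → f (pv x i l) = (dot (vals g i n) l : ℕ) := by
    intro l
    induction l with
    | nil =>
      intro i n _
      change f 1 = _
      rw [hf1]
      cases n <;> simp [vals, dot]
    | cons a l ih =>
      intro i n hin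
      cases n with
      | zero =>
        rw [hpv1 _ i (by omega), hf1]
        simp [vals, dot]
      | succ n =>
        change f (x i ^ a * pv x (i + 1) l) = _
        rw [hf _ (E.pow_mem (hxE i) a) _ (hpvE _ _), hfpow _ (hxE i), ih (i + 1) n (by omega)]
        simp only [vals, dot]
        push_cast
        rw [hg]
        ring
  have h1 := List.all_eq_true.1 hd (vals g 0 d) (mem_vecs (length_vals g 0 d) (lt_of_mem_vals hglt 0 d))
  rw [Bool.or_eq_true] at h1
  have h2 : Nat.ble m (cnt ((List.range M).map fun j => enc r (vals g 0 d) (A j))) = true := by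
    refine h1.resolve_left ?_
    intro h3
    apply hf0
    rw [hdot c₀ 0 d (by omega)]
    have h4 := Nat.eq_of_beq_eq_true h3
    rw [ZMod.natCast_eq_zero_iff]
    exact Nat.dvd_of_mod_eq_zero h4
  have h3 : m ≤ ((List.range M).map fun j => enc r (vals g 0 d) (A j)).toFinset.card :=
    le_trans (Nat.le_of_ble_eq_true h2) (cnt_le _)
  obtain ⟨I, hI1, hI2⟩ := Finset.exists_subset_card_eq h3
  have h4 : ∀ y ∈ I, ∃ j, j < M ∧ enc r (vals g 0 d) (A j) = y := by
    intro y hy
    have := List.mem_toFinset.1 (hI1 hy)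
    obtain ⟨j, hj, hjy⟩ := List.mem_map.1 this
    exact ⟨j, List.mem_range.1 hj, hjy⟩
  choose! τ hτ1 hτ2 using h4
  -- different encodings give different functions
  have key : ∀ y ∈ I, ∀ z ∈ I, y ≠ z → ∃ i < d,
      f (s (τ y) * x i * (s (τ y))⁻¹) ≠ f (s (τ z) * x i * (s (τ z))⁻¹) := by
    intro y hy z hz hyz
    by_contra hcon
    push Not at hcon
    apply hyz
    rw [← hτ2 y hy, ← hτ2 z hz]
    apply enc_eq
    · rw [hAl _ (hτ1 y hy), hAl _ (hτ1 z hz)]
    · intro i hi
      rw [hAl _ (hτ1 y hy)] at hi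
      have h5 := hcon i hi
      rw [hA _ (hτ1 y hy) i hi, hA _ (hτ1 z hz) i hi, hdot _ 0 d (by omega), hdot _ 0 d (by omega),
        ZMod.natCast_eq_natCast_iff] at h5
      exact h5
  refine ⟨I.image (fun y => s (τ y)), ?_, ?_, ?_⟩
  · rw [Finset.card_image_of_injOn, hI2]
    intro y hy z hz hyz
    by_contra hne
    obtain ⟨i, -, h5⟩ := key y hy z hz hne
    apply h5
    simp only at hyz
    rw [hyz]
  · intro u hu e he
    obtain ⟨y, hy, rfl⟩ := Finset.mem_image.1 hu
    exact hnorm _ (hτ1 y hy) e he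
  · intro u hu v hv huv
    obtain ⟨y, hy, rfl⟩ := Finset.mem_image.1 hu
    obtain ⟨z, hz, rfl⟩ := Finset.mem_image.1 hv
    obtain ⟨i, -, h5⟩ := key y hy z hz (fun h => huv (by rw [h]))
    exact ⟨x i, hxE i, h5⟩

theorem map_pv {M : Type w} [Group M] (ι : M →* T) (x : ℕ → M) (l : List ℕ) (i : ℕ) :
    ι (pv x i l) = pv (fun j => ι (x j)) i l := by
  induction l generalizing i with
  | nil => exact map_one ι
  | cons a l ih =>
    change ι (x i ^ a * pv x (i + 1) l) = _
    rw [map_mul, map_pow, ih]
    rfl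

/-- The same for elements of a subgroup `K ≤ T` which are images of elements under `ι : M → T`. -/
theorem Orb.of_lin_map (hr : r.Prime) {L : Type w} [Group L] (ι : L →* T) (hι : Function.Injective ι) {K : Subgroup T}
    (d M m : ℕ) (x s : ℕ → L) (hxK : ∀ i, ι (x i) ∈ K) (hsK : ∀ j, ι (s j) ∈ K) (hx : ∀ i, x i ^ r = 1)
    (hxd : ∀ i, d ≤ i → x i = 1) (hc : ∀ i j, x i * x j = x j * x i) (c₀ : List ℕ) (h₀ : pv x 0 c₀ ≠ 1)
    (A : ℕ → List (List ℕ)) (hAl : ∀ j < M, (A j).length = d)
    (hA : ∀ j < M, ∀ i < d, s j * x i * (s j)⁻¹ = pv x 0 ((A j).getD i []))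
    (hd : (vecs r d).all (fun χ => Nat.beq (dot χ c₀ % r) 0 ||
      Nat.ble m (cnt ((List.range M).map fun j => enc r χ (A j)))) = true) : Orb r m K := by
  have hKinj : Function.Injective K.subtype := K.subtype_injective
  set x' : ℕ → K := fun i => ⟨ι (x i), hxK i⟩ with hx'
  set s' : ℕ → K := fun j => ⟨ι (s j), hsK j⟩ with hs'
  have e1 : ∀ i, K.subtype (x' i) = ι (x i) := fun i => rfl
  have e2 : ∀ i, K.subtype (s' i) = ι (s i) := fun i => rfl
  have e3 : ∀ (l : List ℕ) (i : ℕ), K.subtype (pv x' i l) = ι (pv x i l) := by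
    intro l i
    rw [map_pv, map_pv]
    rfl
  refine Orb.of_lin (T := K) hr d M m x' s' ?_ ?_ ?_ c₀ ?_ A hAl ?_ hd
  · intro i
    apply hKinj
    rw [map_pow, e1, ← map_pow, hx, map_one, map_one]
  · intro i hi
    apply hKinj
    rw [e1, hxd i hi, map_one, map_one]
  · intro i j
    apply hKinj
    rw [map_mul, map_mul, e1, e1, ← map_mul, hc, map_mul]
  · intro h1
    apply h₀
    apply hι
    rw [map_one, ← e3, h1, map_one]
  · intro j hj i hi
    apply hKinj
    rw [e3, map_mul, map_mul, map_inv, e1, e2, ← map_inv, ← map_mul, ← map_mul, hA j hj i hi]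

end Cfsg.Agent.H921.Spor
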