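import Cfsg.Agent.H921.SporON

/-!
# The O'Nan group: `11`-subgroups (needs much memory: keep it out of the closure of statements)
-/

set_option autoImplicit false
set_option maxRecDepth 100000
set_option maxHeartbeats 0

namespace Cfsg.Agent.H921.Spor.ON

open Cfsg.Spor (ON)
open Cfsg.Spor.ON (Gen)
open Cfsg.Agent.KFacts.MulSpor.ON (w w_append w_one w_cons w_iw iw okw rel eqw cj mats)

theorem ON_eleven (hs : IsSimpleGroup ON) : Orb 11 10 ON := by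
  have h : chkG0 eqb neb 11 1 10
      ([[5, 0, 0, 3, 4, 5, 6, 1, 5, 4, 0, 3, 0, 5, 6, 7, 5, 3, 6, 5, 3, 4, 5, 3, 4, 5, 6, 4, 5, 4, 3, 2,
      6, 5, 4, 0, 0, 2, 5, 4, 5, 4, 6, 5, 4, 3, 4, 5, 2, 4, 3, 5, 7, 4, 5, 4, 6, 5, 3, 4, 5, 3, 4, 5, 6,
      5, 4, 5, 6, 4, 5, 3, 4, 3, 2, 5, 4, 5, 6, 5, 4, 7]])
      ([[0, 3, 4, 5, 3, 1, 6, 7, 4, 5, 3, 4, 5, 6, 0, 5, 6, 5, 4, 2, 3, 4, 5, 4, 5, 6, 4, 5, 4, 3, 5]])
      ([[[2]]])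
      ([[], [0], [0, 0], [0, 0, 0], [0, 0, 0, 0], [0, 0, 0, 0, 0], [0, 0, 0, 0, 0, 0], [0, 0, 0, 0, 0, 0,
      0], [0, 0, 0, 0, 0, 0, 0, 0], [0, 0, 0, 0, 0, 0, 0, 0, 0]])
      [1] = true := by decide +kernel
  exact (wd hs).orb_gen (by norm_num) h

end Cfsg.Agent.H921.Spor.ON
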