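import Cfsg.Agent.H921.SporON

/-!
# The O'Nan group: `3`-subgroups (needs much memory: keep it out of the closure of statements)
-/

set_option autoImplicit false
set_option maxRecDepth 100000
set_option maxHeartbeats 0

namespace Cfsg.Agent.H921.Spor.ON

open Cfsg.Spor (ON)
open Cfsg.Spor.ON (Gen)
open Cfsg.Agent.KFacts.MulSpor.ON (w w_append w_one w_cons w_iw iw okw rel eqw cj mats)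

theorem ON_three (hs : IsSimpleGroup ON) : Orb 3 80 ON := by
  have h : chkG0 eqb neb 3 4 80
      ([[5, 6, 0, 3, 0, 4, 5, 0, 6, 3, 0, 6, 7, 5, 4, 6, 7, 6, 3, 4, 5, 4, 5, 6, 5, 4, 6, 5, 3, 4, 3], [3,
      4, 1, 6, 0, 5, 4, 3, 0, 6, 0, 5, 4, 3, 0, 6, 5, 6, 1, 5, 6, 4, 0, 6, 0, 5, 4, 0, 3, 4, 7, 6, 5, 4,
      3, 4, 5, 2, 4, 3, 5], [6, 5, 2, 3, 0, 6, 4, 5, 3, 4, 5, 1, 5, 4, 0, 3, 1, 4, 0, 6, 7, 5, 2, 1, 4,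
      6, 7, 3, 6, 4, 1, 6, 0, 5, 2, 4, 6, 5, 0, 7, 3, 1, 1, 3], [0, 4, 0, 6, 5, 2, 3, 4, 5, 6, 4, 1, 3,
      2, 4, 5, 6, 3, 5, 4, 5, 2, 3, 2, 4, 3, 0, 0, 5, 4, 6, 5, 4, 2, 6, 5, 4, 5, 2, 3, 2, 4, 6, 5, 6, 4,
      3, 2, 5, 6, 4, 2, 4, 3, 5]])
      ([[5, 3, 4, 5, 6, 2, 3, 4, 5, 1, 6, 4, 0, 7, 6, 5, 4, 5, 6, 4, 5, 4, 3], [5, 2, 3, 1, 6, 4, 1, 5, 6,
      4, 5, 3, 4, 0, 3, 0, 3, 6, 5, 4, 5, 6, 4, 5]])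
      ([[[1, 2, 2, 1], [0, 1, 2, 1], [2, 1, 2, 0], [2, 2, 1, 2]], [[0, 1, 1, 0], [2, 0, 1, 1], [0, 1, 2,
      2], [1, 0, 0, 2]]])
      ([[], [0], [1], [0, 0], [1, 0], [0, 1], [1, 1], [1, 0, 0], [0, 1, 0], [1, 1, 0], [0, 1, 1], [1, 1,
      0, 0], [0, 1, 1, 0], [0, 0, 1, 1], [1, 1, 0, 0, 0], [0, 1, 1, 0, 0], [0, 0, 1, 1, 0], [0, 1, 1, 0,
      1], [0, 0, 0, 1, 1], [1, 0, 0, 1, 1], [1, 1, 0, 0, 0, 0], [0, 0, 1, 1, 0, 0], [1, 0, 1, 1, 0, 0],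
      [1, 1, 1, 1, 0, 0], [0, 0, 0, 1, 1, 0], [1, 1, 1, 1, 0, 1, 0], [0, 0, 0, 1, 1, 0, 1], [0, 0, 1, 0,
      0, 1, 1], [1, 1, 1, 1, 0, 1, 0, 0], [1, 1, 0, 1, 0, 0, 1, 0], [0, 1, 1, 0, 0, 1, 1, 0], [1, 1, 1,
      0, 1, 0, 0, 1], [1, 0, 0, 1, 1, 0, 0, 1, 1], [1, 1, 1, 0, 0, 1, 1, 0, 0, 1], [1, 0, 0, 1, 1, 0, 0,
      1, 1, 1], [0, 0, 1], [1, 0, 1], [0, 1, 0, 1], [1, 1, 1, 0, 0], [1, 0, 1, 0, 1], [1, 0, 1, 0, 1, 0],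
      [1, 0, 0, 1, 1, 0], [1, 0, 1, 1, 0, 0, 0], [1, 1, 0, 0, 1, 0, 0], [0, 1, 1, 0, 0, 1, 0], [1, 0, 0,
      1, 1, 0, 1], [1, 1, 0, 0, 1, 1, 0, 0], [1, 0, 1, 0, 0, 1, 1, 1], [1, 0, 0, 1, 1, 0, 0, 1, 0], [0,
      1, 1, 0, 1, 0, 1, 1, 0], [0, 1, 0, 0, 1, 1, 0, 0, 1], [1, 1, 0, 0, 1, 1, 0, 0, 1], [1, 1, 1, 0, 0,
      1, 1, 0, 0, 1, 0, 0], [1, 0, 1, 0], [1, 1, 0, 1, 0, 0], [0, 1, 1, 0, 0, 1], [1, 1, 1, 0, 1, 1], [1,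
      0, 0, 1, 1, 0, 0], [1, 1, 1, 1, 0, 0, 1, 0], [1, 0, 0, 1, 1, 0, 0, 1], [0, 1, 0, 1, 0, 0, 1, 1],
      [1, 0, 1, 1, 0, 1, 0, 0, 0], [0, 1, 1, 0, 0, 1, 1, 1, 1], [1, 0, 1, 0, 0, 1], [1, 0, 0, 1, 1, 1],
      [0, 1, 0, 1, 1, 1], [1, 1, 1, 0, 0, 1, 0], [0, 0, 1, 1, 0, 0, 1], [1, 1, 1, 1, 0, 0, 1], [1, 0, 0,
      1, 1, 1, 1], [0, 1, 0, 1, 1, 1, 1], [1, 0, 1, 1, 0, 0, 1, 1, 0], [0, 0, 1, 0, 0, 1, 1, 0, 1], [1,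
      1, 0, 1, 0, 0, 1, 1, 1], [1, 0, 1, 1], [0, 0, 1, 1, 1], [0, 0, 1, 1, 1, 1], [0, 1, 0, 1, 0, 0, 0],
      [1, 1, 0, 1, 1, 0, 0], [0, 1, 1, 0, 1, 1, 0], [1, 1, 0, 1, 0, 0, 1], [1, 0, 1, 1, 0, 0, 1], [1, 0,
      1, 0, 1, 1, 0, 0], [0, 1, 0, 1, 1, 0, 1, 0, 0], [1, 1, 1, 1, 0, 1, 0, 0, 1], [0, 0, 0, 1, 1, 0, 1,
      0, 0, 0], [1, 0, 0, 1], [0, 0, 1, 1, 0, 1], [0, 1, 1, 0, 1, 1], [0, 1, 0, 0, 0, 0, 0], [0, 0, 1, 1,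
      0, 0, 1, 1], [1, 0, 1, 1, 0, 0, 1, 0, 0], [1, 1, 1, 1, 0, 0, 1, 1, 0], [1, 1, 0, 1, 0, 1, 1, 0, 1,
      0], [1, 0, 1, 1, 0], [1, 0, 1, 0, 0, 1, 0], [1, 0, 1, 1, 0, 1, 0, 0], [1, 1, 0, 1, 0, 0, 1, 0, 0],
      [1, 1, 1, 0, 1, 0, 1, 1, 1], [1, 1, 0, 1, 1, 1], [1, 0, 1, 0, 1, 1, 1], [1, 1, 0, 0, 0, 0, 0, 0],
      [0, 0, 1, 1, 0, 0, 0, 0], [1, 1, 0, 1, 0, 0, 1, 1], [0, 1, 0, 1, 0, 0, 1, 0, 0, 0], [0, 0, 0, 1, 1,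
      0, 1, 0, 0, 1], [0, 0, 0, 1, 0, 0, 1, 1, 0, 0, 1], [0, 1, 0, 1, 0, 1], [0, 1, 0, 0, 1, 1, 1]])
      [0, 0, 0, 1] = true := by decide +kernel
  exact (wd hs).orb_gen (by norm_num) h

end Cfsg.Agent.H921.Spor.ON
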