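import Cfsg.Agent.H921.SporON

/-!
# The O'Nan group: `7`-subgroups (needs much memory: keep it out of the closure of statements)
-/

set_option autoImplicit false
set_option maxRecDepth 100000
set_option maxHeartbeats 0

namespace Cfsg.Agent.H921.Spor.ON

open Cfsg.Spor (ON)
open Cfsg.Spor.ON (Gen)
open Cfsg.Agent.KFacts.MulSpor.ON (w w_append w_one w_cons w_iw iw okw rel eqw cj mats)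

theorem ON_seven (hs : IsSimpleGroup ON) : Orb 7 48 ON := by
  have h : chkG0 eqb neb 7 2 48
      ([[7, 6, 5, 1, 4, 0, 3, 0, 4, 5, 6, 4, 3, 0, 2, 3, 4, 3, 5, 4, 2, 6, 5, 3, 4, 5, 4, 3], [3, 0, 5, 6,
      4, 5, 3, 4, 5, 6, 5, 0, 2, 4, 5, 2, 4, 3, 5, 4, 7, 5, 6, 2, 4, 5, 3, 2, 4, 5, 6, 5, 7]])
      ([[7, 5, 6, 5, 0, 3, 0, 4, 5, 6, 3, 0, 6, 5, 4, 5, 4, 7], [7, 5, 6, 4, 2, 3, 0, 6, 7, 5, 4, 5, 3, 6,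
      4, 6, 5, 4, 5, 6, 5, 3, 4, 2, 5, 4, 3]])
      ([[[6, 2], [4, 5]], [[0, 2], [3, 1]]])
      ([[], [0], [1], [1, 0], [0, 1], [1, 0, 0], [0, 1, 0], [1, 1, 0], [0, 0, 1], [0, 1, 1], [0, 1, 1, 0],
      [0, 0, 1, 0, 0], [0, 1, 1, 0, 0], [1, 0, 0, 1, 0], [0, 0, 1, 1, 0], [0, 1, 0, 0, 1], [1, 1, 0, 0,
      1], [1, 0, 0, 1, 1], [0, 0, 1, 1, 0, 0], [1, 0, 1, 0, 1, 0, 1], [0, 0, 0, 1, 0, 0, 1, 1], [1, 0, 1,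
      1, 0, 0, 1, 0, 0], [0, 0, 1, 0, 0, 1, 1, 0, 1], [1, 0, 1, 0, 1, 0], [0, 1, 1, 0, 0, 1], [0, 1, 0,
      1, 0, 1], [0, 0, 1, 1, 0, 1], [0, 1, 1, 0, 0, 1, 0], [0, 1, 0, 0, 1, 1, 0], [1, 1, 1, 0, 0, 1, 0,
      0], [0, 1, 0, 1, 0, 1, 0, 0], [1, 1, 1, 1, 0, 0, 1, 0, 0], [0, 0, 0, 1, 0, 0, 1, 1, 0], [0, 1, 1,
      0, 1, 0, 1, 0, 1], [1, 0, 0, 1, 1, 0, 1, 0, 0, 1, 0], [0, 0, 0, 1, 1], [1, 1, 0, 1, 0, 0], [1, 1,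
      0, 1, 0, 1], [1, 0, 0, 1, 0, 1, 1], [1, 0, 0, 1, 1, 0, 1, 1], [0, 1, 0, 0, 1, 1, 0, 1, 1], [1, 1,
      1, 0, 1, 0, 1, 0, 1, 0], [1, 1, 0, 1], [0, 0, 0, 1, 0], [0, 1, 0, 1, 1, 0], [1, 0, 1, 0, 1, 1], [1,
      1, 1, 1, 1, 0, 1, 0], [1, 1, 0, 1, 1, 0, 0, 1], [1, 0, 1, 0, 1, 0, 1, 0, 0, 0], [1, 1, 0, 1, 1],
      [0, 1, 0, 1, 1, 0, 1], [1, 0, 1, 1, 0, 1, 1], [1, 0, 1, 1, 0, 0, 1, 0], [1, 1, 1, 1, 1, 0, 0, 1],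
      [0, 1, 0, 1, 0, 1, 0, 1], [1, 1, 1, 1, 0, 1, 0, 0, 1], [1, 0, 1, 0, 1, 1, 0, 0, 1], [1, 1, 1, 0, 1,
      0, 1, 0, 1], [0, 1, 0, 1, 1, 0, 1, 0], [1, 1, 0, 0, 1, 0, 0, 1], [0, 0, 0, 1, 1, 0, 1, 1], [0, 1,
      1, 0, 0, 1, 0, 0, 0], [1, 1, 1, 1, 1, 0, 0, 1, 0, 0], [1, 0, 0, 1], [1, 0, 1, 1], [0, 1, 0, 0, 1,
      0]])
      [0, 1] = true := by decide +kernel
  exact (wd hs).orb_gen (by norm_num) h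

end Cfsg.Agent.H921.Spor.ON
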