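import Cfsg.Agent.H921.SporBase
import Cfsg.Agent.H921.SporOrb

/-!
# Pairs of primes
-/

set_option autoImplicit false

universe u v w

namespace Cfsg.Agent.H921.Spor

/-- Two distinct primes outside `bad` with orbits of length at least `m`. -/
def Pr2 (m : ℕ) (bad : List ℕ) (T : Type v) [Group T] : Prop :=
  ∃ r s : ℕ, r.Prime ∧ s.Prime ∧ r ≠ s ∧ r ∉ bad ∧ s ∉ bad ∧ Orb r m T ∧ Orb s m T

theorem Pr2.mk' {m : ℕ} {bad : List ℕ} {T : Type v} [Group T] (r s : ℕ) {a b : ℕ} (hr : Orb r a T) (hs : Orb s b T)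
    (hrp : r.Prime) (hsp : s.Prime) (h : r ≠ s ∧ r ∉ bad ∧ s ∉ bad ∧ m ≤ a ∧ m ≤ b) : Pr2 m bad T :=
  ⟨r, s, hrp, hsp, h.1, h.2.1, h.2.2.1, hr.mono h.2.2.2.1, hs.mono h.2.2.2.2⟩

theorem Pr2.of_equiv {m : ℕ} {bad : List ℕ} {T : Type v} [Group T] {T' : Type w} [Group T'] (e : T ≃* T')
    (h : Pr2 m bad T') : Pr2 m bad T := by
  obtain ⟨r, s, h1, h2, h3, h4, h5, h6, h7⟩ := h
  exact ⟨r, s, h1, h2, h3, h4, h5, h6.of_equiv' e, h7.of_equiv' e⟩

/-- The same for a subgroup (helps the unifier). -/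
theorem Pr2.of_sub_equiv {G : Type u} [Group G] {K : Subgroup G} {T : Type v} [Group T] {m : ℕ} {bad : List ℕ}
    (e : T ≃* ↥K) (h : Pr2 m bad ↥K) : Pr2 m bad T := h.of_equiv e

/-- One of the two primes is not the characteristic. -/
theorem Pr2.exists_bd {m : ℕ} {bad : List ℕ} {T : Type v} [Group T] (h : Pr2 m bad T) (F : Type u) [Field F] :
    ∃ r : ℕ, r.Prime ∧ r ∉ bad ∧ (r : F) ≠ 0 ∧ Cfsg.Agent.H912.Bd.Bd F r m T := by
  obtain ⟨r, s, h1, h2, h3, h4, h5, h6, h7⟩ := h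
  by_cases hr : (r : F) = 0
  · have hs : (s : F) ≠ 0 := by
      intro hs
      have hc := (Nat.coprime_primes h1 h2).2 h3
      have h8 := congrArg (Int.cast (R := F)) (Nat.gcd_eq_gcd_ab r s)
      rw [Nat.coprime_iff_gcd_eq_one.1 hc] at h8
      push_cast at h8
      rw [hr, hs, zero_mul, zero_mul, add_zero] at h8
      exact one_ne_zero h8
    exact ⟨s, h2, h5, hs, h7.bd h2 hs⟩
  · exact ⟨r, h1, h4, hr, h6.bd h1 hr⟩

/-- Contradiction from a projective representation of small degree whose kernel has order dividing a power of `n`. -/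
theorem Pr2.lt {m : ℕ} {bad : List ℕ} {T : Type v} [Group T] (h : Pr2 m bad T) {F : Type u} [Field F] {n : ℕ}
    (hn : ∀ r : ℕ, r.Prime → r ∉ bad → Cfsg.Agent.H912.Bd.PR F n r T) : m ≤ n := by
  obtain ⟨r, hr, hb, _, hbd⟩ := h.exists_bd F
  exact hbd n (hn r hr hb)

end Cfsg.Agent.H921.Spor
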