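import Cfsg.Agent.H921.UnitBase

/-!
The extraspecial group `3^{1+2}` of monomial matrices over the field with four elements and the unitary
similarities of `F³` (H921).
-/

set_option autoImplicit false
set_option linter.unusedSectionVars false

namespace Cfsg.Agent.H921.Three

open Cfsg Cfsg.Geo
open scoped MatrixGroups Matrix
open Cfsg.Agent.LieClassical.HermBasic

variable {F : Type*} [Field F]

/-- The monomial matrix with shift `b` and entries `d`. -/
def mono (b : Fin 3) (d : Fin 3 → F) : Matrix (Fin 3) (Fin 3) F :=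
  Matrix.of fun i j => if j = i + b then d i else 0

theorem mono_apply (b : Fin 3) (d : Fin 3 → F) (i j : Fin 3) :
    mono b d i j = if j = i + b then d i else 0 := rfl

theorem mono_mul (b b' : Fin 3) (d d' : Fin 3 → F) :
    mono b d * mono b' d' = mono (b + b') (fun i => d i * d' (i + b)) := by
  ext i j
  rw [Matrix.mul_apply, Finset.sum_eq_single (i + b)]
  · rw [mono_apply, mono_apply, mono_apply, if_pos rfl]
    by_cases h : j = i + b + b'
    · rw [if_pos h, if_pos (by rw [h, add_assoc])]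
    · rw [if_neg h, if_neg (by rw [← add_assoc]; exact h), mul_zero]
  · intro k _ hk
    rw [mono_apply, if_neg hk, zero_mul]
  · intro h
    exact absurd (Finset.mem_univ _) h

theorem mono_one : mono (F := F) 0 (fun _ => 1) = 1 := by
  ext i j
  rw [mono_apply, Matrix.one_apply, add_zero]
  by_cases h : i = j
  · rw [if_pos h, if_pos h.symm]
  · rw [if_neg h, if_neg (fun h' => h h'.symm)]

theorem mono_mulVec (b : Fin 3) (d v : Fin 3 → F) (i : Fin 3) : (mono b d *ᵥ v) i = d i * v (i + b) := by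
  rw [Matrix.mulVec, dotProduct, Finset.sum_eq_single (i + b)]
  · rw [mono_apply, if_pos rfl]
  · intro k _ hk
    rw [mono_apply, if_neg hk, zero_mul]
  · intro h
    exact absurd (Finset.mem_univ _) h

theorem det_mono (b : Fin 3) (d : Fin 3 → F) : (mono b d).det = ∏ i, d i := by
  fin_cases b <;> simp [Matrix.det_fin_three, Fin.prod_univ_three, mono_apply]

theorem prod_shift (b : Fin 3) (d : Fin 3 → F) : ∏ i, d (i + b) = ∏ i, d i :=
  Equiv.prod_comp (Equiv.addRight b) d

theorem mono_inv_mul (b : Fin 3) {d : Fin 3 → F} (hd : ∀ i, d i ≠ 0) :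
    mono (-b) (fun i => (d (i - b))⁻¹) * mono b d = 1 := by
  rw [mono_mul, ← mono_one]
  congr 1
  · abel
  · funext i
    rw [← sub_eq_add_neg, inv_mul_cancel₀ (hd _)]

theorem mono_mul_inv (b : Fin 3) {d : Fin 3 → F} (hd : ∀ i, d i ≠ 0) :
    mono b d * mono (-b) (fun i => (d (i - b))⁻¹) = 1 := by
  rw [mono_mul, ← mono_one]
  congr 1
  · abel
  · funext i
    rw [add_sub_cancel_right, mul_inv_cancel₀ (hd _)]

theorem ne_zero_of_prod {d : Fin 3 → F} (h : ∏ i, d i = 1) (i : Fin 3) : d i ≠ 0 := by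
  intro h0
  rw [Finset.prod_eq_zero (Finset.mem_univ i) h0] at h
  exact zero_ne_one h

/-- The monomial matrix as an element of `GL`. -/
def monoGL (b : Fin 3) (d : Fin 3 → F) (hd : ∀ i, d i ≠ 0) : GL (Fin 3) F where
  val := mono b d
  inv := mono (-b) (fun i => (d (i - b))⁻¹)
  val_inv := mono_mul_inv b hd
  inv_val := mono_inv_mul b hd

/-- The group `3^{1+2}` (for `|F| = 4`): cyclic monomial matrices with product of entries one. -/
def R1 (F : Type*) [Field F] : Subgroup (GL (Fin 3) F) where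
  carrier := {g | ∃ (b : Fin 3) (d : Fin 3 → F), ∏ i, d i = 1 ∧ (g : Matrix (Fin 3) (Fin 3) F) = mono b d}
  mul_mem' {g h} hg hh := by
    obtain ⟨b, d, hd, hg⟩ := hg
    obtain ⟨b', d', hd', hh⟩ := hh
    refine ⟨b + b', fun i => d i * d' (i + b), ?_, ?_⟩
    · rw [Finset.prod_mul_distrib, prod_shift, hd, hd', one_mul]
    · rw [Units.val_mul, hg, hh, mono_mul]
  one_mem' := ⟨0, fun _ => 1, by simp, by rw [mono_one]; rfl⟩
  inv_mem' {g} hg := by
    obtain ⟨b, d, hd, hg⟩ := hg
    refine ⟨-b, fun i => (d (i - b))⁻¹, ?_, ?_⟩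
    · rw [Finset.prod_inv_distrib]
      have := prod_shift (-b) d
      simp only [← sub_eq_add_neg] at this
      rw [this, hd, inv_one]
    · have h1 := mono_mul_inv b (ne_zero_of_prod hd)
      rw [← hg] at h1
      calc ((g⁻¹ : GL (Fin 3) F) : Matrix (Fin 3) (Fin 3) F)
          = ((g⁻¹ : GL (Fin 3) F) : Matrix (Fin 3) (Fin 3) F) *
            ((g : Matrix (Fin 3) (Fin 3) F) * mono (-b) (fun i => (d (i - b))⁻¹)) := by rw [h1, mul_one]
        _ = _ := by rw [← mul_assoc, ← Units.val_mul, inv_mul_cancel, Units.val_one, one_mul]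

theorem mem_R1 {g : GL (Fin 3) F} :
    g ∈ R1 F ↔ ∃ (b : Fin 3) (d : Fin 3 → F), ∏ i, d i = 1 ∧ (g : Matrix (Fin 3) (Fin 3) F) = mono b d := Iff.rfl

section Four

variable [Fintype F] (h4 : Fintype.card F = 4)
include h4

theorem pow_four (x : F) : x ^ 4 = x := by
  rw [← h4]; exact FiniteField.pow_card x

theorem pow_three {x : F} (hx : x ≠ 0) : x ^ 3 = 1 := by
  apply mul_right_cancel₀ hx
  rw [one_mul, ← pow_succ]
  exact pow_four h4 x

theorem two_eq_zero : (2 : F) = 0 := by
  have h : ((4 : ℕ) : F) = 0 := by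
    rw [← h4]; exact FiniteField.cast_card_eq_zero F
  have h2 : (2 : F) * 2 = 0 := by
    have : (2 : F) * 2 = ((4 : ℕ) : F) := by norm_num
    rw [this, h]
  rcases mul_eq_zero.1 h2 with h | h <;> exact h

theorem exists_omega : ∃ w : F, w ^ 2 + w + 1 = 0 := by
  classical
  obtain ⟨w, hw⟩ : ∃ w : F, w ≠ 0 ∧ w ≠ 1 := by
    by_contra hcon
    push Not at hcon
    have : Fintype.card F ≤ 2 := by
      rw [← Finset.card_univ]
      refine (Finset.card_le_card (t := ({0, 1} : Finset F)) ?_).trans Finset.card_le_two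
      intro x _
      by_cases hx : x = 0
      · simp [hx]
      · simp [hcon x hx]
    omega
  refine ⟨w, ?_⟩
  have h3 := pow_three h4 hw.1
  have h5 : (w - 1) * (w ^ 2 + w + 1) = 0 := by
    linear_combination h3
  exact (mul_eq_zero.1 h5).resolve_left (sub_ne_zero.2 hw.2)

/-- Three elements with product one are in geometric progression. -/
theorem ratio {d : Fin 3 → F} (hd : ∏ i, d i = 1) :
    ∃ r : F, r ^ 3 = 1 ∧ ∀ i, d (i + 1) = r * d i := by
  have h0 := ne_zero_of_prod hd
  have hp : d 0 * d 1 * d 2 = 1 := by rw [← hd, Fin.prod_univ_three]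
  have h03 := pow_three h4 (h0 0)
  have h13 := pow_three h4 (h0 1)
  have h23 := pow_three h4 (h0 2)
  refine ⟨d 1 * (d 0) ^ 2, ?_, ?_⟩
  · rw [mul_pow, ← pow_mul, pow_mul', h13, h03]; ring
  · intro i
    fin_cases i
    · simp only [Fin.zero_eta, Fin.isValue, zero_add]
      linear_combination -(d 1) * h03
    · simp only [Fin.mk_one, Fin.isValue]
      change d 2 = _
      apply mul_left_cancel₀ (mul_ne_zero (h0 0) (h0 1))
      linear_combination hp - d 0 ^ 3 * h13 - h03
    · change d 0 = d 1 * d 0 ^ 2 * d 2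
      linear_combination -(d 0) * hp

/-- The sum of three elements with product one vanishes unless they are equal. -/
theorem sum_eq_zero_or {d : Fin 3 → F} (hd : ∏ i, d i = 1) :
    (∀ i, d i = d 0) ∨ ∑ i, d i = 0 := by
  obtain ⟨r, hr3, hr⟩ := ratio h4 hd
  have e1 : d 1 = r * d 0 := hr 0
  have e2 : d 2 = r * d 1 := hr 1
  by_cases hr1 : r = 1
  · left
    intro i
    fin_cases i
    · rfl
    · change d 1 = d 0
      rw [e1, hr1, one_mul]
    · change d 2 = d 0
      rw [e2, e1, hr1, one_mul, one_mul]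
  · right
    rw [Fin.sum_univ_three, e2, e1]
    have h5 : (r - 1) * (r ^ 2 + r + 1) = 0 := by linear_combination hr3
    have h6 := (mul_eq_zero.1 h5).resolve_left (sub_ne_zero.2 hr1)
    linear_combination d 0 * h6

/-- The Hermitian form with exponent two on `F³`. -/
theorem herm_mono {b : Fin 3} {d : Fin 3 → F} (hd : ∀ i, d i ≠ 0) (u v : Fin 3 → F) :
    hermForm 3 F 2 (mono b d *ᵥ u) (mono b d *ᵥ v) = hermForm 3 F 2 u v := by
  rw [herm_def, herm_def]
  simp only [mono_mulVec]
  have h1 : ∀ i, d i * u (i + b) * (d i * v (i + b)) ^ 2 = u (i + b) * v (i + b) ^ 2 := by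
    intro i
    have := pow_three h4 (hd i)
    linear_combination u (i + b) * v (i + b) ^ 2 * this
  rw [Finset.sum_congr rfl fun i _ => h1 i]
  exact Equiv.sum_comp (Equiv.addRight b) (fun i => u i * v i ^ 2)

theorem weight_one {v : Fin 3 → F} (hv : hermForm 3 F 2 v v ≠ 0) {j : Fin 3} (hj : v j = 0) :
    ∃ k, ∀ i, i ≠ k → v i = 0 := by
  classical
  have h2 := two_eq_zero h4
  rw [herm_def] at hv
  have hs : ∀ i, v i * v i ^ 2 = if v i = 0 then 0 else 1 := by
    intro i
    by_cases h : v i = 0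
    · simp [h]
    · rw [if_neg h, ← pow_succ']
      exact pow_three h4 h
  simp only [hs, Fin.sum_univ_three] at hv
  by_contra hcon
  push Not at hcon
  obtain ⟨k, hk, hvk⟩ := hcon j
  obtain ⟨l, hl, hvl⟩ := hcon k
  have hlj : l ≠ j := by rintro rfl; exact hvl hj
  have h11 : (1 : F) + 1 = 0 := by rw [one_add_one_eq_two]; exact h2
  apply hv
  fin_cases j <;> fin_cases k <;> fin_cases l <;> simp_all

/-- Key property: an element of `R1` multiplies a non-isotropic vector, or moves it to an orthogonal one. -/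
theorem mul_or_orth {b : Fin 3} {d : Fin 3 → F} (hd : ∏ i, d i = 1) {v : Fin 3 → F}
    (hv : hermForm 3 F 2 v v ≠ 0) :
    (∃ a : F, mono b d *ᵥ v = a • v) ∨ hermForm 3 F 2 (mono b d *ᵥ v) v = 0 := by
  classical
  have h2 := two_eq_zero h4
  have hd0 := ne_zero_of_prod hd
  rw [herm_def] at hv
  by_cases hall : ∀ i, v i ≠ 0
  · -- weight three
    have hv3 : ∀ i, v i ^ 3 = 1 := fun i => pow_three h4 (hall i)
    have hprod : ∏ i, (d i * v (i + b) * v i ^ 2) = 1 := by
      rw [Finset.prod_mul_distrib, Finset.prod_mul_distrib, prod_shift b v, hd, one_mul, ← Finset.prod_mul_distrib]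
      apply Finset.prod_eq_one
      intro i _
      rw [← pow_succ']
      exact hv3 i
    rcases sum_eq_zero_or h4 hprod with h | h
    · left
      refine ⟨d 0 * v (0 + b) * v 0 ^ 2, ?_⟩
      funext i
      rw [mono_mulVec, Pi.smul_apply, smul_eq_mul, ← h i]
      linear_combination -(d i * v (i + b)) * hv3 i
    · right
      rw [herm_def]
      simp only [mono_mulVec]
      exact h
  · -- weight one
    push Not at hall
    have hw : ∃ k, ∀ i, i ≠ k → v i = 0 := by
      obtain ⟨j, hj⟩ := hall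
      exact weight_one h4 (by rw [herm_def]; exact hv) hj
    obtain ⟨k, hk⟩ := hw
    by_cases hb : b = 0
    · left
      subst hb
      refine ⟨d k, ?_⟩
      funext i
      rw [mono_mulVec, Pi.smul_apply, smul_eq_mul, add_zero]
      by_cases hik : i = k
      · rw [hik]
      · rw [hk i hik, mul_zero, mul_zero]
    · right
      rw [herm_def]
      simp only [mono_mulVec]
      apply Finset.sum_eq_zero
      intro i _
      by_cases hik : i = k
      · have : i + b ≠ k := by
          rw [hik]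
          intro h
          exact hb (by simpa using h)
        rw [hk _ this]; ring
      · rw [hk i hik]; ring

/-- The similarities of the standard form. -/
def IsSim (g : GL (Fin 3) F) : Prop :=
  ∃ c : F, c ≠ 0 ∧ ∀ u v, hermForm 3 F 2 ((g : Matrix (Fin 3) (Fin 3) F) *ᵥ u)
    ((g : Matrix (Fin 3) (Fin 3) F) *ᵥ v) = c * hermForm 3 F 2 u v

omit [Fintype F] h4 in
theorem cyclic_of_cube : ∀ π : Fin 3 → Fin 3, (∀ j, π (π (π j)) = j) → ∃ s, ∀ j, π j = j + s := by
  decide

omit [Fintype F] h4 in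
theorem herm_single (w : Fin 3 → F) (j : Fin 3) : hermForm 3 F 2 w (Pi.single j 1) = w j := by
  rw [herm_def, Finset.sum_eq_single j]
  · rw [Pi.single_eq_same]; ring
  · intro i _ hi
    rw [Pi.single_eq_of_ne hi]; ring
  · intro h
    exact absurd (Finset.mem_univ _) h

theorem cube_R1 {g : GL (Fin 3) F} (hg : g ∈ R1 F) : g ^ 3 = 1 := by
  obtain ⟨b, d, hd, hg⟩ := hg
  apply Units.ext
  rw [Units.val_pow_eq_pow_val, Units.val_one, hg, pow_succ, pow_two, mono_mul, mono_mul, ← mono_one]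
  have hd0 := ne_zero_of_prod hd
  have h3 : ∀ i, d i ^ 3 = 1 := fun i => pow_three h4 (hd0 i)
  rw [Fin.prod_univ_three] at hd
  congr 1
  · fin_cases b <;> rfl
  · funext i
    have e1 : (1 : Fin 3) + 1 = 2 := rfl
    have e2 : (1 : Fin 3) + 2 = 0 := rfl
    have e3 : (2 : Fin 3) + 1 = 0 := rfl
    have e4 : (2 : Fin 3) + 2 = 1 := rfl
    have e5 : (0 : Fin 3) + 1 = 1 := rfl
    have e6 : (0 : Fin 3) + 2 = 2 := rfl
    fin_cases b <;> fin_cases i <;>
      simp only [Fin.zero_eta, Fin.mk_one, Fin.reduceFinMk, Fin.isValue, add_zero, e1, e2, e3, e4, e5, e6]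
    · linear_combination h3 0
    · linear_combination h3 1
    · linear_combination h3 2
    all_goals linear_combination hd

/-- The unitary similarities normalise `R1`. -/
theorem conj_mem {g : GL (Fin 3) F} (hg : IsSim g) {r : GL (Fin 3) F} (hr : r ∈ R1 F) : g * r * g⁻¹ ∈ R1 F := by
  classical
  obtain ⟨c, hc, hg⟩ := hg
  have hr3 := cube_R1 h4 hr
  obtain ⟨b, d, hd, hrd⟩ := hr
  have hd0 := ne_zero_of_prod hd
  have hinv : ∀ v : Fin 3 → F, (g : Matrix (Fin 3) (Fin 3) F) *ᵥ (((g⁻¹ : GL (Fin 3) F) : Matrix (Fin 3) (Fin 3) F) *ᵥ v) = v := by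
    intro v
    rw [Matrix.mulVec_mulVec, ← Units.val_mul, mul_inv_cancel, Units.val_one, Matrix.one_mulVec]
  have hr' : ∀ v : Fin 3 → F, ((g * r * g⁻¹ : GL (Fin 3) F) : Matrix (Fin 3) (Fin 3) F) *ᵥ v =
      (g : Matrix (Fin 3) (Fin 3) F) *ᵥ ((r : Matrix (Fin 3) (Fin 3) F) *ᵥ
        (((g⁻¹ : GL (Fin 3) F) : Matrix (Fin 3) (Fin 3) F) *ᵥ v)) := by
    intro v
    rw [Units.val_mul, Units.val_mul, Matrix.mulVec_mulVec, Matrix.mulVec_mulVec, mul_assoc]
  set r' : GL (Fin 3) F := g * r * g⁻¹ with hr'def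
  have hsingle : ∀ j : Fin 3, (Pi.single j (1 : F) : Fin 3 → F) ≠ 0 := by
    intro j h
    have := congrFun h j
    simp at this
  have hr'inj : ∀ v : Fin 3 → F, (r' : Matrix (Fin 3) (Fin 3) F) *ᵥ v = 0 → v = 0 := by
    intro v hv
    have : ((r'⁻¹ : GL (Fin 3) F) : Matrix (Fin 3) (Fin 3) F) *ᵥ ((r' : Matrix (Fin 3) (Fin 3) F) *ᵥ v) = 0 := by
      rw [hv, Matrix.mulVec_zero]
    rwa [Matrix.mulVec_mulVec, ← Units.val_mul, inv_mul_cancel, Units.val_one, Matrix.one_mulVec] at this
  have key : ∀ j : Fin 3, ∃ (k : Fin 3) (a : F), (r' : Matrix (Fin 3) (Fin 3) F) *ᵥ (Pi.single j 1) =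
      a • (Pi.single k (1 : F) : Fin 3 → F) := by
    intro j
    set v : Fin 3 → F := ((g⁻¹ : GL (Fin 3) F) : Matrix (Fin 3) (Fin 3) F) *ᵥ (Pi.single j 1) with hv
    have hgv : (g : Matrix (Fin 3) (Fin 3) F) *ᵥ v = Pi.single j 1 := hinv _
    have hvv : c * hermForm 3 F 2 v v = 1 := by
      rw [← hg, hgv, herm_single, Pi.single_eq_same]
    have hvv0 : hermForm 3 F 2 v v ≠ 0 := by
      intro h0
      rw [h0, mul_zero] at hvv
      exact zero_ne_one hvv
    have hr'v : (r' : Matrix (Fin 3) (Fin 3) F) *ᵥ (Pi.single j 1) =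
        (g : Matrix (Fin 3) (Fin 3) F) *ᵥ (mono b d *ᵥ v) := by
      rw [hr' (Pi.single j 1), hrd]
    rcases mul_or_orth h4 hd hvv0 with ⟨a, ha⟩ | horth
    · exact ⟨j, a, by rw [hr'v, ha, Matrix.mulVec_smul, hgv]⟩
    · set w : Fin 3 → F := (r' : Matrix (Fin 3) (Fin 3) F) *ᵥ (Pi.single j 1) with hw
      have hwj : w j = 0 := by
        rw [← herm_single w j, hr'v]
        conv_lhs => rw [← hgv]
        rw [hg, horth, mul_zero]
      have hww : hermForm 3 F 2 w w ≠ 0 := by
        rw [hr'v, hg, herm_mono h4 hd0, hvv]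
        exact one_ne_zero
      obtain ⟨k, hk⟩ := weight_one h4 hww hwj
      refine ⟨k, w k, ?_⟩
      funext i
      by_cases hik : i = k
      · subst hik; simp
      · rw [hk i hik, Pi.smul_apply, Pi.single_eq_of_ne hik, smul_zero]
  choose π a hπ using key
  have ha0 : ∀ j, a j ≠ 0 := by
    intro j h0
    have := hπ j
    rw [h0, zero_smul] at this
    exact hsingle j (hr'inj _ this)
  have hr'3 : r' ^ 3 = 1 := by
    rw [hr'def, conj_pow, hr3, mul_one, mul_inv_cancel]
  have hπ3 : ∀ j, π (π (π j)) = j := by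
    intro j
    have h1 : ((r' ^ 3 : GL (Fin 3) F) : Matrix (Fin 3) (Fin 3) F) *ᵥ (Pi.single j (1 : F)) = Pi.single j 1 := by
      rw [hr'3, Units.val_one, Matrix.one_mulVec]
    rw [pow_succ, pow_two, Units.val_mul, Units.val_mul, ← Matrix.mulVec_mulVec, ← Matrix.mulVec_mulVec, hπ,
      Matrix.mulVec_smul, hπ, Matrix.mulVec_smul, Matrix.mulVec_smul, hπ] at h1
    by_contra hne
    have h2 := congrFun h1 j
    rw [Pi.smul_apply, Pi.smul_apply, Pi.smul_apply, Pi.single_eq_of_ne (Ne.symm hne), Pi.single_eq_same,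
      smul_zero, smul_zero, smul_zero] at h2
    exact zero_ne_one h2
  obtain ⟨s, hs⟩ := cyclic_of_cube π hπ3
  have hmono : (r' : Matrix (Fin 3) (Fin 3) F) = mono (-s) (fun i => a (i - s)) := by
    ext i j
    have h1 := congrFun (hπ j) i
    rw [Matrix.mulVec_single_one, Pi.smul_apply, hs, smul_eq_mul] at h1
    change (r' : Matrix (Fin 3) (Fin 3) F) i j = _ at h1
    rw [h1, mono_apply]
    by_cases hij : i = j + s
    · have : j = i + -s := by rw [hij]; abel
      rw [if_pos this, hij, Pi.single_eq_same, mul_one, add_sub_cancel_right]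
    · rw [Pi.single_eq_of_ne hij, mul_zero, if_neg]
      intro h
      apply hij
      rw [h]; abel
  refine ⟨-s, fun i => a (i - s), ?_, hmono⟩
  rw [← det_mono (-s) (fun i => a (i - s)), ← hmono, hr'def, Units.val_mul, Units.val_mul, Matrix.det_mul,
    Matrix.det_mul, hrd, det_mono, hd, mul_one, ← Matrix.det_mul, ← Units.val_mul, mul_inv_cancel, Units.val_one,
    Matrix.det_one]

theorem isSim_mono {b : Fin 3} {d : Fin 3 → F} (hd : ∀ i, d i ≠ 0) : IsSim (monoGL b d hd) :=
  ⟨1, one_ne_zero, fun u v => by rw [one_mul]; exact herm_mono h4 hd u v⟩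

/-- The reflection `1 + w² J`. -/
theorem exists_reflection {w : F} (hw : w ^ 2 + w + 1 = 0) :
    ∃ Q : GL (Fin 3) F, IsSim Q ∧ (∀ i j, (Q : Matrix (Fin 3) (Fin 3) F) i j ≠ 0) := by
  have h2 := two_eq_zero h4
  have hw0 : w ≠ 0 := by
    rintro rfl
    simp at hw
  have hw1 : w + 1 ≠ 0 := by
    intro h
    have : w ^ 2 = 0 := by linear_combination hw - h
    exact hw0 (pow_eq_zero_iff two_ne_zero |>.1 this)
  let M : Matrix (Fin 3) (Fin 3) F := Matrix.of fun i j => if i = j then w else w ^ 2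
  let M' : Matrix (Fin 3) (Fin 3) F := Matrix.of fun i j => if i = j then w ^ 2 else w
  have hMM : M * M' = 1 := by
    ext i j
    rw [Matrix.mul_apply, Fin.sum_univ_three]
    fin_cases i <;> fin_cases j <;> simp [M, M'] <;>
      first | linear_combination (w - 1) * hw + (w ^ 3) * h2 | linear_combination w ^ 2 * hw
  have hMM' : M' * M = 1 := _root_.mul_eq_one_comm.1 hMM
  refine ⟨⟨M, M', hMM, hMM'⟩, ⟨1, one_ne_zero, fun u v => ?_⟩, ?_⟩
  · change hermForm 3 F 2 (M *ᵥ u) (M *ᵥ v) = _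
    rw [herm_def, herm_def, one_mul, Fin.sum_univ_three, Fin.sum_univ_three]
    have e : ∀ u : Fin 3 → F, (M *ᵥ u) 0 = w * u 0 + w ^ 2 * u 1 + w ^ 2 * u 2 ∧
        (M *ᵥ u) 1 = w ^ 2 * u 0 + w * u 1 + w ^ 2 * u 2 ∧ (M *ᵥ u) 2 = w ^ 2 * u 0 + w ^ 2 * u 1 + w * u 2 := by
      intro u
      simp [M, Matrix.mulVec, dotProduct, Fin.sum_univ_three]
    obtain ⟨e0, e1, e2⟩ := e u
    obtain ⟨f0, f1, f2⟩ := e v
    rw [e0, e1, e2, f0, f1, f2]
    have hsq : ∀ a b c : F, (a + b + c) ^ 2 = a ^ 2 + b ^ 2 + c ^ 2 := by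
      intro a b c
      linear_combination (a * b + a * c + b * c) * h2
    rw [hsq, hsq, hsq]
    linear_combination (u 0 * v 0 ^ 2 + u 1 * v 1 ^ 2 + u 2 * v 2 ^ 2) * ((w - 1) * hw + w ^ 6 * h2) +
      (u 0 * v 1 ^ 2 + u 0 * v 2 ^ 2 + u 1 * v 0 ^ 2 + u 1 * v 2 ^ 2 + u 2 * v 0 ^ 2 + u 2 * v 1 ^ 2) * w ^ 4 * hw
  · intro i j
    change (if i = j then w else w ^ 2) ≠ 0
    split_ifs
    · exact hw0
    · exact pow_ne_zero _ hw0

theorem isSim_diag {w : F} (hw0 : w ≠ 0) :
    ∃ T : GL (Fin 3) F, IsSim T ∧ (T : Matrix (Fin 3) (Fin 3) F) = mono 0 ![1, 1, w] ∧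
      ((T⁻¹ : GL (Fin 3) F) : Matrix (Fin 3) (Fin 3) F) = mono 0 ![1, 1, w⁻¹] := by
  have hd : ∀ i, (![1, 1, w] : Fin 3 → F) i ≠ 0 := by
    intro i
    fin_cases i <;> simp [hw0]
  refine ⟨monoGL 0 ![1, 1, w] hd, isSim_mono h4 hd, rfl, ?_⟩
  change mono (-0) (fun i => (![1, 1, w] (i - 0))⁻¹) = _
  rw [neg_zero]
  congr 1
  funext i
  fin_cases i <;> simp

omit [Fintype F] h4 in
theorem mono_injective {b b' : Fin 3} {d d' : Fin 3 → F} (hd : ∀ i, d i ≠ 0) (h : mono b d = mono b' d') :
    b = b' ∧ d = d' := by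
  have hb : b = b' := by
    have h1 := congrFun (congrFun h 0) (0 + b)
    rw [mono_apply, if_pos rfl, mono_apply] at h1
    by_contra hne
    rw [if_neg (by rw [zero_add, zero_add]; exact hne)] at h1
    exact hd 0 h1
  refine ⟨hb, ?_⟩
  subst hb
  funext i
  have h1 := congrFun (congrFun h i) (i + b)
  rwa [mono_apply, if_pos rfl, mono_apply, if_pos rfl] at h1

omit [Fintype F] h4 in
theorem mono_scalar (c : F) : mono 0 (fun _ => c) = c • (1 : Matrix (Fin 3) (Fin 3) F) := by
  ext i j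
  rw [mono_apply, Matrix.smul_apply, Matrix.one_apply, add_zero, smul_eq_mul]
  by_cases h : j = i
  · rw [if_pos h, if_pos h.symm, mul_one]
  · rw [if_neg h, if_neg (fun h' => h h'.symm), mul_zero]

omit [Fintype F] h4 in
theorem fin3_a : ∀ b i : Fin 3, b ≠ 0 → i = 0 ∨ i = 0 + b ∨ i = 0 + b + b := by decide

omit [Fintype F] h4 in
theorem fin3_b : ∀ b : Fin 3, b ≠ 0 → b = 1 ∨ b = 2 := by decide

/-- A nonscalar element of `R1` does not commute with some conjugate under a similarity. -/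
theorem exists_not_commute {x : GL (Fin 3) F} (hx : x ∈ R1 F) (hxs : x ∉ scalars (Fin 3) F) :
    ∃ g : GL (Fin 3) F, IsSim g ∧ (g * x * g⁻¹) * x ≠ x * (g * x * g⁻¹) := by
  obtain ⟨w, hw⟩ := exists_omega h4
  have h2 := two_eq_zero h4
  have hw0 : w ≠ 0 := by
    rintro rfl
    simp at hw
  have hw1 : w ≠ 1 := by
    rintro rfl
    apply one_ne_zero (α := F)
    linear_combination hw - h2
  have hw2 : w ^ 2 ≠ 1 := by
    intro h
    rw [h] at hw
    apply hw0
    linear_combination hw - h2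
  obtain ⟨b, d, hd, hxd⟩ := id hx
  have hd0 := ne_zero_of_prod hd
  by_cases hb : b = 0
  · -- diagonal
    subst hb
    obtain ⟨Q, hQ, hQ0⟩ := exists_reflection h4 hw
    refine ⟨Q, hQ, fun hcomm => hxs ?_⟩
    have hmem := conj_mem h4 hQ hx
    obtain ⟨b', d', hd', hy⟩ := hmem
    have hconst : (∀ i j, d i = d j) → x ∈ scalars (Fin 3) F := by
      intro hconst
      rw [mem_scalars_iff]
      refine ⟨Units.mk0 (d 0) (hd0 0), ?_⟩
      rw [hxd, Units.val_mk0, ← mono_scalar]
      congr 1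
      funext i
      exact hconst i 0
    apply hconst
    by_cases hb' : b' = 0
    · -- both diagonal
      subst hb'
      have h1 : (Q : Matrix (Fin 3) (Fin 3) F) * (x : Matrix (Fin 3) (Fin 3) F) =
          ((Q * x * Q⁻¹ : GL (Fin 3) F) : Matrix (Fin 3) (Fin 3) F) * (Q : Matrix (Fin 3) (Fin 3) F) := by
        rw [← Units.val_mul, ← Units.val_mul]
        congr 1
        group
      rw [hy, hxd] at h1
      have h3 : ∀ i j, d j = d' i := by
        intro i j
        have h4 := congrFun (congrFun h1 i) j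
        rw [Matrix.mul_apply, Matrix.mul_apply, Finset.sum_eq_single j, Finset.sum_eq_single i] at h4
        · rw [mono_apply, mono_apply, if_pos (by rw [add_zero]), if_pos (by rw [add_zero]), mul_comm] at h4
          exact mul_right_cancel₀ (hQ0 i j) h4
        · intro k _ hk
          rw [mono_apply, if_neg (by rw [add_zero]; exact hk), zero_mul]
        · intro h
          exact absurd (Finset.mem_univ _) h
        · intro k _ hk
          rw [mono_apply, if_neg (by rw [add_zero]; exact Ne.symm hk), mul_zero]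
        · intro h
          exact absurd (Finset.mem_univ _) h
      intro i j
      rw [h3 0 i, h3 0 j]
    · have h1 := congrArg Units.val hcomm
      rw [Units.val_mul, Units.val_mul x, hy, hxd, mono_mul, mono_mul] at h1
      obtain ⟨-, h5⟩ := mono_injective (fun i => mul_ne_zero (ne_zero_of_prod hd' _) (hd0 _)) h1
      have h6 : ∀ i, d (i + b') = d i := by
        intro i
        have h7 := congrFun h5 i
        simp only [add_zero] at h7
        rw [mul_comm] at h7
        exact mul_right_cancel₀ (ne_zero_of_prod hd' i) h7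
      have h8 : ∀ i, d i = d 0 := by
        intro i
        have e1 := h6 0
        have e2 := h6 (0 + b')
        rw [e1] at e2
        rcases fin3_a b' i hb' with h | h | h
        · rw [h]
        · rw [h, e1]
        · rw [h, e2]
      intro i j
      rw [h8 i, h8 j]
  · obtain ⟨T, hT, hT1, hT2⟩ := isSim_diag h4 hw0
    refine ⟨T, hT, fun hcomm => ?_⟩
    have h1 := congrArg Units.val hcomm
    rw [Units.val_mul, Units.val_mul x, Units.val_mul (T * x), Units.val_mul T, hT1, hT2, hxd, mono_mul, mono_mul,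
      mono_mul, mono_mul] at h1
    have hne : ∀ w : F, w ≠ 0 → ∀ i, (![1, 1, w] : Fin 3 → F) i ≠ 0 := by
      intro w hw i
      fin_cases i <;> simp [hw]
    obtain ⟨-, h5⟩ := mono_injective (fun i => mul_ne_zero (mul_ne_zero (mul_ne_zero (hne w hw0 _) (hd0 _))
      (hne _ (inv_ne_zero hw0) _)) (hd0 _)) h1
    have h6 := congrFun h5 0
    rcases fin3_b b hb with rfl | rfl
    · simp at h6
      rcases h6 with h6 | h6
      · apply hw1
        have h7 : w⁻¹ = 1 := (mul_left_cancel₀ (hd0 1) ((mul_one _).trans h6)).symm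
        rw [inv_eq_one] at h7
        exact h7
      · exact hd0 0 h6
    · simp at h6
      apply hw2
      have h7 : d 0 * d 2 * w⁻¹ = d 0 * d 2 * w := by linear_combination h6
      have h8 := mul_left_cancel₀ (mul_ne_zero (hd0 0) (hd0 2)) h7
      rw [sq]
      nth_rewrite 1 [← h8]
      exact inv_mul_cancel₀ hw0

theorem shift_ratio {d : Fin 3 → F} (hd : ∏ i, d i = 1) (b : Fin 3) :
    ∃ s : F, s ≠ 0 ∧ ∀ i, d (i + b) = s * d i := by
  obtain ⟨r, hr3, hr⟩ := ratio h4 hd
  have hr0 : r ≠ 0 := by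
    rintro rfl
    norm_num at hr3
  fin_cases b
  · exact ⟨1, one_ne_zero, fun i => by simp⟩
  · exact ⟨r, hr0, hr⟩
  · refine ⟨r * r, mul_ne_zero hr0 hr0, fun i => ?_⟩
    have : i + (2 : Fin 3) = i + 1 + 1 := by rw [add_assoc]; rfl
    change d (i + 2) = _
    rw [this, hr, hr, mul_assoc]

/-- `R1` has scalar commutators. -/
theorem comm_R1 {x y : GL (Fin 3) F} (hx : x ∈ R1 F) (hy : y ∈ R1 F) :
    x * y * x⁻¹ * y⁻¹ ∈ scalars (Fin 3) F := by
  obtain ⟨b, d, hd, hxd⟩ := hx
  obtain ⟨b', d', hd', hyd⟩ := hy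
  obtain ⟨s, hs, hs'⟩ := shift_ratio h4 hd b'
  obtain ⟨s', hs0', hs''⟩ := shift_ratio h4 hd' b
  rw [mem_scalars_iff]
  refine ⟨Units.mk0 (s' / s) (div_ne_zero hs0' hs), ?_⟩
  have h1 : ((x * y : GL (Fin 3) F) : Matrix (Fin 3) (Fin 3) F) =
      (s' / s) • ((y * x : GL (Fin 3) F) : Matrix (Fin 3) (Fin 3) F) := by
    rw [Units.val_mul, Units.val_mul, hxd, hyd, mono_mul, mono_mul]
    ext i j
    rw [Matrix.smul_apply, mono_apply, mono_apply, smul_eq_mul, add_comm b' b]
    split_ifs
    · rw [hs', hs'']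
      field_simp
    · rw [mul_zero]
  rw [mul_assoc (x * y), Units.val_mul, h1, Units.val_mk0, Matrix.smul_mul, ← Units.val_mul]
  congr 1
  rw [show y * x * (x⁻¹ * y⁻¹) = 1 by group, Units.val_one]

/-- `R1` spans the matrix algebra. -/
theorem adjoin_R1 : Algebra.adjoin F (matrixSet (R1 F)) = ⊤ := by
  obtain ⟨w, hw⟩ := exists_omega h4
  have h2 := two_eq_zero h4
  have hw0 : w ≠ 0 := by
    rintro rfl
    simp at hw
  have hmem : ∀ (b : Fin 3) (d : Fin 3 → F), ∏ i, d i = 1 → mono b d ∈ Algebra.adjoin F (matrixSet (R1 F)) := by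
    intro b d hd
    exact Algebra.subset_adjoin ⟨monoGL b d (ne_zero_of_prod hd), ⟨b, d, hd, rfl⟩, rfl⟩
  have hE : (Matrix.single 0 0 (1 : F) : Matrix (Fin 3) (Fin 3) F) =
      mono 0 (fun _ => 1) + mono 0 ![1, w, w ^ 2] + mono 0 ![1, w ^ 2, w] := by
    ext i j
    fin_cases i <;> fin_cases j <;> simp [mono_apply] <;>
      first | linear_combination -h2 | linear_combination -hw | linear_combination hw | linear_combination h2
  have hE0 : (Matrix.single 0 0 (1 : F) : Matrix (Fin 3) (Fin 3) F) ∈ Algebra.adjoin F (matrixSet (R1 F)) := by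
    rw [hE]
    refine add_mem (add_mem (hmem _ _ (by simp)) (hmem _ _ ?_)) (hmem _ _ ?_) <;>
    · rw [Fin.prod_univ_three]
      simp
      linear_combination (w - 1) * hw
  have hij : ∀ i j : Fin 3, (Matrix.single i j (1 : F) : Matrix (Fin 3) (Fin 3) F) =
      mono (-i) (fun _ => 1) * Matrix.single 0 0 1 * mono j (fun _ => 1) := by
    intro i j
    ext a b
    rw [Matrix.mul_apply, Finset.sum_eq_single 0]
    · rw [Matrix.mul_apply, Finset.sum_eq_single 0]
      · rw [mono_apply, mono_apply, Matrix.single_apply, Matrix.single_apply, zero_add]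
        have e1 : (0 = a + -i) ↔ i = a := by
          rw [← sub_eq_add_neg, eq_comm, sub_eq_zero, eq_comm]
        by_cases h1 : i = a <;> by_cases h2 : j = b
        · rw [if_pos ⟨h1, h2⟩, if_pos (e1.2 h1), if_pos ⟨rfl, rfl⟩, if_pos h2.symm]; ring
        · rw [if_neg (fun h => h2 h.2), if_pos (e1.2 h1), if_pos ⟨rfl, rfl⟩, if_neg (fun h => h2 h.symm)]; ring
        · rw [if_neg (fun h => h1 h.1), if_neg (fun h => h1 (e1.1 h))]; ring
        · rw [if_neg (fun h => h1 h.1), if_neg (fun h => h1 (e1.1 h))]; ring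
      · intro k _ hk
        rw [Matrix.single_apply, if_neg (fun h => hk h.1.symm), mul_zero]
      · intro h
        exact absurd (Finset.mem_univ _) h
    · intro k _ hk
      rw [Matrix.mul_apply, Finset.sum_eq_zero, zero_mul]
      intro l _
      rw [Matrix.single_apply, if_neg (fun h => hk h.2.symm), mul_zero]
    · intro h
      exact absurd (Finset.mem_univ _) h
  rw [eq_top_iff]
  intro M _
  rw [Matrix.matrix_eq_sum_single M]
  refine sum_mem fun i _ => sum_mem fun j _ => ?_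
  have : (Matrix.single i j (M i j) : Matrix (Fin 3) (Fin 3) F) = M i j • Matrix.single i j 1 := by
    rw [Matrix.smul_single, smul_eq_mul, mul_one]
  rw [this, hij]
  exact Subalgebra.smul_mem _ (mul_mem (mul_mem (hmem _ _ (by simp)) hE0) (hmem _ _ (by simp))) _

end Four

end Cfsg.Agent.H921.Three
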