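import Cfsg.Agent.H921.UnitBase
import Cfsg.Agent.H914.Sub2
import Cfsg.Agent.ClassicalGeometry.TwoFamilies

/-!
Subfield groups relative to a unitary form (H921): from "`H ≤ subfieldSubgroup F₀ P` and some multiple of the form is
`F₀`-valued" to one of the classes 5 of `InUnitaryPartialClass`, for `H` irreducible.
-/

set_option autoImplicit false
set_option linter.unusedSectionVars false
open Cfsg Cfsg.Geo Matrix

namespace Cfsg.Agent.H921

open Cfsg.Agent.H919 (HermForm)
open Cfsg.Agent.H914 (mem_subfieldSubgroup_iff mem_subfield_iff_pow subfield_eq_of_card_eq fixedBy)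
open Cfsg.Agent.LieClassical.HermBasic

section General

variable {ι : Type} [Fintype ι] [DecidableEq ι] {F : Type*} [Field F]

/-- The scalar matrix `c` as an element of `GL`. -/
def scal (ι : Type) [Fintype ι] [DecidableEq ι] {F : Type*} [Field F] (c : Fˣ) : GL ι F :=
  Units.map (Matrix.scalar ι : F →+* Matrix ι ι F).toMonoidHom c

theorem coe_scal (c : Fˣ) : ((scal ι c : GL ι F) : Matrix ι ι F) = (c : F) • (1 : Matrix ι ι F) := by
  simp [scal, Matrix.smul_one_eq_diagonal]

theorem coe_scal_mul (c : Fˣ) (P : GL ι F) :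
    ((scal ι c * P : GL ι F) : Matrix ι ι F) = (c : F) • (P : Matrix ι ι F) := by
  rw [Units.val_mul, coe_scal, Matrix.smul_mul, one_mul]

theorem scal_comm (c : Fˣ) (P : GL ι F) : scal ι c * P = P * scal ι c := by
  apply Units.ext
  rw [Units.val_mul, Units.val_mul, coe_scal, Matrix.smul_mul, Matrix.mul_smul, one_mul, mul_one]

theorem scal_mem (c : Fˣ) : scal ι c ∈ scalars ι F := ⟨c, rfl⟩

theorem subfieldSubgroup_scal (c : Fˣ) (F₀ : Subfield F) (P : GL ι F) :
    subfieldSubgroup F₀ (scal ι c * P) = subfieldSubgroup F₀ P := by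
  ext g
  rw [mem_subfieldSubgroup_iff, mem_subfieldSubgroup_iff]
  have h : (scal ι c * P)⁻¹ * g * (scal ι c * P) = P⁻¹ * g * P := by
    have hc : (scal ι c)⁻¹ * g * scal ι c = g := by
      rw [mul_assoc, ← scal_comm, ← mul_assoc, inv_mul_cancel, one_mul]
    rw [_root_.mul_inv_rev]
    calc P⁻¹ * (scal ι c)⁻¹ * g * (scal ι c * P) = P⁻¹ * ((scal ι c)⁻¹ * g * scal ι c) * P := by group
      _ = _ := by rw [hc]
  rw [h]

theorem mulVec_eq_sum_single (P : Matrix ι ι F) (x : ι → F) :
    P *ᵥ x = ∑ i, x i • (P *ᵥ Pi.single i 1) := by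
  have hx : x = ∑ i, x i • (Pi.single i (1 : F) : ι → F) := by
    ext j
    simp [Finset.sum_apply, Pi.single_apply]
  conv_lhs => rw [hx]
  rw [Matrix.mulVec_sum]
  exact Finset.sum_congr rfl fun i _ => Matrix.mulVec_smul _ _ _

variable {σ : F ≃+* F} {ε : F} {f : (ι → F) → (ι → F) → F}

/-- A non-degenerate form with alternating Gram matrix forces even dimension. -/
theorem even_of_alt (hf : HermForm σ ε f) (P : GL ι F)
    (h0 : ∀ i, f ((P : Matrix ι ι F) *ᵥ Pi.single i 1) ((P : Matrix ι ι F) *ᵥ Pi.single i 1) = 0)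
    (h1 : ∀ i j, f ((P : Matrix ι ι F) *ᵥ Pi.single i 1) ((P : Matrix ι ι F) *ᵥ Pi.single j 1) +
      f ((P : Matrix ι ι F) *ᵥ Pi.single j 1) ((P : Matrix ι ι F) *ᵥ Pi.single i 1) = 0) :
    Even (Fintype.card ι) := by
  classical
  let B : LinearMap.BilinForm F (ι → F) := LinearMap.mk₂ F
    (fun x y => f ((P : Matrix ι ι F) *ᵥ x) ((P : Matrix ι ι F) *ᵥ (fun j => σ (y j))))
    (fun x x' y => by rw [Matrix.mulVec_add, hf.add_left])
    (fun c x y => by rw [Matrix.mulVec_smul, hf.smul_left]; rfl)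
    (fun x y y' => by
      have : (fun j => σ ((y + y') j)) = (fun j => σ (y j)) + fun j => σ (y' j) := by
        ext j; simp
      rw [this, Matrix.mulVec_add, hf.add_right])
    (fun c x y => by
      have : (fun j => σ ((c • y) j)) = σ c • fun j => σ (y j) := by
        ext j; simp
      rw [this, Matrix.mulVec_smul, hf.smul_right, hf.sigma_sq]; rfl)
  have hB : ∀ x y, B x y = f ((P : Matrix ι ι F) *ᵥ x) ((P : Matrix ι ι F) *ᵥ (fun j => σ (y j))) := fun _ _ => rfl
  have hexp : ∀ x y, B x y = ∑ i, ∑ j, x i * y j *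
      f ((P : Matrix ι ι F) *ᵥ Pi.single i 1) ((P : Matrix ι ι F) *ᵥ Pi.single j 1) := by
    intro x y
    rw [hB, mulVec_eq_sum_single _ x, mulVec_eq_sum_single _ (fun j => σ (y j)), hf.sum_left]
    refine Finset.sum_congr rfl fun i _ => ?_
    rw [hf.smul_left, hf.sum_right, Finset.mul_sum]
    refine Finset.sum_congr rfl fun j _ => ?_
    rw [hf.smul_right, hf.sigma_sq]; ring
  have halt : B.IsAlt := by
    intro x
    rw [hexp, ← Finset.sum_product']
    refine Finset.sum_involution (fun p _ => (p.2, p.1)) ?_ ?_ ?_ ?_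
    · rintro ⟨i, j⟩ -
      have := h1 i j
      simp only
      linear_combination x i * x j * this
    · rintro ⟨i, j⟩ - hne heq
      simp only [Prod.mk.injEq] at heq
      apply hne
      simp only
      rw [heq.1, h0, mul_zero]
    · intro p _
      exact Finset.mem_product.2 ⟨Finset.mem_univ _, Finset.mem_univ _⟩
    · intro p _
      rfl
  obtain ⟨m, hm⟩ := Cfsg.Agent.ClassicalGeometry.TwoFamilies.exists_finrank_eq_ker_add B halt
  have hker : LinearMap.ker B = ⊥ := by
    rw [LinearMap.ker_eq_bot']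
    intro x hx
    by_contra hx0
    have hPx : (P : Matrix ι ι F) *ᵥ x ≠ 0 := by
      intro h
      apply hx0
      have : ((P⁻¹ : GL ι F) : Matrix ι ι F) *ᵥ ((P : Matrix ι ι F) *ᵥ x) = 0 := by rw [h, Matrix.mulVec_zero]
      rwa [Matrix.mulVec_mulVec, ← Units.val_mul, inv_mul_cancel, Units.val_one, Matrix.one_mulVec] at this
    obtain ⟨y, hy⟩ := (hf.nondegenerate _ hPx).2
    apply hy
    set z : ι → F := ((P⁻¹ : GL ι F) : Matrix ι ι F) *ᵥ y with hz
    have h2 : B x (fun j => σ (z j)) = 0 := by rw [hx]; rfl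
    rw [hB] at h2
    have h3 : (fun j => σ ((fun j => σ (z j)) j)) = z := by
      ext j; exact hf.sigma_sq _
    rw [h3, hz, Matrix.mulVec_mulVec, ← Units.val_mul, mul_inv_cancel, Units.val_one, Matrix.one_mulVec] at h2
    exact h2
  rw [hker, finrank_bot, zero_add, Module.finrank_fintype_fun_eq_card] at hm
  exact ⟨m, hm⟩

end General

section Finite

variable {ι : Type} [Fintype ι] [DecidableEq ι] {F : Type*} [Field F] [Fintype F] {q : ℕ}
  (hF : Fintype.card F = q ^ 2)
variable {f : (ι → F) → (ι → F) → F}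
include hF

theorem rational_herm (hf : HermForm (conj hF) 1 f) {ζ : F} (hζ : ζ ≠ 0) {P : GL ι F} (u v : ι → F) :
    ζ * f ((P : Matrix ι ι F) *ᵥ u) ((P : Matrix ι ι F) *ᵥ v) =
      ζ / ζ ^ q * (ζ * f ((P : Matrix ι ι F) *ᵥ v) ((P : Matrix ι ι F) *ᵥ u)) ^ q := by
  have hζq : ζ ^ q ≠ 0 := pow_ne_zero _ hζ
  rw [hf.herm, one_mul, conj_apply, mul_pow]
  field_simp

/-- The conjugation is nontrivial on a subfield of odd index. -/
theorem exists_not_fixed_sub {F₀ : Subfield F} {r : ℕ} (hodd : Odd r)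
    (hcard : Fintype.card F = Nat.card F₀ ^ r) : ∃ x ∈ F₀, x ^ q ≠ x := by
  by_contra hcon
  push Not at hcon
  have hle : F₀ ≤ fixedBy (conj hF) := fun x hx => hcon x hx
  let _ : Algebra F₀ (fixedBy (conj hF)) := (Subfield.inclusion hle).toAlgebra
  have h1 : Nat.card (fixedBy (conj hF)) = Nat.card F₀ ^ Module.finrank F₀ (fixedBy (conj hF)) :=
    Module.natCard_eq_pow_finrank
  have h2 : Nat.card (fixedBy (conj hF)) = q := card_fixed hF
  have h3 : Nat.card F₀ ^ r = Nat.card F₀ ^ (Module.finrank F₀ (fixedBy (conj hF)) * 2) := by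
    rw [← hcard, hF, pow_mul, ← h1, h2]
  have h4 : 1 < Nat.card F₀ := Finite.one_lt_card
  have h5 := Nat.pow_right_injective h4 h3
  rw [h5] at hodd
  exact (Nat.not_odd_iff_even.2 (even_two.mul_left _)) hodd

/-- Odd index: the multiplier can be made `1`. -/
theorem exists_scal_rational (hf : HermForm (conj hF) 1 f) {F₀ : Subfield F} {r : ℕ} (hodd : Odd r)
    (hcard : Fintype.card F = Nat.card F₀ ^ r) {ζ : F} (hζ : ζ ≠ 0) {P : GL ι F}
    (hrat : IsFormRationalStructure f F₀ ζ P) :
    ∃ c : Fˣ, IsFormRationalStructure f F₀ 1 (scal ι c * P) := by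
  classical
  by_cases h0 : ∃ u v : ι → F, (∀ i, u i ∈ F₀) ∧ (∀ i, v i ∈ F₀) ∧
      f ((P : Matrix ι ι F) *ᵥ u) ((P : Matrix ι ι F) *ᵥ v) ≠ 0
  · obtain ⟨u, v, hu, hv, huv⟩ := h0
    set κ : F := ζ / ζ ^ q with hκ
    have hζq : ζ ^ q ≠ 0 := pow_ne_zero _ hζ
    have hκF : κ ∈ F₀ := by
      have h1 := rational_herm hF hf hζ (P := P) u v
      have h2 : (ζ * f ((P : Matrix ι ι F) *ᵥ v) ((P : Matrix ι ι F) *ᵥ u)) ^ q ∈ F₀ :=
        pow_mem (hrat v u hv hu) q
      have h3 : (ζ * f ((P : Matrix ι ι F) *ᵥ v) ((P : Matrix ι ι F) *ᵥ u)) ^ q ≠ 0 := by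
        intro h
        rw [h, mul_zero] at h1
        exact mul_ne_zero hζ huv h1
      have h4 : κ = ζ * f ((P : Matrix ι ι F) *ᵥ u) ((P : Matrix ι ι F) *ᵥ v) /
          (ζ * f ((P : Matrix ι ι F) *ᵥ v) ((P : Matrix ι ι F) *ᵥ u)) ^ q := by
        rw [eq_div_iff h3, ← h1]
      rw [h4]
      exact div_mem (hrat u v hu hv) h2
    have hκκ : κ * κ ^ q = 1 := by
      rw [hκ, div_pow, pow_q_pow_q hF]
      field_simp
    obtain ⟨x, hx, hxq⟩ : ∃ x ∈ F₀, x + κ ^ q * x ^ q ≠ 0 := by
      by_contra hcon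
      push Not at hcon
      have h1 := hcon 1 F₀.one_mem
      rw [one_pow, mul_one] at h1
      have h2 : κ ^ q = -1 := (neg_eq_of_add_eq_zero_right h1).symm
      obtain ⟨x, hx, hxq⟩ := exists_not_fixed_sub hF hodd hcard
      apply hxq
      have h3 := hcon x hx
      rw [h2] at h3
      linear_combination -h3
    set c : F := x + κ ^ q * x ^ q with hc
    have hcF : c ∈ F₀ := add_mem hx (mul_mem (pow_mem hκF q) (pow_mem hx q))
    have hcq : c ^ q = κ * c := by
      rw [hc, add_pow_q hF, mul_pow, pow_q_pow_q hF, pow_q_pow_q hF]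
      linear_combination (-(x ^ q)) * hκκ
    have hcζ : (c * ζ) ^ q = c * ζ := by
      rw [mul_pow, hcq, hκ]
      field_simp
    obtain ⟨μ, hμ, hμq⟩ := exists_norm_eq_ne hF hcζ (mul_ne_zero hxq hζ)
    refine ⟨Units.mk0 μ hμ, fun u v hu hv => ?_⟩
    rw [coe_scal_mul, Units.val_mk0, Matrix.smul_mulVec, Matrix.smul_mulVec, hf.smul_left, hf.smul_right, one_mul,
      conj_apply]
    have h1 := mul_mem hcF (hrat u v hu hv)
    convert h1 using 1
    linear_combination f ((P : Matrix ι ι F) *ᵥ u) ((P : Matrix ι ι F) *ᵥ v) * hμq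
  · push Not at h0
    refine ⟨1, fun u v hu hv => ?_⟩
    have : (scal ι (1 : Fˣ) * P : GL ι F) = P := by
      rw [scal, map_one, one_mul]
    rw [this, one_mul, h0 u v hu hv]
    exact F₀.zero_mem

/-- Index two: the subfield is the fixed field of the conjugation. -/
theorem mem_index_two {F₀ : Subfield F} (hcard : Fintype.card F = Nat.card F₀ ^ 2) (x : F) :
    x ∈ F₀ ↔ x ^ q = x := by
  have h : Nat.card F₀ = q := by
    rw [hF] at hcard
    exact (Nat.pow_left_injective (n := 2) (by norm_num) hcard).symm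
  rw [mem_subfield_iff_pow, h]

/-- Index two: the ratio of a form multiplier. -/
theorem ratio_index_two (hf : HermForm (conj hF) 1 f) {F₀ : Subfield F}
    (hcard : Fintype.card F = Nat.card F₀ ^ 2) {ζ : F} (hζ : ζ ≠ 0) {P : GL ι F}
    (hrat : IsFormRationalStructure f F₀ ζ P) (u v : ι → F) (hu : ∀ i, u i ∈ F₀) (hv : ∀ i, v i ∈ F₀) :
    f ((P : Matrix ι ι F) *ᵥ u) ((P : Matrix ι ι F) *ᵥ v) =
      ζ / ζ ^ q * f ((P : Matrix ι ι F) *ᵥ v) ((P : Matrix ι ι F) *ᵥ u) := by
  have h1 := rational_herm hF hf hζ (P := P) u v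
  rw [(mem_index_two hF hcard _).1 (hrat v u hv hu)] at h1
  apply mul_left_cancel₀ hζ
  rw [h1]; ring

/-- Characteristic 2, index two: either the rational form is alternating, or a line is invariant. -/
theorem alternating_or_line (hf : HermForm (conj hF) 1 f) {F₀ : Subfield F}
    (hcard : Fintype.card F = Nat.card F₀ ^ 2) (h2 : (2 : F) = 0) {P : GL ι F}
    (hrat : IsFormRationalStructure f F₀ 1 P) {H : Subgroup (GL ι F)} (hHP : H ≤ subfieldSubgroup F₀ P)
    (hHf : ∀ h ∈ H, ∀ u v, f ((h : Matrix ι ι F) *ᵥ u) ((h : Matrix ι ι F) *ᵥ v) = f u v) :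
    (∀ u : ι → F, (∀ i, u i ∈ F₀) → f ((P : Matrix ι ι F) *ᵥ u) ((P : Matrix ι ι F) *ᵥ u) = 0) ∨
    ∃ w : ι → F, w ≠ 0 ∧ ∀ h ∈ H, ∃ c : F, (h : Matrix ι ι F) *ᵥ w = c • w := by
  classical
  have : CharP F 2 := CharTwo.of_one_ne_zero_of_two_eq_zero one_ne_zero h2
  -- square roots
  have hsq : ∀ x : F, ∃ y : F, y ^ 2 = x := fun x => by
    obtain ⟨y, hy⟩ := (frobeniusEquiv F 2).surjective x
    exact ⟨y, by rw [← hy, frobeniusEquiv_apply, frobenius_def]⟩
  have hsymm : ∀ u v : ι → F, (∀ i, u i ∈ F₀) → (∀ i, v i ∈ F₀) →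
      f ((P : Matrix ι ι F) *ᵥ u) ((P : Matrix ι ι F) *ᵥ v) =
      f ((P : Matrix ι ι F) *ᵥ v) ((P : Matrix ι ι F) *ᵥ u) := by
    intro u v hu hv
    have := ratio_index_two hF hf hcard one_ne_zero hrat u v hu hv
    rwa [one_pow, div_one, one_mul] at this
  choose a ha using fun i : ι =>
    hsq (f ((P : Matrix ι ι F) *ᵥ Pi.single i 1) ((P : Matrix ι ι F) *ᵥ Pi.single i 1))
  -- `ℓ(u)² = f(Pu, Pu)`
  have hℓ : ∀ u : ι → F, (∀ i, u i ∈ F₀) →
      (∑ i, u i * a i) ^ 2 = f ((P : Matrix ι ι F) *ᵥ u) ((P : Matrix ι ι F) *ᵥ u) := by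
    intro u hu
    have key : ∀ s : Finset ι, (∑ i ∈ s, u i * a i) ^ 2 =
        f ((P : Matrix ι ι F) *ᵥ (∑ i ∈ s, u i • (Pi.single i (1 : F) : ι → F)))
          ((P : Matrix ι ι F) *ᵥ (∑ i ∈ s, u i • (Pi.single i (1 : F) : ι → F))) := by
      intro s
      induction s using Finset.induction_on with
      | empty => simp [hf.zero_left]
      | insert i s hi ih =>
        rw [Finset.sum_insert hi, Finset.sum_insert hi, add_sq, ih, Matrix.mulVec_add, hf.add_left, hf.add_right,
          hf.add_right]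
        have hr1 : ∀ j, (u i • (Pi.single i (1 : F) : ι → F)) j ∈ F₀ := by
          intro j
          rw [Pi.smul_apply, smul_eq_mul]
          refine mul_mem (hu i) ?_
          by_cases hij : j = i
          · subst hij; rw [Pi.single_eq_same]; exact one_mem _
          · rw [Pi.single_eq_of_ne hij]; exact zero_mem _
        have hr2 : ∀ j, (∑ i ∈ s, u i • (Pi.single i (1 : F) : ι → F)) j ∈ F₀ := by
          intro j
          rw [Finset.sum_apply]
          refine sum_mem fun i _ => ?_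
          rw [Pi.smul_apply, smul_eq_mul]
          refine mul_mem (hu i) ?_
          by_cases hij : j = i
          · subst hij; rw [Pi.single_eq_same]; exact one_mem _
          · rw [Pi.single_eq_of_ne hij]; exact zero_mem _
        rw [hsymm _ _ hr2 hr1]
        have h3 : f ((P : Matrix ι ι F) *ᵥ (u i • (Pi.single i (1 : F) : ι → F)))
            ((P : Matrix ι ι F) *ᵥ (u i • (Pi.single i (1 : F) : ι → F))) = (u i * a i) ^ 2 := by
          rw [Matrix.mulVec_smul, hf.smul_left, hf.smul_right, conj_apply, ((mem_index_two hF hcard _).1 (hu i)),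
            ← ha i]
          ring
        rw [h3, h2]
        have h4 : f ((P : Matrix ι ι F) *ᵥ (u i • (Pi.single i (1 : F) : ι → F)))
            ((P : Matrix ι ι F) *ᵥ (∑ i ∈ s, u i • (Pi.single i (1 : F) : ι → F))) +
            f ((P : Matrix ι ι F) *ᵥ (u i • (Pi.single i (1 : F) : ι → F)))
            ((P : Matrix ι ι F) *ᵥ (∑ i ∈ s, u i • (Pi.single i (1 : F) : ι → F))) = 0 := by
          rw [← two_mul, h2, zero_mul]
        linear_combination -h4
    have hu' : u = ∑ i, u i • (Pi.single i (1 : F) : ι → F) := by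
      ext j
      simp [Finset.sum_apply, Pi.single_apply]
    conv_rhs => rw [hu']
    exact key Finset.univ
  -- the vector `w`
  have hinj : Function.Injective (fun w : ι → F => fun i => f ((P : Matrix ι ι F) *ᵥ Pi.single i 1) w) := by
    intro w w' hww
    by_contra hne
    obtain ⟨x, hx⟩ := (hf.nondegenerate _ (sub_ne_zero.2 hne)).1
    apply hx
    have hxP : x = (P : Matrix ι ι F) *ᵥ (((P⁻¹ : GL ι F) : Matrix ι ι F) *ᵥ x) := by
      rw [Matrix.mulVec_mulVec, ← Units.val_mul, mul_inv_cancel, Units.val_one, Matrix.one_mulVec]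
    rw [hxP, mulVec_eq_sum_single, hf.sum_left]
    refine Finset.sum_eq_zero fun i _ => ?_
    have h5 : f ((P : Matrix ι ι F) *ᵥ Pi.single i 1) w = f ((P : Matrix ι ι F) *ᵥ Pi.single i 1) w' :=
      congrFun hww i
    rw [hf.smul_left, hf.sub_right, h5, sub_self, mul_zero]
  obtain ⟨w, hw⟩ := (Finite.injective_iff_surjective.1 hinj) a
  have hw' : ∀ x : ι → F, f ((P : Matrix ι ι F) *ᵥ x) w = ∑ i, x i * a i := by
    intro x
    rw [mulVec_eq_sum_single, hf.sum_left]
    refine Finset.sum_congr rfl fun i _ => ?_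
    rw [hf.smul_left, ← congrFun hw i]
  by_cases hw0 : w = 0
  · left
    intro u hu
    rw [← hℓ u hu, ← hw' u, hw0, hf.zero_right]
    ring
  · right
    refine ⟨w, hw0, fun h hh => ?_⟩
    obtain ⟨c, hc, hcF⟩ := mem_subfieldSubgroup_iff.1 (hHP hh)
    obtain ⟨d, hd⟩ := hsq (c * c ^ q)
    have hd0 : d ≠ 0 := by
      rintro rfl
      have : c * c ^ q ≠ 0 := mul_ne_zero hc (pow_ne_zero _ hc)
      exact this (by rw [← hd]; ring)
    -- `P g₀ x = c h P x`
    have hPg : ∀ x : ι → F, (P : Matrix ι ι F) *ᵥ ((c • ((P⁻¹ * h * P : GL ι F) : Matrix ι ι F)) *ᵥ x) =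
        c • ((h : Matrix ι ι F) *ᵥ ((P : Matrix ι ι F) *ᵥ x)) := by
      intro x
      rw [Matrix.smul_mulVec, Matrix.mulVec_smul, Matrix.mulVec_mulVec, ← Units.val_mul, Matrix.mulVec_mulVec,
        ← Units.val_mul]
      congr 3
      group
    have hrel : ∀ u : ι → F, (∀ i, u i ∈ F₀) →
        ∑ i, ((c • ((P⁻¹ * h * P : GL ι F) : Matrix ι ι F)) *ᵥ u) i * a i = d * ∑ i, u i * a i := by
      intro u hu
      have hgu : ∀ i, ((c • ((P⁻¹ * h * P : GL ι F) : Matrix ι ι F)) *ᵥ u) i ∈ F₀ := by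
        intro i
        rw [Matrix.mulVec, dotProduct]
        exact sum_mem fun j _ => mul_mem (hcF i j) (hu j)
      have h5 := hℓ _ hgu
      rw [hPg, hf.smul_left, hf.smul_right, hHf h hh, conj_apply, ← hℓ u hu] at h5
      have h6 : (∑ i, ((c • ((P⁻¹ * h * P : GL ι F) : Matrix ι ι F)) *ᵥ u) i * a i - d * ∑ i, u i * a i) ^ 2 = 0 := by
        rw [sub_sq, h5, h2, mul_pow, hd]
        have h7 : c * c ^ q * (∑ i, u i * a i) ^ 2 + c * c ^ q * (∑ i, u i * a i) ^ 2 = 0 := by
          rw [← two_mul, h2, zero_mul]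
        linear_combination h7
      exact sub_eq_zero.1 (pow_eq_zero_iff (two_ne_zero)|>.1 h6)
    have hrel' : ∀ x : ι → F,
        f ((P : Matrix ι ι F) *ᵥ ((c • ((P⁻¹ * h * P : GL ι F) : Matrix ι ι F)) *ᵥ x)) w =
          d * f ((P : Matrix ι ι F) *ᵥ x) w := by
      intro x
      have hx : x = ∑ i, x i • (Pi.single i (1 : F) : ι → F) := by
        ext j
        simp [Finset.sum_apply, Pi.single_apply]
      have hlin : ∀ i, f ((P : Matrix ι ι F) *ᵥ ((c • ((P⁻¹ * h * P : GL ι F) : Matrix ι ι F)) *ᵥ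
          (Pi.single i (1 : F) : ι → F))) w = d * f ((P : Matrix ι ι F) *ᵥ (Pi.single i (1 : F) : ι → F)) w := by
        intro i
        rw [hw', hw']
        apply hrel
        intro j
        by_cases hij : j = i
        · subst hij; rw [Pi.single_eq_same]; exact one_mem _
        · rw [Pi.single_eq_of_ne hij]; exact zero_mem _
      rw [hx, Matrix.mulVec_sum, Matrix.mulVec_sum, Matrix.mulVec_sum, hf.sum_left, hf.sum_left, Finset.mul_sum]
      refine Finset.sum_congr rfl fun i _ => ?_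
      rw [Matrix.mulVec_smul, Matrix.mulVec_smul, Matrix.mulVec_smul, hf.smul_left, hf.smul_left, hlin]
      ring
    have hkey : ∀ y : ι → F, f y (conj hF c • w) = f y (conj hF d • ((h : Matrix ι ι F) *ᵥ w)) := by
      intro y
      have hy : y = (h : Matrix ι ι F) *ᵥ ((P : Matrix ι ι F) *ᵥ (((P⁻¹ : GL ι F) : Matrix ι ι F) *ᵥ
          (((h⁻¹ : GL ι F) : Matrix ι ι F) *ᵥ y))) := by
        simp only [Matrix.mulVec_mulVec, ← Units.val_mul]
        rw [show h * (P * (P⁻¹ * h⁻¹)) = 1 by group, Units.val_one, Matrix.one_mulVec]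
      have h8 := hrel' (((P⁻¹ : GL ι F) : Matrix ι ι F) *ᵥ (((h⁻¹ : GL ι F) : Matrix ι ι F) *ᵥ y))
      rw [hPg, ← hy, hf.smul_left] at h8
      rw [hf.smul_right, hf.smul_right, conj_conj, conj_conj, h8]
      conv_rhs => rw [hy]
      rw [hHf h hh]
    have h9 : conj hF c • w = conj hF d • ((h : Matrix ι ι F) *ᵥ w) := by
      by_contra hne
      obtain ⟨x, hx⟩ := (hf.nondegenerate _ (sub_ne_zero.2 hne)).1
      apply hx
      rw [hf.sub_right, hkey, sub_self]
    have hd1 : conj hF d ≠ 0 := by simpa using hd0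
    refine ⟨(conj hF d)⁻¹ * conj hF c, ?_⟩
    rw [mul_smul, h9, smul_smul, inv_mul_cancel₀ hd1, one_smul]

end Finite

section Main

variable {F : Type*} [Field F] [Fintype F] {n q : ℕ} (hF : Fintype.card F = q ^ 2)
include hF

/-- Classes 5 of `InUnitaryPartialClass`. -/
theorem exists_subfield_class (hn : 2 ≤ n) {H : Subgroup (GL (Fin n) F)} (hH : H ≤ GU n F q)
    (hirr : ActsIrreducibly (matrixSet H)) {F₀ : Subfield F} {r : ℕ} (hr : r.Prime)
    (hcard : Fintype.card F = Nat.card F₀ ^ r) {ζ : F} (hζ : ζ ≠ 0) {P : GL (Fin n) F}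
    (hrat : IsFormRationalStructure (hermForm n F q) F₀ ζ P) (hHP : H ≤ subfieldSubgroup F₀ P) :
    ∃ M : Subgroup (GL (Fin n) F), InUnitaryPartialClass n F q M ∧ H ≤ M := by
  have hf := herm_hermForm (n := n) hF
  have hHf : ∀ h ∈ H, ∀ u v, hermForm n F q ((h : Matrix (Fin n) (Fin n) F) *ᵥ u)
      ((h : Matrix (Fin n) (Fin n) F) *ᵥ v) = hermForm n F q u v := fun h hh => hH hh
  rcases hr.eq_two_or_odd' with rfl | hodd
  · -- index two
    have hne : ∃ i j, hermForm n F q ((P : Matrix (Fin n) (Fin n) F) *ᵥ Pi.single i 1)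
        ((P : Matrix (Fin n) (Fin n) F) *ᵥ Pi.single j 1) ≠ 0 := by
      by_contra hcon
      push Not at hcon
      have hv : (Pi.single (⟨0, by omega⟩ : Fin n) (1 : F) : Fin n → F) ≠ 0 := by
        intro h
        have := congrFun h ⟨0, by omega⟩
        simp at this
      have hPv : (P : Matrix (Fin n) (Fin n) F) *ᵥ (Pi.single (⟨0, by omega⟩ : Fin n) (1 : F) : Fin n → F) ≠ 0 := by
        intro h
        apply hv
        have h1 : ((P⁻¹ : GL (Fin n) F) : Matrix (Fin n) (Fin n) F) *ᵥ ((P : Matrix (Fin n) (Fin n) F) *ᵥ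
          (Pi.single (⟨0, by omega⟩ : Fin n) (1 : F) : Fin n → F)) = 0 := by rw [h, Matrix.mulVec_zero]
        rwa [Matrix.mulVec_mulVec, ← Units.val_mul, inv_mul_cancel, Units.val_one, Matrix.one_mulVec] at h1
      obtain ⟨x, hx⟩ := (hf.nondegenerate _ hPv).1
      apply hx
      have hxP : x = (P : Matrix (Fin n) (Fin n) F) *ᵥ (((P⁻¹ : GL (Fin n) F) : Matrix (Fin n) (Fin n) F) *ᵥ x) := by
        rw [Matrix.mulVec_mulVec, ← Units.val_mul, mul_inv_cancel, Units.val_one, Matrix.one_mulVec]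
      rw [hxP, mulVec_eq_sum_single, hf.sum_left]
      refine Finset.sum_eq_zero fun i _ => ?_
      rw [hf.smul_left, hcon, mul_zero]
    have hsr : ∀ i j : Fin n, (Pi.single i (1 : F) : Fin n → F) j ∈ F₀ := by
      intro i j
      by_cases hij : j = i
      · subst hij; rw [Pi.single_eq_same]; exact one_mem _
      · rw [Pi.single_eq_of_ne hij]; exact zero_mem _
    have hζq : ζ ^ q ≠ 0 := pow_ne_zero _ hζ
    have hκ : ζ / ζ ^ q = 1 ∨ ζ / ζ ^ q = -1 := by
      obtain ⟨i, j, hij⟩ := hne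
      have h1 := ratio_index_two hF hf hcard hζ hrat _ _ (hsr i) (hsr j)
      have h2 := ratio_index_two hF hf hcard hζ hrat _ _ (hsr j) (hsr i)
      rw [h2, ← mul_assoc] at h1
      have h3 : ζ / ζ ^ q * (ζ / ζ ^ q) = 1 := by
        have := mul_right_cancel₀ hij ((one_mul _).trans h1)
        exact this.symm
      exact mul_self_eq_one_iff.1 h3
    by_cases h2 : (2 : F) = 0
    · -- characteristic 2
      have hκ1 : ζ / ζ ^ q = 1 := by
        rcases hκ with h | h
        · exact h
        · rw [h]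
          linear_combination -h2
      have hζF : ζ ∈ F₀ := by
        rw [mem_index_two hF hcard]
        rw [div_eq_one_iff_eq hζq] at hκ1
        exact hκ1.symm
      have hrat1 : IsFormRationalStructure (hermForm n F q) F₀ 1 P := by
        intro u v hu hv
        have := mul_mem (inv_mem hζF) (hrat u v hu hv)
        rwa [← mul_assoc, inv_mul_cancel₀ hζ] at this
      rcases alternating_or_line hF hf hcard h2 hrat1 hHP hHf with halt | ⟨w, hw, hline⟩
      · have heven : Even n := by
          have := even_of_alt hf P (fun i => halt _ (hsr i)) (fun i j => by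
            have h1 := ratio_index_two hF hf hcard hζ hrat _ _ (hsr i) (hsr j)
            rw [hκ1, one_mul] at h1
            rw [h1, ← two_mul, h2, zero_mul])
          simpa using this
        refine ⟨subfieldSubgroup F₀ P ⊓ GU n F q, ?_, le_inf hHP hH⟩
        refine Or.inr (Or.inr (Or.inr (Or.inr (Or.inr (Or.inr (Or.inl ?_))))))
        refine ⟨F₀, P, 1, heven, hcard, one_ne_zero, ?_, hrat1, halt, rfl⟩
        rw [one_pow]
        linear_combination h2
      · exfalso
        have hW : ∀ s ∈ matrixSet H, (Submodule.span F {w}).map (Matrix.toLin' s) ≤ Submodule.span F {w} := by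
          rintro _ ⟨h, hh, rfl⟩
          rw [Submodule.map_span_le]
          rintro _ rfl
          obtain ⟨c, hc⟩ := hline h hh
          rw [Matrix.toLin'_apply, hc]
          exact Submodule.smul_mem _ _ (Submodule.mem_span_singleton_self _)
        have hfr := finrank_span_singleton (K := F) hw
        rcases hirr _ hW with h | h
        · rw [h, finrank_bot] at hfr
          exact zero_ne_one hfr
        · rw [h, finrank_top, Module.finrank_fintype_fun_eq_card, Fintype.card_fin] at hfr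
          omega
    · -- odd characteristic
      have hqodd : Odd q := by
        rw [← Nat.not_even_iff_odd]
        rintro ⟨m, hm⟩
        apply h2
        have hrc : ringChar F = 2 := by
          rw [FiniteField.even_card_iff_char_two, hF, hm, ← Nat.even_iff]
          exact (Even.add_self m).pow_of_ne_zero two_ne_zero
        have h3 : ((2 : ℕ) : F) = 0 := by
          rw [← hrc]
          exact ringChar.Nat.cast_ringChar
        simpa using h3
      rcases hκ with h | h
      · have hζF : ζ ∈ F₀ := by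
          rw [mem_index_two hF hcard]
          rw [div_eq_one_iff_eq hζq] at h
          exact h.symm
        have hrat1 : IsFormRationalStructure (hermForm n F q) F₀ 1 P := by
          intro u v hu hv
          have := mul_mem (inv_mem hζF) (hrat u v hu hv)
          rwa [← mul_assoc, inv_mul_cancel₀ hζ] at this
        refine ⟨subfieldSubgroup F₀ P ⊓ GU n F q, ?_, le_inf hHP hH⟩
        refine Or.inr (Or.inr (Or.inr (Or.inr (Or.inr (Or.inl ?_)))))
        exact ⟨F₀, P, hqodd, hcard, hrat1, rfl⟩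
      · have hζ2 : ζ + ζ ^ q = 0 := by
          rw [div_eq_iff hζq] at h
          linear_combination h
        have halt : ∀ u : Fin n → F, (∀ i, u i ∈ F₀) →
            hermForm n F q ((P : Matrix (Fin n) (Fin n) F) *ᵥ u) ((P : Matrix (Fin n) (Fin n) F) *ᵥ u) = 0 := by
          intro u hu
          have h1 := ratio_index_two hF hf hcard hζ hrat _ _ hu hu
          rw [h] at h1
          have h3 : (2 : F) * hermForm n F q ((P : Matrix (Fin n) (Fin n) F) *ᵥ u)
            ((P : Matrix (Fin n) (Fin n) F) *ᵥ u) = 0 := by linear_combination h1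
          exact (mul_eq_zero.1 h3).resolve_left h2
        have heven : Even n := by
          have := even_of_alt hf P (fun i => halt _ (hsr i)) (fun i j => by
            have h1 := ratio_index_two hF hf hcard hζ hrat _ _ (hsr i) (hsr j)
            rw [h] at h1
            linear_combination h1)
          simpa using this
        refine ⟨subfieldSubgroup F₀ P ⊓ GU n F q, ?_, le_inf hHP hH⟩
        refine Or.inr (Or.inr (Or.inr (Or.inr (Or.inr (Or.inr (Or.inl ?_))))))
        exact ⟨F₀, P, ζ, heven, hcard, hζ, hζ2, hrat, halt, rfl⟩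
  · obtain ⟨c, hc⟩ := exists_scal_rational hF hf hodd hcard hζ hrat
    refine ⟨subfieldSubgroup F₀ (scal (Fin n) c * P) ⊓ GU n F q, ?_,
      le_inf (by rw [subfieldSubgroup_scal]; exact hHP) hH⟩
    refine Or.inr (Or.inr (Or.inr (Or.inr (Or.inl ?_))))
    exact ⟨F₀, r, scal (Fin n) c * P, hr, hodd, hcard, hc, rfl⟩

end Main

end Cfsg.Agent.H921
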