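import Cfsg.Agent.H921.UnitWreath
import Cfsg.Agent.H921.ThreeBase
import Cfsg.Agent.H921.SympDim
import Cfsg.Agent.H920.SympD
import Cfsg.Agent.H919.AschWreathForm2

/-!
Three-dimensional tensor factors over the field with four elements (H921): the isometries in a tensor-wreath subgroup
with factors of dimension three normalise an extraspecial group `3^{1+2t}` of exponent three.
-/

set_option autoImplicit false
set_option linter.unusedSectionVars false

namespace Cfsg.Agent.H921

open Cfsg Cfsg.Geo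
open scoped MatrixGroups Matrix
open Cfsg.Agent.H919 (HermForm pureMat pureMat_apply pureMat_mul pureMat_one pureGL pureGL_val pureGL_mem facPerm
  facPerm_val facPerm_conj frameGL frameMat frameGL_val mem_tensorWreathSubgroup_iff frameAlg frameAlg_apply slotMat
  slotEmb slotEmb_apply slotEmb_injective)
open Cfsg.Agent.H922 (pureGL_mul pureGL_inv facPerm_mul_pureGL frameGL_mulVec)
open Cfsg.Agent.LieClassical.HermBasic
open Three

variable {ι : Type} [Fintype ι] [DecidableEq ι] {F : Type*} [Field F] {t m : ℕ}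

/-- Pure tensors in a frame, as a homomorphism. -/
def phi (e : ι ≃ (Fin t → Fin m)) (P : GL ι F) : (Fin t → GL (Fin m) F) →* GL ι F where
  toFun x := frameGL e P (pureGL x)
  map_one' := by
    have h : pureGL (1 : Fin t → GL (Fin m) F) = 1 := by
      apply Units.ext
      rw [pureGL_val, Units.val_one]
      exact pureMat_one
    rw [h, map_one]
  map_mul' x y := by rw [← pureGL_mul, map_mul]

theorem phi_apply (e : ι ≃ (Fin t → Fin m)) (P : GL ι F) (x : Fin t → GL (Fin m) F) :
    phi e P x = frameGL e P (pureGL x) := rfl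

theorem phi_val (e : ι ≃ (Fin t → Fin m)) (P : GL ι F) (x : Fin t → GL (Fin m) F) :
    ((phi e P x : GL ι F) : Matrix ι ι F) = frameAlg e P (pureMat fun i => (x i : Matrix (Fin m) (Fin m) F)) := by
  rw [phi_apply, frameGL_val, frameAlg_apply]
  rfl

theorem pureMat_smul_one (c : Fin t → F) :
    pureMat (fun i => c i • (1 : Matrix (Fin m) (Fin m) F)) = (∏ i, c i) • 1 := by
  rw [← pureMat_one]
  ext a b
  simp only [pureMat_apply, Matrix.smul_apply, smul_eq_mul, Finset.prod_mul_distrib]

theorem phi_scalars (e : ι ≃ (Fin t → Fin m)) (P : GL ι F) {x : Fin t → GL (Fin m) F}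
    (hx : ∀ i, x i ∈ scalars (Fin m) F) : phi e P x ∈ scalars ι F := by
  choose c hc using fun i => (mem_scalars_iff (x i)).1 (hx i)
  rw [mem_scalars_iff]
  refine ⟨∏ i, c i, ?_⟩
  rw [phi_val]
  have : (fun i => (x i : Matrix (Fin m) (Fin m) F)) = fun i => (c i : F) • (1 : Matrix (Fin m) (Fin m) F) := by
    funext i; exact hc i
  rw [this, pureMat_smul_one, map_smul, map_one, Units.coe_prod]

theorem phi_update_val (e : ι ≃ (Fin t → Fin m)) (P : GL ι F) (j : Fin t) (g : GL (Fin m) F) :
    ((phi e P (Function.update 1 j g) : GL ι F) : Matrix ι ι F) = frameAlg e P (slotMat j (g : Matrix (Fin m) (Fin m) F)) := by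
  rw [phi_val, slotMat]
  congr 2
  funext i
  by_cases h : i = j
  · subst h; simp
  · simp [Function.update_of_ne h]

theorem phi_update_injective (hm : 0 < m) (e : ι ≃ (Fin t → Fin m)) (P : GL ι F) (j : Fin t) {g : GL (Fin m) F}
    (h : phi e P (Function.update 1 j g) = 1) : g = 1 := by
  have h1 := congrArg Units.val h
  rw [phi_update_val, Units.val_one, ← map_one (frameAlg e P)] at h1
  have h2 := (frameAlg e P).injective h1
  apply Units.ext
  rw [Units.val_one]
  apply slotEmb_injective (F := F) hm j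
  rw [slotEmb_apply, h2, map_one]

/-- The tensor power of the group `R1`. -/
def RR (e : ι ≃ (Fin t → Fin 3)) (P : GL ι F) : Subgroup (GL ι F) :=
  (Subgroup.pi Set.univ (fun _ => R1 F)).map (phi e P)

theorem mem_RR {e : ι ≃ (Fin t → Fin 3)} {P : GL ι F} {g : GL ι F} :
    g ∈ RR e P ↔ ∃ x : Fin t → GL (Fin 3) F, (∀ i, x i ∈ R1 F) ∧ phi e P x = g := by
  rw [RR, Subgroup.mem_map]
  constructor
  · rintro ⟨x, hx, h⟩
    exact ⟨x, fun i => hx i (Set.mem_univ i), h⟩
  · rintro ⟨x, hx, h⟩
    exact ⟨x, fun i _ => hx i, h⟩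

theorem mem_of_pureMat (A : Subalgebra F (Matrix (Fin t → Fin m) (Fin t → Fin m) F))
    (hA : ∀ (i : Fin t) (y : Matrix (Fin m) (Fin m) F), slotMat i y ∈ A) (x : Fin t → Matrix (Fin m) (Fin m) F) :
    pureMat x ∈ A := by
  classical
  have key : ∀ s : Finset (Fin t), pureMat (fun i => if i ∈ s then x i else 1) ∈ A := by
    intro s
    induction s using Finset.induction_on with
    | empty =>
      simp only [Finset.notMem_empty, if_false]
      rw [pureMat_one]
      exact one_mem _
    | insert a s ha ih =>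
      have : pureMat (fun i => if i ∈ insert a s then x i else 1) =
          slotMat a (x a) * pureMat (fun i => if i ∈ s then x i else 1) := by
        rw [slotMat, pureMat_mul]
        congr 1
        funext i
        by_cases h : i = a
        · subst h; simp [ha]
        · simp [h]
      rw [this]
      exact mul_mem (hA _ _) ih
  have := key Finset.univ
  simpa using this

theorem eq_top_of_slot (A : Subalgebra F (Matrix (Fin t → Fin m) (Fin t → Fin m) F))
    (hA : ∀ (i : Fin t) (y : Matrix (Fin m) (Fin m) F), slotMat i y ∈ A) : A = ⊤ := by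
  classical
  rw [eq_top_iff]
  intro M _
  rw [Matrix.matrix_eq_sum_single M]
  refine sum_mem fun i _ => sum_mem fun j _ => ?_
  have h1 : (Matrix.single i j (M i j) : Matrix (Fin t → Fin m) (Fin t → Fin m) F) =
      M i j • pureMat (fun k => Matrix.single (i k) (j k) 1) := by
    ext a b
    rw [Matrix.smul_apply, pureMat_apply, smul_eq_mul, Matrix.single_apply]
    by_cases h : i = a ∧ j = b
    · rw [if_pos h, Finset.prod_eq_one, mul_one]
      intro k _
      rw [h.1, h.2, Matrix.single_apply, if_pos ⟨rfl, rfl⟩]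
    · rw [if_neg h]
      obtain ⟨k, hk⟩ : ∃ k, ¬ (i k = a k ∧ j k = b k) := by
        by_contra hcon
        push Not at hcon
        exact h ⟨funext fun k => (hcon k).1, funext fun k => (hcon k).2⟩
      rw [Finset.prod_eq_zero (Finset.mem_univ k), mul_zero]
      rw [Matrix.single_apply, if_neg hk]
  rw [h1]
  exact Subalgebra.smul_mem _ (mem_of_pureMat A hA _) _

section Four

variable [Fintype F] (h4 : Fintype.card F = 4)
include h4

theorem absIrr_RR (e : ι ≃ (Fin t → Fin 3)) (P : GL ι F) : ActsAbsolutelyIrreducibly (matrixSet (RR e P)) := by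
  rw [H919.absIrr_iff]
  set A := Algebra.adjoin F (matrixSet (RR e P)) with hA
  have h1 : A.comap (frameAlg e P).toAlgHom = ⊤ := by
    apply eq_top_of_slot
    intro i y
    have h2 : (Algebra.adjoin F (matrixSet (R1 F))) ≤
        (A.comap (frameAlg e P).toAlgHom).comap (slotEmb i) := by
      rw [Algebra.adjoin_le_iff]
      rintro _ ⟨g, hg, rfl⟩
      change frameAlg e P (slotMat i (g : Matrix (Fin 3) (Fin 3) F)) ∈ A
      rw [← phi_update_val]
      refine Algebra.subset_adjoin ⟨_, mem_RR.2 ⟨Function.update 1 i g, fun k => ?_, rfl⟩, rfl⟩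
      by_cases h : k = i
      · subst h; rw [Function.update_self]; exact hg
      · rw [Function.update_of_ne h]; exact one_mem _
    rw [adjoin_R1 h4] at h2
    exact h2 (Algebra.mem_top (x := y))
  rw [eq_top_iff]
  intro X _
  have h3 : (frameAlg e P).symm X ∈ A.comap (frameAlg e P).toAlgHom := by
    rw [h1]; exact Algebra.mem_top
  have h5 : frameAlg e P ((frameAlg e P).symm X) ∈ A := h3
  rwa [AlgEquiv.apply_symm_apply] at h5

theorem comm_RR {e : ι ≃ (Fin t → Fin 3)} {P : GL ι F} {x y : GL ι F} (hx : x ∈ RR e P) (hy : y ∈ RR e P) :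
    x * y * x⁻¹ * y⁻¹ ∈ scalars ι F := by
  obtain ⟨x, hx', rfl⟩ := mem_RR.1 hx
  obtain ⟨y, hy', rfl⟩ := mem_RR.1 hy
  rw [← map_mul, ← map_inv, ← map_mul, ← map_inv, ← map_mul]
  apply phi_scalars
  intro i
  exact comm_R1 h4 (hx' i) (hy' i)

theorem cube_RR {e : ι ≃ (Fin t → Fin 3)} {P : GL ι F} {x : GL ι F} (hx : x ∈ RR e P) : x ^ 3 = 1 := by
  obtain ⟨x, hx', rfl⟩ := mem_RR.1 hx
  rw [← map_pow]
  have : x ^ 3 = 1 := by
    funext i
    exact cube_R1 h4 (hx' i)
  rw [this, map_one]

theorem conj_RR {e : ι ≃ (Fin t → Fin 3)} {P : GL ι F} {g : Fin t → GL (Fin 3) F} (hg : ∀ i, IsSim (g i))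
    {x : GL ι F} (hx : x ∈ RR e P) : phi e P g * x * (phi e P g)⁻¹ ∈ RR e P := by
  obtain ⟨x, hx', rfl⟩ := mem_RR.1 hx
  rw [← map_mul, ← map_inv, ← map_mul]
  exact mem_RR.2 ⟨_, fun i => conj_mem h4 (hg i) (hx' i), rfl⟩

omit [Fintype F] h4 in
theorem isSim_one : IsSim (1 : GL (Fin 3) F) :=
  ⟨1, one_ne_zero, fun u v => by rw [Units.val_one, Matrix.one_mulVec, Matrix.one_mulVec, one_mul]⟩

omit [Fintype F] h4 in
theorem isSim_inv {g : GL (Fin 3) F} (hg : IsSim g) : IsSim g⁻¹ := by
  obtain ⟨c, hc, h⟩ := hg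
  refine ⟨c⁻¹, inv_ne_zero hc, fun u v => ?_⟩
  have h1 := h (((g⁻¹ : GL (Fin 3) F) : Matrix (Fin 3) (Fin 3) F) *ᵥ u)
    (((g⁻¹ : GL (Fin 3) F) : Matrix (Fin 3) (Fin 3) F) *ᵥ v)
  rw [Matrix.mulVec_mulVec, Matrix.mulVec_mulVec, ← Units.val_mul, mul_inv_cancel, Units.val_one,
    Matrix.one_mulVec, Matrix.one_mulVec] at h1
  rw [h1, inv_mul_cancel_left₀ hc]

omit [Fintype F] h4 in
theorem facPerm_conj_RR {e : ι ≃ (Fin t → Fin 3)} {P : GL ι F} (τ : Equiv.Perm (Fin t))
    {x : GL ι F} (hx : x ∈ RR e P) :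
    frameGL e P (facPerm F 3 τ) * x * (frameGL e P (facPerm F 3 τ))⁻¹ ∈ RR e P := by
  obtain ⟨x, hx', rfl⟩ := mem_RR.1 hx
  rw [phi_apply, ← map_mul, ← map_inv, ← map_mul, facPerm_mul_pureGL]
  exact mem_RR.2 ⟨_, fun i => hx' _, rfl⟩

/-- Every nonzero scalar lies in `RR`. -/
theorem scal_mem_RR (ht : 1 ≤ t) (e : ι ≃ (Fin t → Fin 3)) (P : GL ι F) (c : Fˣ) : scal ι c ∈ RR e P := by
  have hs : scal (Fin 3) c ∈ R1 F := by
    refine ⟨0, fun _ => c, ?_, ?_⟩
    · rw [Finset.prod_const, Finset.card_univ, Fintype.card_fin]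
      exact pow_three h4 c.ne_zero
    · rw [coe_scal, mono_scalar]
  rw [mem_RR]
  refine ⟨Function.update 1 ⟨0, ht⟩ (scal (Fin 3) c), fun k => ?_, ?_⟩
  · by_cases h : k = ⟨0, ht⟩
    · subst h; rw [Function.update_self]; exact hs
    · rw [Function.update_of_ne h]; exact one_mem _
  · apply Units.ext
    rw [phi_update_val, coe_scal, coe_scal, ← slotEmb_apply, map_smul, map_one, map_smul, map_one]

theorem card_center_RR (ht : 1 ≤ t) (e : ι ≃ (Fin t → Fin 3)) (P : GL ι F) :
    Nat.card (Subgroup.center (RR e P)) = 3 := by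
  have hne : Nonempty ι := ⟨e.symm fun _ => 0⟩
  have hcen := H920.center_eq (absIrr_RR h4 e P)
  let ψ : Fˣ → Subgroup.center (RR e P) := fun c =>
    ⟨⟨scal ι c, scal_mem_RR h4 ht e P c⟩, by rw [hcen]; exact scal_mem c⟩
  have hψ : Function.Bijective ψ := by
    constructor
    · intro c d h
      have h1 : scal ι c = scal ι d := congrArg (fun z : Subgroup.center (RR e P) => ((z : RR e P) : GL ι F)) h
      have h2 := congrArg Units.val h1
      rw [coe_scal, coe_scal] at h2
      obtain ⟨i⟩ := hne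
      have h3 := congrFun (congrFun h2 i) i
      rw [Matrix.smul_apply, Matrix.smul_apply, Matrix.one_apply_eq, smul_eq_mul, smul_eq_mul, mul_one, mul_one] at h3
      exact Units.ext h3
    · rintro ⟨⟨z, hz⟩, hzc⟩
      rw [hcen] at hzc
      obtain ⟨c, hc⟩ := hzc
      exact ⟨c, Subtype.ext (Subtype.ext hc)⟩
  rw [← Nat.card_congr (Equiv.ofBijective ψ hψ), Nat.card_units, Nat.card_eq_fintype_card, h4]

theorem symplecticType_RR (ht : 1 ≤ t) (e : ι ≃ (Fin t → Fin 3)) (P : GL ι F) :
    IsSymplecticTypeGroup 3 (RR e P) where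
  prime := Nat.prime_three
  pGroup := by
    intro g
    refine ⟨1, ?_⟩
    rw [pow_one]
    exact Subtype.ext (cube_RR h4 g.2)
  cyclic_of_characteristic := by
    intro A hA hcomm
    have hcomm' : ∀ a b : RR e P, a ∈ A → b ∈ A → a * b = b * a := by
      intro a b ha hb
      exact congrArg Subtype.val (hcomm.is_comm.comm (⟨a, ha⟩ : A) ⟨b, hb⟩)
    -- `A` consists of scalars
    have hs : ∀ a : RR e P, a ∈ A → (a : GL ι F) ∈ scalars ι F := by
      intro a ha
      by_contra has
      obtain ⟨x, hx, hxa⟩ := mem_RR.1 a.2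
      obtain ⟨j, hj⟩ : ∃ j, x j ∉ scalars (Fin 3) F := by
        by_contra hcon
        push Not at hcon
        apply has
        rw [← hxa]
        exact phi_scalars e P hcon
      obtain ⟨g, hg, hgx⟩ := exists_not_commute h4 (hx j) hj
      -- conjugation by the slot element
      have hupd : ∀ {g : GL (Fin 3) F}, IsSim g → ∀ i, IsSim ((Function.update (1 : Fin t → GL (Fin 3) F) j g) i) := by
        intro g hg i
        by_cases h : i = j
        · subst h; rw [Function.update_self]; exact hg
        · rw [Function.update_of_ne h]; exact isSim_one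
      set γ : GL ι F := phi e P (Function.update 1 j g) with hγ
      have hinv : γ⁻¹ = phi e P (Function.update 1 j g⁻¹) := by
        rw [hγ, ← map_inv]
        congr 1
        funext i
        by_cases h : i = j
        · subst h; simp
        · simp [Function.update_of_ne h]
      let α : RR e P ≃* RR e P :=
        { toFun := fun r => ⟨γ * r * γ⁻¹, conj_RR h4 (hupd hg) r.2⟩
          invFun := fun r => ⟨γ⁻¹ * r * γ, by
            have := conj_RR h4 (e := e) (P := P) (hupd (isSim_inv hg)) r.2
            rw [← hinv, inv_inv] at this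
            exact this⟩
          left_inv := fun r => Subtype.ext (by simp [mul_assoc])
          right_inv := fun r => Subtype.ext (by simp [mul_assoc])
          map_mul' := fun r s => Subtype.ext (by simp [mul_assoc]) }
      have hα : α a ∈ A := by
        have h1 := hA.fixed α
        have h2 : a ∈ A.comap α.toMonoidHom := by rw [h1]; exact ha
        exact h2
      have h3 := congrArg Subtype.val (hcomm' _ _ hα ha)
      have h5 : (α a : GL ι F) = phi e P (Function.update x j (g * x j * g⁻¹)) := by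
        change γ * (a : GL ι F) * γ⁻¹ = _
        rw [← hxa, hγ, ← map_inv, ← map_mul, ← map_mul]
        congr 1
        funext i
        by_cases h : i = j
        · subst h; simp
        · simp [Function.update_of_ne h]
      rw [Subgroup.coe_mul, Subgroup.coe_mul, h5, ← hxa, ← map_mul, ← map_mul] at h3
      apply hgx
      have h6 : phi e P (Function.update 1 j ((g * x j * g⁻¹) * x j * (x j * (g * x j * g⁻¹))⁻¹)) = 1 := by
        have h7 : (Function.update (1 : Fin t → GL (Fin 3) F) j ((g * x j * g⁻¹) * x j * (x j * (g * x j * g⁻¹))⁻¹)) =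
            (Function.update x j (g * x j * g⁻¹) * x) * (x * Function.update x j (g * x j * g⁻¹))⁻¹ := by
          funext i
          by_cases h : i = j
          · subst h; simp
          · simp [Function.update_of_ne h]
        rw [h7, map_mul, map_inv, h3, mul_inv_cancel]
      have h8 := phi_update_injective (by norm_num) e P j h6
      exact mul_inv_eq_one.1 h8
    -- hence `A` is cyclic
    have hcyc : IsCyclic (scalars ι F) := by
      have : IsCyclic Fˣ := inferInstance
      exact isCyclic_of_surjective _ (MonoidHom.rangeRestrict_surjective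
        (Units.map (Matrix.scalar ι : F →+* Matrix ι ι F).toMonoidHom))
    let ψ : A →* scalars ι F :=
      { toFun := fun a => ⟨((a : RR e P) : GL ι F), hs _ a.2⟩
        map_one' := rfl
        map_mul' := fun _ _ => rfl }
    apply isCyclic_of_injective ψ
    intro a b h
    apply Subtype.ext
    apply Subtype.ext
    exact congrArg (fun z : scalars ι F => (z : GL ι F)) h
  exponent_eq := by
    have h1 : Monoid.exponent (RR e P) ∣ 3 := by
      apply Monoid.exponent_dvd_of_forall_pow_eq_one
      intro g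
      exact Subtype.ext (cube_RR h4 g.2)
    rw [show 3 * Nat.gcd 2 3 = 3 by norm_num]
    rcases (Nat.dvd_prime Nat.prime_three).1 h1 with h | h
    · exfalso
      rw [Monoid.exp_eq_one_iff] at h
      have h2 := card_center_RR h4 ht e P
      have : Subsingleton (Subgroup.center (RR e P)) := inferInstance
      rw [Nat.card_of_subsingleton 1] at h2
      norm_num at h2
    · exact h

end Four

/-- The matrix form of an isometry. -/
theorem matrix_of_herm {F : Type*} [Field F] [Fintype F] (hF : Fintype.card F = 2 ^ 2) {g : GL (Fin 3) F} {c : F} :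
    (∀ u v, hermForm 3 F 2 ((g : Matrix (Fin 3) (Fin 3) F) *ᵥ u) ((g : Matrix (Fin 3) (Fin 3) F) *ᵥ v) =
      c * hermForm 3 F 2 u v) ↔
    (g : Matrix (Fin 3) (Fin 3) F)ᵀ * (g : Matrix (Fin 3) (Fin 3) F).map (conj hF) = c • 1 := by
  have hdot : ∀ u v : Fin 3 → F, hermForm 3 F 2 u v = u ⬝ᵥ (fun i => conj hF (v i)) := fun u v => rfl
  have key : ∀ u v : Fin 3 → F,
      hermForm 3 F 2 ((g : Matrix (Fin 3) (Fin 3) F) *ᵥ u) ((g : Matrix (Fin 3) (Fin 3) F) *ᵥ v) =
      u ⬝ᵥ (((g : Matrix (Fin 3) (Fin 3) F)ᵀ * (g : Matrix (Fin 3) (Fin 3) F).map (conj hF)) *ᵥ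
        (fun i => conj hF (v i))) := by
    intro u v
    rw [hdot, mulVec_map_apply, ← Matrix.mulVec_mulVec, Matrix.dotProduct_mulVec u, Matrix.vecMul_transpose]
  constructor
  · intro h
    ext i j
    have h1 := h (Pi.single i 1) (Pi.single j 1)
    rw [key] at h1
    have h2 : (fun k => conj hF ((Pi.single j (1 : F) : Fin 3 → F) k)) = Pi.single j 1 := by
      funext k
      by_cases hk : k = j
      · subst hk; simp
      · simp [Pi.single_eq_of_ne hk]
    rw [hdot, h2] at h1
    simpa [Matrix.one_apply, Pi.single_apply, eq_comm] using h1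
  · intro h u v
    rw [key, h, Matrix.smul_mulVec, Matrix.one_mulVec, dotProduct_smul, smul_eq_mul, hdot]

/-- **Three-dimensional factors over the field with four elements.** -/
theorem exists_symplectic_of_wreath_three {ι : Type} [Fintype ι] [DecidableEq ι] {F : Type*} [Field F] [Fintype F]
    {q : ℕ} (hF : Fintype.card F = q ^ 2) (hq : q = 2) {t : ℕ} (ht : 1 ≤ t) {f : (ι → F) → (ι → F) → F}
    {e : ι ≃ (Fin t → Fin 3)} {P : GL ι F} {f₁ : (Fin 3 → F) → (Fin 3 → F) → F} (hf₁ : HermForm (conj hF) 1 f₁)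
    (hP : IsTensorPowerFormStructure (conj hF) f f₁ e P) {H : Subgroup (GL ι F)}
    (hH : H ≤ tensorWreathSubgroup 3 t e P)
    (hHf : ∀ h ∈ H, ∀ u v, f ((h : Matrix ι ι F) *ᵥ u) ((h : Matrix ι ι F) *ᵥ v) = f u v) :
    ∃ R : Subgroup (GL ι F), IsSymplecticTypeGroup 3 R ∧ ActsAbsolutelyIrreducibly (matrixSet R) ∧
      R ≤ similarityGroup f ∧ Nat.card (Subgroup.center R) = 3 ∧ Nat.card R = 3 ^ (1 + 2 * t) ∧
      H ≤ subgroupNormalizer R := by
  classical
  subst hq
  have h4 : Fintype.card F = 4 := by rw [hF]; norm_num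
  obtain ⟨B, hB⟩ := exists_isometry hF hf₁
  have hP' := isTensorPowerFormStructure_powBasis hP B (gram_of_isometry hF hf₁ hB)
  rw [← tensorWreathSubgroup_powBasis e P B] at hH
  set P' := powBasis e P B with hP'def
  have hG1 : gramMatrix (hermForm 3 F 2) = (1 : Matrix (Fin 3) (Fin 3) F) := by
    ext i j
    rw [gramMatrix, herm_single, Pi.single_apply, Matrix.one_apply]
    simp [eq_comm]
  have hne : Nonempty ι := ⟨e.symm fun _ => 0⟩
  have habs := absIrr_RR h4 e P'
  have hcen := H920.center_eq habs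
  have hfin : Finite (RR e P') := inferInstance
  refine ⟨RR e P', symplecticType_RR h4 ht e P', habs, ?_, card_center_RR h4 ht e P', ?_, ?_⟩
  · -- isometries
    intro g hg
    obtain ⟨x, hx, rfl⟩ := mem_RR.1 hg
    obtain ⟨c, hc, hstr⟩ := hP'
    refine ⟨1, fun u v => ?_⟩
    rw [Units.val_one, one_mul]
    have hu : ∀ u : ι → F, ∃ u' : (Fin t → Fin 3) → F, u = (P' : Matrix ι ι F) *ᵥ (u' ∘ e) := by
      intro u
      refine ⟨(((P'⁻¹ : GL ι F) : Matrix ι ι F) *ᵥ u) ∘ e.symm, ?_⟩
      have : ((((P'⁻¹ : GL ι F) : Matrix ι ι F) *ᵥ u) ∘ e.symm) ∘ e = ((P'⁻¹ : GL ι F) : Matrix ι ι F) *ᵥ u := by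
        funext i; simp
      rw [this, Matrix.mulVec_mulVec, ← Units.val_mul, mul_inv_cancel, Units.val_one, Matrix.one_mulVec]
    obtain ⟨u', rfl⟩ := hu u
    obtain ⟨v', rfl⟩ := hu v
    rw [phi_apply, frameGL_mulVec, frameGL_mulVec, tensorPower_sesq hstr, tensorPower_sesq hstr, hG1, pureMat_one,
      Matrix.one_mulVec, Matrix.one_mulVec, mulVec_map_apply, ← Matrix.vecMul_transpose, ← Matrix.dotProduct_mulVec,
      Matrix.mulVec_mulVec, pureGL_val, H922.pureMat_transpose, pureMat_map, pureMat_mul]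
    have h1 : (fun i => (x i : Matrix (Fin 3) (Fin 3) F)ᵀ * (x i : Matrix (Fin 3) (Fin 3) F).map (conj hF)) =
        fun _ => 1 := by
      funext i
      obtain ⟨b, d, hd, hxd⟩ := hx i
      have h2 := (matrix_of_herm hF (g := x i) (c := 1)).1 (fun u v => by
        rw [hxd, herm_mono h4 (ne_zero_of_prod hd), one_mul])
      rw [h2, one_smul]
    rw [h1, pureMat_one, Matrix.one_mulVec]
  · -- the order
    have hcomm : ∀ x y : RR e P', x * y * x⁻¹ * y⁻¹ ∈ Subgroup.center (RR e P') := by
      intro x y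
      rw [hcen]
      exact comm_RR h4 x.2 y.2
    rw [card_eq_of_class_two (RR e P') habs hcomm, card_center_RR h4 ht e P', Fintype.card_congr e,
      Fintype.card_fun, Fintype.card_fin, Fintype.card_fin, pow_add, pow_one, ← pow_mul, mul_comm t 2]
  · -- the normaliser
    have hGne : gramMatrix (hermForm 3 F 2) ≠ (0 : Matrix (Fin 3) (Fin 3) F) := by
      rw [hG1]; exact one_ne_zero
    have key : ∀ h ∈ H, ∀ r ∈ RR e P', h * r * h⁻¹ ∈ RR e P' := by
      intro h hh r hr
      obtain ⟨x, τ, hxτ, hx⟩ := exists_wreath_normal_form hGne hP' (hH hh) (hHf h hh)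
      have hsim : ∀ i, IsSim (x i) := by
        intro i
        obtain ⟨c, hc, hxi⟩ := hx i
        rw [hG1, mul_one] at hxi
        exact ⟨c, hc, (matrix_of_herm hF).2 hxi⟩
      rw [hxτ, map_mul]
      have h1 := facPerm_conj_RR τ hr
      have h2 := conj_RR h4 hsim h1
      rw [phi_apply] at h2
      convert h2 using 1
      group
    intro h hh
    change h ∈ Subgroup.normalizer (RR e P' : Set (GL ι F))
    rw [Subgroup.mem_normalizer_iff]
    intro r
    refine ⟨key h hh r, fun hr => ?_⟩
    have := key h⁻¹ (inv_mem hh) _ hr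
    rw [inv_inv] at this
    have h3 : h⁻¹ * (h * r * h⁻¹) * h = r := by group
    rwa [h3] at this

end Cfsg.Agent.H921
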